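import Cfsg.Agent.Co1Invol.Vectors
import Cfsg.Agent.Geo.ExtraOut
import Cfsg.Agent.Quad.IsoCriterion
import Cfsg.Agent.LargeExtra.SimpleCriterion

/-!
Coordinates on the central quotient in a group of first Conway type.
-/

set_option autoImplicit false
set_option linter.style.haveILetI false

namespace CfsgLib.Co1Invol

open CfsgLib CfsgLib.Quad Subgroup

variable {G : Type*} [Group G]

/-- Coordinates of the involution centraliser setting. -/
structure Dat (z : G) where
  /-- The extraspecial subgroup. -/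
  Q : Subgroup G
  pre : LargeExtra.Pre Q z
  card : Nat.card Q = 512
  /-- The projection. -/
  π : G → M8
  π_mul : ∀ a ∈ Q, ∀ b ∈ Q, π (a * b) = π a + π b
  π_surj : ∀ m, ∃ q ∈ Q, π q = m
  π_eq_zero : ∀ q ∈ Q, (π q = 0 ↔ q = 1 ∨ q = z)
  sq_iff : ∀ q ∈ Q, (q * q = 1 ↔ qf (π q) = 0)
  comm_iff : ∀ a ∈ Q, ∀ b ∈ Q, (a * b = b * a ↔ bf (π a) (π b) = 0)
  /-- The action. -/
  act : centralizer ({z} : Set G) →* O8
  act_π : ∀ (c : centralizer ({z} : Set G)) (q : G), q ∈ Q → π (c * q * (c : G)⁻¹) = (act c).1 (π q)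
  act_eq_one : ∀ c : centralizer ({z} : Set G), act c = 1 ↔ (c : G) ∈ Q
  act_mem : ∀ c, act c ∈ commutator (oGroup q8)
  act_surj : ∀ h ∈ commutator (oGroup q8), ∃ c, act c = h

theorem card_O8 : Nat.card O8 = 348364800 := by
  have h : (Nat.card O8 : ℤ) = _ :=
    card_oGroup_plus (F := ZMod 2) (q := 2) (by simp) 3
  norm_num [Finset.prod_range_succ] at h
  exact_mod_cast h

theorem card_omega8 : Nat.card ↥(commutator (oGroup q8)) = 174182400 := by
  have h := Subgroup.index_mul_card (commutator (oGroup q8))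
  rw [index_commutator_char_two nondeg8 (by simp) hgen8, card_O8] at h
  omega

variable [Finite G]

theorem exists_dat {z : G} (hz : orderOf z = 2) (Q : Subgroup (centralizer ({z} : Set G))) [Q.Normal]
    (hF : Cfsg.generalizedFittingSubgroup (centralizer ({z} : Set G)) = Q)
    (hQ : Cfsg.IsExtraspecial 2 Q) (hcard : Nat.card Q = 2 ^ 9)
    (e : (centralizer ({z} : Set G)) ⧸ Q ≃* Cfsg.Omega (ZMod 2) (Cfsg.quadFormPlus 4 (ZMod 2))) :
    ∃ D : Dat z, D.Q = Q.map (centralizer ({z} : Set G)).subtype := by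
  classical
  set QG := Q.map (centralizer ({z} : Set G)).subtype with hQG
  have hQe : Cfsg.IsExtraspecial 2 QG :=
    LargeExtra.isExtraspecial_equiv (Q.equivMapOfInjective _ (centralizer ({z} : Set G)).subtype_injective) hQ
  have hpre : LargeExtra.Pre QG z := LargeExtra.pre_of_fstar hz (by rw [hF]) hQe
  have hzC : z ∈ (centralizer ({z} : Set G)) := mem_centralizer_singleton_iff.2 rfl
  obtain ⟨V, _, _, ⟨D⟩⟩ := Geo.ExtraOut.exists_data hQ
  obtain ⟨hfin, hV⟩ := D.card_V (n := 4) (by rw [hcard])
  haveI := hfin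
  haveI : FiniteDimensional (ZMod 2) V := Module.Finite.of_finite
  have hdim : Module.finrank (ZMod 2) V = 2 * 4 := by
    have h := Module.natCard_eq_pow_finrank (K := ZMod 2) (V := V)
    rw [hV, Nat.card_zmod] at h
    exact (Nat.pow_right_injective le_rfl h).symm
  let α : (centralizer ({z} : Set G)) →* oGroup D.form := D.toO.comp MulAut.conjNormal
  have hα : ∀ c (a : Q), (α c).1 (D.proj a) = D.proj (MulAut.conjNormal c a) := fun c a => D.toO_apply _ a
  have hker : α.ker = Q := by
    ext c
    constructor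
    · intro hc
      have h1 : MulAut.conjNormal c ∈ Cfsg.Inn Q := D.ker_toO ▸ (show MulAut.conjNormal c ∈ D.toO.ker from hc)
      obtain ⟨x, hx⟩ := MonoidHom.mem_range.1 h1
      have hxc : ((x : (centralizer ({z} : Set G))) : G)⁻¹ * (c : G) ∈ QG := by
        refine hpre.self (mem_centralizer_iff.2 ?_)
        rintro _ ⟨q, hq, rfl⟩
        have e1 : (x : (centralizer ({z} : Set G))) * q * (x : (centralizer ({z} : Set G)))⁻¹ = c * q * c⁻¹ :=
          by
            have := congrArg Subtype.val (DFunLike.congr_fun hx (⟨q, hq⟩ : Q))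
            simpa [MulAut.conjNormal_apply] using this
        have e2 : ((x : (centralizer ({z} : Set G))) : G) * (q : G) * ((x : (centralizer ({z} : Set G))) : G)⁻¹ = (c : G) * q * (c : G)⁻¹ :=
          congrArg Subtype.val e1
        show (q : G) * (((x : (centralizer ({z} : Set G))) : G)⁻¹ * c) = ((x : (centralizer ({z} : Set G))) : G)⁻¹ * c * q
        calc (q : G) * (((x : (centralizer ({z} : Set G))) : G)⁻¹ * c)
            = ((x : (centralizer ({z} : Set G))) : G)⁻¹ * (((x : (centralizer ({z} : Set G))) : G) * q * ((x : (centralizer ({z} : Set G))) : G)⁻¹) * c := by group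
          _ = ((x : (centralizer ({z} : Set G))) : G)⁻¹ * c * q := by rw [e2]; group
      obtain ⟨y, hy, hyc⟩ := hxc
      have : c = (x : (centralizer ({z} : Set G))) * y := Subtype.ext (by
        show (c : G) = ((x : (centralizer ({z} : Set G))) : G) * (y : G)
        rw [show (y : G) = _ from hyc, mul_inv_cancel_left])
      rw [this]; exact mul_mem x.2 hy
    · intro hc
      show MulAut.conjNormal c ∈ D.toO.ker
      rw [D.ker_toO]
      exact ⟨⟨c, hc⟩, MulEquiv.ext fun a => Subtype.ext rfl⟩
  haveI : Finite (oGroup D.form) := Finite.of_injective (fun g : oGroup D.form => (g.1 : V → V))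
    fun g h e => Subtype.ext (LinearEquiv.ext fun v => congrFun e v)
  let f : (centralizer ({z} : Set G)) ⧸ Q →* oGroup D.form := QuotientGroup.lift Q α hker.ge
  have hfker : f.ker = ⊥ := (MonoidHom.ker_eq_bot_iff f).2 ((injective_iff_map_eq_one _).2 fun x hx => by
    obtain ⟨g, rfl⟩ := QuotientGroup.mk_surjective x
    exact (QuotientGroup.eq_one_iff g).2 (hker ▸ hx))
  let e' : (centralizer ({z} : Set G)) ⧸ Q ≃* ↥(commutator (oGroup q8)) := e.trans (by
    rw [← plusQ_coe]; exact omegaEquiv _)
  have hcq : Nat.card ((centralizer ({z} : Set G)) ⧸ Q) = 174182400 := by rw [Nat.card_congr e'.toEquiv, card_omega8]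
  rcases (QuadStd.classify_even D.nondeg hdim).symm with ⟨ζ, φ, -, hζ, hφ⟩ | ⟨φ, hφ⟩
  · exfalso
    obtain rfl := QuadStd.Two.zeta_one hζ
    haveI : Finite ↥(oGroup (minusQ (F := ZMod 2) 3 1 1)) := Finite.of_injective
      (fun g : oGroup (minusQ (F := ZMod 2) 3 1 1) => (g.1 : _ → _))
      fun g h e => Subtype.ext (LinearEquiv.ext fun v => congrFun e v)
    have hc : (Nat.card (oGroup (minusQ (F := ZMod 2) 3 1 1)) : ℤ) = _ :=
      card_oGroup_minus (F := ZMod 2) (q := 2) (by simp) (by decide) 3
    norm_num [Finset.prod_range_succ] at hc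
    have hd := Subgroup.card_dvd_of_injective ((oGroupCongr φ fun v => (hφ v).symm).toMonoidHom.comp f)
      ((oGroupCongr φ fun v => (hφ v).symm).injective.comp ((MonoidHom.ker_eq_bot_iff f).1 hfker))
    rw [hcq, show Nat.card (oGroup (minusQ (F := ZMod 2) 3 1 1)) = 394813440 by exact_mod_cast hc] at hd
    norm_num at hd
  · let ψ : oGroup D.form ≃* O8 := oGroupCongr φ fun v => (hφ v).symm
    have hperf : commutator ((centralizer ({z} : Set G)) ⧸ Q) = ⊤ := by
      have h := commutator_commutator_eq_top (Q := q8) nondeg8 (by simp)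
      rw [eq_top_iff]
      intro x _
      have hx : e' x ∈ commutator ↥(commutator (oGroup q8)) := h.symm ▸ Subgroup.mem_top _
      exact (Quad.mem_commutator_equiv e' x).1 hx
    haveI : Finite O8 := Finite.of_equiv _ ψ.toEquiv
    have hrange : (ψ.toMonoidHom.comp f).range = commutator (oGroup q8) := by
      refine range_eq_commutator_perfect _ hperf ?_
      rw [(MonoidHom.ker_eq_bot_iff _).2 (ψ.injective.comp ((MonoidHom.ker_eq_bot_iff f).1 hfker)),
        Subgroup.card_bot, one_mul, hcq, card_O8]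
    let act : (centralizer ({z} : Set G)) →* O8 := ψ.toMonoidHom.comp α
    let pr : G → M8 := fun q => if h : ∃ hc : q ∈ (centralizer ({z} : Set G)), (⟨q, hc⟩ : (centralizer ({z} : Set G))) ∈ Q then φ (D.proj ⟨⟨q, h.1⟩, h.2⟩) else 0
    have hpr : ∀ a : Q, pr ((a : (centralizer ({z} : Set G))) : G) = φ (D.proj a) := fun a => dif_pos ⟨(a : (centralizer ({z} : Set G))).2, a.2⟩
    have hmemQ : ∀ q ∈ QG, ∃ a : Q, ((a : (centralizer ({z} : Set G))) : G) = q := by
      rintro _ ⟨a, ha, rfl⟩; exact ⟨⟨a, ha⟩, rfl⟩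
    have hform : ∀ a : Q, qf (pr ((a : (centralizer ({z} : Set G))) : G)) = Geo.ExtraOut.bit (a ^ 2) := fun a => by
      rw [hpr, ← q8_eq, ← hφ, D.form_proj]
    refine ⟨{
      Q := QG
      pre := hpre
      card := by rw [hQG, card_map_of_injective (centralizer ({z} : Set G)).subtype_injective, hcard]; norm_num
      π := pr
      π_mul := ?_
      π_surj := ?_
      π_eq_zero := ?_
      sq_iff := ?_
      comm_iff := ?_
      act := act
      act_π := ?_
      act_eq_one := ?_
      act_mem := ?_
      act_surj := ?_ }, rfl⟩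
    · intro a ha b hb
      obtain ⟨a, rfl⟩ := hmemQ a ha
      obtain ⟨b, rfl⟩ := hmemQ b hb
      rw [show ((a : (centralizer ({z} : Set G))) : G) * ((b : (centralizer ({z} : Set G))) : G) = (((a * b : Q) : (centralizer ({z} : Set G))) : G) from rfl, hpr, hpr, hpr,
        D.proj_mul, map_add]
    · intro m
      obtain ⟨a, ha⟩ := D.proj_surj (φ.symm m)
      exact ⟨_, mem_map_of_mem (centralizer ({z} : Set G)).subtype a.2, by rw [show ((centralizer ({z} : Set G)).subtype (a : (centralizer ({z} : Set G)))) = ((a : (centralizer ({z} : Set G))) : G) from rfl, hpr, ha, φ.apply_symm_apply]⟩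
    · intro q hq
      obtain ⟨a, rfl⟩ := hmemQ q hq
      rw [hpr, φ.map_eq_zero_iff, D.proj_eq_zero]
      constructor
      · intro h
        refine hpre.gen.center_iff _ hq fun y hy => ?_
        obtain ⟨b, rfl⟩ := hmemQ y hy
        exact (congrArg (fun t : Q => ((t : (centralizer ({z} : Set G))) : G)) (mem_center_iff.1 h b)).symm
      · intro h
        refine mem_center_iff.2 fun b => Subtype.ext (Subtype.ext ?_)
        show ((b : (centralizer ({z} : Set G))) : G) * ((a : (centralizer ({z} : Set G))) : G) = ((a : (centralizer ({z} : Set G))) : G) * ((b : (centralizer ({z} : Set G))) : G)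
        rcases h with h | h <;> rw [h]
        · rw [mul_one, one_mul]
        · exact mem_centralizer_singleton_iff.1 (b : (centralizer ({z} : Set G))).2
    · intro q hq
      obtain ⟨a, rfl⟩ := hmemQ q hq
      rw [hform, ← pow_two, show ((a : (centralizer ({z} : Set G))) : G) ^ 2 = (((a ^ 2 : Q) : (centralizer ({z} : Set G))) : G) from rfl]
      constructor
      · intro h
        rw [show a ^ 2 = 1 from Subtype.ext (Subtype.ext h), Geo.ExtraOut.bit_one]
      · intro h
        rw [D.bit_inj (D.sq_mem a) (one_mem _) (h.trans Geo.ExtraOut.bit_one.symm)]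
        rfl
    · intro a ha b hb
      obtain ⟨a, rfl⟩ := hmemQ a ha
      obtain ⟨b, rfl⟩ := hmemQ b hb
      rw [hpr, hpr, ← polar_eq, QuadraticMap.polar, ← map_add, ← hφ, ← hφ, ← hφ,
        show D.form (D.proj a + D.proj b) - D.form (D.proj a) - D.form (D.proj b) =
          QuadraticMap.polar D.form (D.proj a) (D.proj b) from rfl, D.polar_form]
      constructor
      · intro h
        rw [commutatorElement_eq_one_iff_mul_comm.2 (Subtype.ext (Subtype.ext h)), Geo.ExtraOut.bit_one]
      · intro h
        have := commutatorElement_eq_one_iff_mul_comm.1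
          (D.bit_inj (D.comm_mem a b) (one_mem _) (h.trans Geo.ExtraOut.bit_one.symm))
        exact congrArg (fun t : Q => ((t : (centralizer ({z} : Set G))) : G)) this
    · intro c q hq
      obtain ⟨a, rfl⟩ := hmemQ q hq
      rw [show (c : G) * ((a : (centralizer ({z} : Set G))) : G) * (c : G)⁻¹ = (((MulAut.conjNormal c a : Q) : (centralizer ({z} : Set G))) : G) from rfl, hpr, hpr]
      show _ = φ ((α c).1 (φ.symm (φ (D.proj a))))
      rw [φ.symm_apply_apply, hα]
    · intro c
      show ψ (α c) = 1 ↔ _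
      rw [MulEquiv.map_eq_one_iff, ← MonoidHom.mem_ker, hker, hQG]
      exact ⟨fun h => ⟨c, h, rfl⟩, fun ⟨y, hy, e⟩ => (Subtype.ext e : y = c) ▸ hy⟩
    · intro c
      rw [← hrange]
      exact ⟨(c : (centralizer ({z} : Set G)) ⧸ Q), rfl⟩
    · intro h hh
      rw [← hrange] at hh
      obtain ⟨x, rfl⟩ := hh
      obtain ⟨c, rfl⟩ := QuotientGroup.mk_surjective x
      exact ⟨c, rfl⟩

end CfsgLib.Co1Invol
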