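import Cfsg.Agent.Co1Invol.Lower

/-!
A group of first Conway type has exactly three classes of involutions.
-/

set_option autoImplicit false
set_option linter.style.haveILetI false
set_option synthInstance.maxSize 4096
set_option maxRecDepth 100000

namespace CfsgLib.Co1Invol

open CfsgLib CfsgLib.Quad Subgroup

variable {G : Type*} [Group G] [Finite G] {z : G} {D : Dat z} (B : Base D)

/-- The classes of the central involution in the product of the radical parts. -/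
def ClassOne (w v : M8) : Prop := qf w = 0 ∧ qf v = 0 ∧ (w = 0 ∨ v = 0 ∨ v = w)

instance (w v : M8) : Decidable (ClassOne w v) := by unfold ClassOne; infer_instance

omit [Finite G] in
theorem classOne_shift : ∀ w ∈ wList, ∀ v ∈ wList, ClassOne w v → ClassOne (w + w2) (v + v2) → False := by
  decide +kernel

omit [Finite G] in
theorem pair22_facts : qf (v2 + w2) = 1 ∧ bf w2 (v2 + w2) = 1 := by decide +kernel

variable (St : Pr B w2 v2) (Su : Pr B x1 x2)

include St Su in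
theorem Base.classOne_of_conj {b a : G} (hb : b ∈ B.P) (ha : a ∈ B.A) (hsq : b * a * (b * a) = 1)
    (hc : IsConj z (b * a)) : ClassOne (red (B.wv b)) (red (D.π a)) := by
  have hnt := B.not_conj_z St Su (B.t_obstruction St)
  have hnu := B.not_conj_z St Su (B.u_obstruction Su)
  obtain ⟨h1, h2⟩ := (B.pair_sq_iff hb ha).1 hsq
  have hwW := red_mem _ (B.act_P hb).1.1
  have hvW := red_mem _ (B.mem_A.1 ha).2
  by_cases hw : red (B.wv b) = 0
  · refine ⟨by rw [hw, qf_zero], ?_, Or.inl hw⟩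
    rw [h2, hw, bf_zero_left]
  have back : ∀ {w v : M8} (S : Pr B w v) {h : O8}, h ∈ lev → h.1 w = red (B.wv b) → h.1 v = red (D.π a) →
      red (D.π a) ≠ 0 → red (D.π a) ≠ red (B.wv b) → ¬ IsConj z S.el → False := by
    intro w v S h hh e1 e2 h0 h1 hn
    rw [← S.wb] at e1
    rw [← S.πa] at e2
    obtain ⟨c, -, he⟩ := B.conj_pairs S.hb S.ha hb ha hh e1 e2 hw h0 h1
    exact hn (hc.trans (isConj_iff.2 ⟨c, he⟩).symm)
  rcases zmod2_cases (qf (red (B.wv b))) with hq | hq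
  · refine ⟨hq, by rw [h2, ← h1, hq], Or.inr ?_⟩
    by_contra hva
    push Not at hva
    obtain ⟨h, hh, e1, e2⟩ := singular_transitive hwW hvW hq (by rw [h2, ← h1, hq]) (by rw [← h1, hq]) hw
      hva.1 hva.2
    exact back Su hh e1 e2 hva.1 hva.2 hnu
  · exfalso
    have hvq : qf (red (D.π a)) = 1 := by rw [h2, ← h1, hq]
    have hwv : bf (red (B.wv b)) (red (D.π a)) = 1 := by rw [← h1, hq]
    obtain ⟨h, hh, e1, e2⟩ := elliptic_transitive hwW hvW hq hvq hwv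
    exact back St hh e1 e2 (fun e => by rw [e, qf_zero] at hvq; exact zero_ne_one hvq)
      (fun e => by rw [e, bf_self] at hwv; exact zero_ne_one hwv) hnt

include Su in
/-- A totally singular involution centralising the elliptic one lies in the radical of the frame. -/
theorem Base.mem_R_of_ts {y : G} (hy : y ∈ centralizer ({z} : Set G)) (hy2 : y * y = 1)
    (hyt : y * St.el = St.el * y) (hts : ∀ m, qf (disp (hact D y) m) = 0) : y ∈ B.R := by
  set h := hact D y with hhd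
  have hh2 : h * h = 1 := hact_sq hy hy2
  have htC := St.el_mem
  have htb : hact D St.el = hact D St.b := by
    rw [Pr.el, hact_mul St.hb.2 (mem_C D St.ha.1), hact_Q St.ha.1, mul_one]
  have hcomm : h * hact D St.b = hact D St.b * h := by
    rw [← htb, hhd, ← hact_mul hy htC, hyt, hact_mul htC hy]
  obtain ⟨hadm, hu⟩ := B.act_P St.hb
  set W := B.wv St.b with hW
  have hWq : qf W = 1 := by rw [← qf_red hadm.1, St.wb, pair_facts.1]
  have hTb : ∀ m, disp (hact D St.b) m = bf (m + bf m e0 • f0) W • e0 + bf m e0 • W := fun m => by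
    rw [disp_apply, hact_eq St.hb.2, hu, uMap]
    abel_nf
    simp [two_smul, add_self]
  have hx3 : bf x3 e0 = 0 ∧ bf x3 w2 = 1 := by decide +kernel
  have hT3 : disp (hact D St.b) x3 = e0 := by
    rw [hTb, hx3.1, zero_smul, zero_smul, add_zero, add_zero, ← bf_red_right hx3.1, St.wb, hx3.2, one_smul]
  have he : h.1 e0 = e0 := by
    have hc : ∀ m, h.1 (disp (hact D St.b) m) = disp (hact D St.b) (h.1 m) := fun m => by
      rw [disp_apply, disp_apply, map_add]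
      show (h * hact D St.b).1 m + _ = _
      rw [hcomm]; rfl
    have h1 : h.1 e0 = bf (h.1 x3 + bf (h.1 x3) e0 • f0) W • e0 + bf (h.1 x3) e0 • W := by
      rw [← hTb, ← hc, hT3]
    have hq : qf (h.1 e0) = 0 := by rw [qf_oGroup, q_e0]
    have hne : h.1 e0 ≠ 0 := fun e => e0_ne (h.1.injective (e.trans (map_zero _).symm))
    rcases zmod2_cases (bf (h.1 x3) e0) with e | e
    · rw [e, zero_smul, zero_smul, add_zero, add_zero] at h1
      rcases zmod2_cases (bf (h.1 x3) W) with f | f <;> rw [f] at h1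
      · exact absurd (h1.trans (zero_smul _ _)) hne
      · exact h1.trans (one_smul _ _)
    · exfalso
      rw [h1, e, one_smul, one_smul, qf_add, bf_smul_left, bf_comm e0 W, hadm.1, mul_zero, add_zero, hWq] at hq
      rcases zmod2_cases (bf (h.1 x3 + f0) W) with f | f <;> rw [f] at hq <;>
        simp [qf_zero, q_e0] at hq
  have hys : y * B.s * y⁻¹ = B.s ∨ y * B.s * y⁻¹ = B.s * z := by
    obtain ⟨hm, hmπ⟩ := π_conj hy B.sQ
    rw [B.πs] at hmπ
    exact eq_of_π D B.sQ hm (by rw [hmπ, B.πs, ← hhd, he])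
  -- compare classes
  have hd : ∀ {n : G}, n ∈ B.N → hact D n = h → ∀ {b' a' : G}, b' ∈ B.P → a' ∈ B.A →
      n * St.el * n⁻¹ = b' * a' → red (B.wv b') = red (h.1 w2) ∧ red (D.π a') = red (h.1 v2) := by
    intro n hn hna b' a' hb' ha' he'
    obtain ⟨b'', hb'', a'', ha'', hconj, hw, hv⟩ := B.conj_pair hn St.hb St.ha
    rw [hna, St.wb] at hw
    rw [hna, St.πa] at hv
    obtain ⟨u1, u2⟩ := B.pair_unique hb' ha' hb'' ha'' (he'.symm.trans hconj)
    exact ⟨u1.trans hw, u2.trans hv⟩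
  have hnot : ¬ y * B.s * y⁻¹ = B.s * z := by
    intro hsz
    have hn : B.τ * y ∈ B.N := by
      refine B.mem_N.2 ⟨mem_centralizer_singleton_iff.1 (mul_mem B.τ_C hy), mul_inv_eq_iff_eq_mul.1 ?_⟩
      rw [show B.τ * y * B.s * (B.τ * y)⁻¹ = B.τ * (y * B.s * y⁻¹) * B.τ⁻¹ by group, hsz, B.τ_sz]
    have hna : hact D (B.τ * y) = h := by rw [hact_mul B.τ_C hy, hact_Q B.τ_Q, one_mul]
    obtain ⟨a', ha', e1, hv'⟩ := B.τ_pair St.hb St.ha
    obtain ⟨-, u2⟩ := hd hn hna St.hb ha' (by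
      rw [← e1, show B.τ * y * St.el * (B.τ * y)⁻¹ = B.τ * (y * St.el * y⁻¹) * B.τ⁻¹ by group, hyt,
        mul_inv_cancel_right]
      rfl)
    rw [hv', St.πa, St.wb] at u2
    have hv2 := (wList_perp _ basis_mem.2.2.2.2.2.2.2.1).1
    have hdd : red (disp h v2) = w2 := by
      rw [disp_apply, red_add, ← u2, red_wList basis_mem.2.2.2.2.2.2.2.1, add_comm v2, add_assoc, add_self,
        add_zero]
    have hq : qf (red (disp h v2)) = 0 := by
      rw [qf_red (by rw [disp_apply, bf_add_left, bf_image_e0 he, hv2, add_zero]), hts]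
    rw [hdd, pair_facts.1] at hq
    exact one_ne_zero hq
  have hyN : y ∈ B.N := B.mem_N.2 ⟨mem_centralizer_singleton_iff.1 hy,
    mul_inv_eq_iff_eq_mul.1 (hys.resolve_right hnot)⟩
  obtain ⟨u1, u2⟩ := hd hyN rfl St.hb St.ha (by rw [hyt, mul_inv_cancel_right]; rfl)
  rw [St.wb] at u1
  rw [St.πa] at u2
  have hperp : ∀ m, bf m e0 = 0 → bf (disp h m) e0 = 0 := fun m hm => by
    rw [disp_apply, bf_add_left, bf_image_e0 he, hm, add_zero]
  have hkill : ∀ {t : M8}, t ∈ wList → t = red (h.1 t) → ∀ m, bf m e0 = 0 → bf (red (disp h m)) t = 0 := by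
    intro t ht hte m hm
    have ht0 : red (disp h t) = 0 := by rw [disp_apply, red_add, ← hte, red_wList ht, add_self]
    rw [bf_red_left (wList_perp t ht).1, bf_disp hh2, ← bf_red_right hm, ht0, bf_zero_right]
  have hsmall : ∀ m m', bf m e0 = 0 → bf m' e0 = 0 → red (disp h m) ≠ 0 →
      red (disp h m') = 0 ∨ red (disp h m') = red (disp h m) := fun m m' hm hm' hne =>
    elliptic_small _ (red_mem _ (hperp m hm)) _ (red_mem _ (hperp m' hm'))
      (hkill basis_mem.2.2.2.2.2.2.1 u1 m hm) (hkill basis_mem.2.2.2.2.2.2.2.1 u2 m hm)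
      (hkill basis_mem.2.2.2.2.2.2.1 u1 m' hm') (hkill basis_mem.2.2.2.2.2.2.2.1 u2 m' hm')
      (by rw [qf_red (hperp m hm), hts]) (by rw [qf_red (hperp m' hm'), hts])
      (by rw [bf_red (hperp m hm) (hperp m' hm'), bf_disp_disp hh2]) hne
  refine ⟨hyN, fun m hm => ?_⟩
  by_contra hne
  have hne' : red (disp h m) ≠ 0 := by
    intro e
    rw [disp_apply, red_add] at e
    exact hne (eq_of_add_eq_zero e)
  obtain ⟨v, hv, hbv⟩ := exists_dual _ (red_mem _ (hperp m hm)) hne'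
  have hve := (wList_perp v hv).1
  rw [bf_red_left hve, bf_disp hh2, ← bf_red_right hm] at hbv
  rcases hsmall m v hm hve hne' with e | e <;> rw [e] at hbv
  · rw [bf_zero_right] at hbv; exact zero_ne_one hbv
  · rw [bf_red_right hm, bf_comm, ← qf_disp_self hh2, hts] at hbv
    exact zero_ne_one hbv

include B in
theorem Base.not_conj_tu : ¬ IsConj Su.el St.el := by
  classical
  intro hconj
  haveI : Fact (Nat.Prime 2) := ⟨Nat.prime_two⟩
  have hts := fun {x : G} (hx : x ∈ centralizer ({z} : Set G)) (hx2 : x * x = 1) (hc : IsConj z x) =>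
    B.ts_of_conj St Su hx hx2 hc
  obtain ⟨t, htd⟩ : ∃ t, t = St.el := ⟨_, rfl⟩
  -- the two factors of the singular involution
  obtain ⟨hwx, hvx⟩ : qf (B.wv Su.b) = 0 ∧ qf (D.π Su.a) = 0 :=
    ⟨by rw [← qf_red (B.act_P Su.hb).1.1, Su.wb]; exact pair_facts.2.2.2.1,
      by rw [← qf_red (B.mem_A.1 Su.ha).2, Su.πa]; exact pair_facts.2.2.2.2.1⟩
  have hb2 : Su.b * Su.b = 1 := by
    obtain ⟨hV, hs, hζ⟩ := B.sq_P Su.hb
    rw [B.eq_of_bits hV 0 (hs.trans hwx) hζ, if_pos rfl]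
  have ha2 : Su.a * Su.a = 1 := (D.sq_iff _ Su.ha.1).2 hvx
  have hba : Su.b * Su.a = Su.a * Su.b := by
    refine mul_inv_eq_iff_eq_mul.1 (mul_inv_eq_one.1 ?_)
    show cm Su.b Su.a = 1
    rw [B.cm_eq Su.hb Su.ha, if_pos]
    rw [← bf_red (B.mem_A.1 Su.ha).2 (B.act_P Su.hb).1.1, Su.wb, Su.πa, bf_comm]
    exact pair_facts.2.2.2.2.2.1
  have hzb : IsConj z Su.b := B.isConj_of_sing ⟨B.g, B.gz.symm ▸ B.sQ,
    fun e => B.ne (B.gz.symm.trans e), Su.hb.1⟩ hb2 (fun e => by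
      have h := Su.wb
      rw [← B.wR_P Su.hb.2, e, B.wR_Q (one_mem _)] at h
      exact pair_facts.2.2.2.2.2.2.1 h.symm)
  have hza : IsConj z Su.a := by
    obtain ⟨c, -, hc⟩ := exists_conj_C D B.sQ Su.ha.1 (by rw [B.πs]; exact q_e0) hvx
      (by rw [B.πs]; exact e0_ne) (fun e => by
        have h := Su.πa
        rw [e, red_zero] at h
        exact pair_facts.2.2.2.2.2.2.2.1 h.symm)
    exact (isConj_iff.2 ⟨B.g, B.gz⟩).trans (isConj_iff.2 ⟨c, hc⟩)
  obtain ⟨k, hk⟩ := isConj_iff.1 hconj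
  obtain ⟨p, hpd⟩ : ∃ p, p = k * Su.b * k⁻¹ := ⟨_, rfl⟩
  have hp2 : p * p = 1 := by
    rw [hpd, show k * Su.b * k⁻¹ * (k * Su.b * k⁻¹) = k * (Su.b * Su.b) * k⁻¹ by group, hb2]; group
  have hpz : IsConj z p := hzb.trans (isConj_iff.2 ⟨k, hpd.symm⟩)
  have hpt : p * t = k * Su.a * k⁻¹ := by
    rw [hpd, htd, ← hk, Pr.el,
      show k * Su.b * k⁻¹ * (k * (Su.b * Su.a) * k⁻¹) = k * (Su.b * Su.b) * Su.a * k⁻¹ by group, hb2, mul_one]
  have hpcomm : p * t = t * p := by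
    rw [hpt, hpd, htd, ← hk, Pr.el, show k * (Su.b * Su.a) * k⁻¹ * (k * Su.b * k⁻¹) =
      k * (Su.b * Su.a * Su.b) * k⁻¹ by group]
    rw [show Su.b * Su.a * Su.b = Su.a by rw [hba, mul_assoc, hb2, mul_one]]
  have hptz : IsConj z (p * t) := hpt ▸ hza.trans (isConj_iff.2 ⟨k, rfl⟩)
  -- a Sylow subgroup of the centraliser lies in the centraliser of the central involution
  let H : Subgroup G := centralizer ({t} : Set G)
  let K₀ : Subgroup G := D.Q ⊓ H
  have hwv2 : v2 + w2 ∈ wList := wList_add basis_mem.2.2.2.2.2.2.2.1 basis_mem.2.2.2.2.2.2.1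
  have hq22 := pair22_facts
  obtain ⟨h, hh, e1, e2⟩ := elliptic_transitive basis_mem.2.2.2.2.2.2.1 hwv2 pair_facts.1 hq22.1 hq22.2
  obtain ⟨a', ha', hτt, hv'⟩ := B.τ_pair St.hb St.ha
  rw [St.πa, St.wb] at hv'
  obtain ⟨c, hc, hct⟩ := B.conj_pairs St.hb St.ha St.hb ha' hh (by rw [St.wb]; exact e1)
    (by rw [St.πa, hv']; exact e2) (by rw [St.wb]; exact pair_facts.2.2.2.2.2.2.2.2.2.1)
    (by rw [hv']; exact fun e => by rw [e, qf_zero] at hq22; exact zero_ne_one hq22.1)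
    (by rw [hv', St.wb]; exact fun e => by rw [e, bf_self] at hq22; exact zero_ne_one hq22.2)
  obtain ⟨η, hηd⟩ : ∃ η, η = B.τ * c := ⟨_, rfl⟩
  have hηC : η ∈ centralizer ({z} : Set G) := hηd ▸ mul_mem B.τ_C hc.1
  have hηH : η ∈ H := by
    refine mem_centralizer_singleton_iff.2 (mul_inv_eq_iff_eq_mul.1 ?_)
    rw [hηd, htd, Pr.el, show B.τ * c * (St.b * St.a) * (B.τ * c)⁻¹ = B.τ * (c * (St.b * St.a) * c⁻¹) * B.τ⁻¹
      by group, hct, ← hτt,
      show B.τ * (B.τ * (St.b * St.a) * B.τ⁻¹) * B.τ⁻¹ = B.τ * B.τ * (St.b * St.a) * (B.τ * B.τ)⁻¹ by group,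
      B.τ_sq]
    group
  have hηz : η * z * η⁻¹ = z := by rw [mem_centralizer_singleton_iff.1 hηC, mul_inv_cancel_right]
  have hηs : η * B.s * η⁻¹ = B.s * z := by
    rw [hηd, show B.τ * c * B.s * (B.τ * c)⁻¹ = B.τ * (c * B.s * c⁻¹) * B.τ⁻¹ by group, (B.N_fix hc).2, B.τ_s]
  -- its two-part
  obtain ⟨i, m, hm, hord⟩ := Nat.exists_eq_pow_mul_and_not_dvd (orderOf_pos η).ne' 2 (by norm_num)
  obtain ⟨η', hη'd⟩ : ∃ η', η' = η ^ m := ⟨_, rfl⟩
  have hη'2 : η' ^ (2 ^ i) = 1 := by rw [hη'd, ← pow_mul, mul_comm, ← hord, pow_orderOf_eq_one]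
  have hη's : η' * B.s * η'⁻¹ = B.s * z := by
    obtain ⟨j, rfl⟩ : ∃ j, m = 2 * j + 1 := ⟨m / 2, by omega⟩
    have h2 : ∀ j : ℕ, η ^ (2 * j) * B.s * (η ^ (2 * j))⁻¹ = B.s := by
      intro j
      induction j with
      | zero => simp
      | succ j ih =>
        rw [show η ^ (2 * (j + 1)) = η * η * η ^ (2 * j) by
            rw [show 2 * (j + 1) = 1 + 1 + 2 * j by ring, pow_add, pow_add, pow_one],
          show η * η * η ^ (2 * j) * B.s * (η * η * η ^ (2 * j))⁻¹ =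
            η * (η * (η ^ (2 * j) * B.s * (η ^ (2 * j))⁻¹) * η⁻¹) * η⁻¹ by group, ih, hηs,
          show η * (B.s * z) * η⁻¹ = η * B.s * η⁻¹ * (η * z * η⁻¹) by group, hηs, hηz, mul_assoc,
          D.pre.gen.sq, mul_one]
    rw [hη'd, pow_succ', show η * η ^ (2 * j) * B.s * (η * η ^ (2 * j))⁻¹ =
      η * (η ^ (2 * j) * B.s * (η ^ (2 * j))⁻¹) * η⁻¹ by group, h2, hηs]
  have hK₀ : IsPGroup 2 K₀ := (IsPGroup.of_card (n := 9) (by rw [D.card]; norm_num)).to_le inf_le_left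
  have hηp : IsPGroup 2 (zpowers η') := by
    rintro ⟨y, hy⟩
    obtain ⟨j, rfl⟩ := hy
    exact ⟨i, Subtype.ext (show (η' ^ j) ^ (2 ^ i) = 1 by
      rw [← zpow_natCast (η' ^ j), ← zpow_mul, mul_comm, zpow_mul, zpow_natCast, hη'2, one_zpow])⟩
  have hη'C : η' ∈ centralizer ({z} : Set G) := hη'd ▸ pow_mem hηC m
  have hη'H : η' ∈ H := hη'd ▸ pow_mem hηH m
  have hnorm : zpowers η' ≤ normalizer (K₀ : Subgroup G) := by
    rw [zpowers_le, mem_normalizer_iff]
    intro q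
    constructor
    · intro hq
      exact Subgroup.mem_inf.2 ⟨D.pre.conj_mem (mem_centralizer_singleton_iff.1 hη'C) (Subgroup.mem_inf.1 hq).1,
        mul_mem (mul_mem hη'H (Subgroup.mem_inf.1 hq).2) (inv_mem hη'H)⟩
    · intro hq
      have h1 := D.pre.conj_mem (mem_centralizer_singleton_iff.1 (inv_mem hη'C)) hq.1
      have h2 : η'⁻¹ * (η' * q * η'⁻¹) * η'⁻¹⁻¹ ∈ H := mul_mem (mul_mem (inv_mem hη'H) hq.2)
        (inv_mem (inv_mem hη'H))
      rw [show η'⁻¹ * (η' * q * η'⁻¹) * η'⁻¹⁻¹ = q by group] at h1 h2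
      exact ⟨h1, h2⟩
  let S₀ : Subgroup G := zpowers η' ⊔ K₀
  have hS₀ : IsPGroup 2 S₀ := IsPGroup.to_sup_of_normal_right' hηp hK₀ hnorm
  have hS₀le : S₀ ≤ H ⊓ centralizer ({z} : Set G) :=
    sup_le (zpowers_le.2 ⟨hη'H, hη'C⟩) (le_inf inf_le_right (inf_le_left.trans fun q hq => mem_C D hq))
  obtain ⟨S, hS0S, hmax⟩ := (Set.toFinite {S : Subgroup G | IsPGroup 2 S ∧ S ≤ H ⊓ centralizer ({z} : Set G)}).exists_le_maximal
    (a := S₀) ⟨hS₀, hS₀le⟩
  obtain ⟨hSp, hSle⟩ := hmax.prop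
  have hK₀S : K₀ ≤ S := le_sup_right.trans hS0S
  have hη'S : η' ∈ S := hS0S (mem_sup_left (mem_zpowers η'))
  have hzK₀ : z ∈ K₀ := ⟨D.pre.gen.mem, mem_centralizer_singleton_iff.2 (by
    rw [htd]; exact (mem_centralizer_singleton_iff.1 St.el_mem).symm)⟩
  have hpairK : ∀ {q : G}, q ∈ D.Q → bf (D.π q) e0 = 0 → bf (D.π q) w2 = 0 → bf (D.π q) v2 = 0 → q ∈ K₀ := by
    intro q hq h0 h1 h2
    have h := B.pair_centralised St.hb St.ha hq h0 (by rw [St.wb]; exact h1) (by rw [St.πa]; exact h2)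
    refine Subgroup.mem_inf.2 ⟨hq, ?_⟩
    show q ∈ centralizer ({t} : Set G)
    rw [htd]
    exact (Subgroup.mem_inf.1 h).2
  have hsK₀ : B.s ∈ K₀ := hpairK B.sQ (by rw [B.πs]; exact bf_self _)
    (by rw [B.πs, bf_comm]; exact (wList_perp _ basis_mem.2.2.2.2.2.2.1).1)
    (by rw [B.πs, bf_comm]; exact (wList_perp _ basis_mem.2.2.2.2.2.2.2.1).1)
  -- the central involution is characteristic
  have hchar : ∀ y ∈ S, (∀ q ∈ S, y * q = q * y) → IsConj z y → y = z := by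
    intro y hyS hcen hzy
    have hy2 : y * y = 1 := by
      obtain ⟨c, hc⟩ := isConj_iff.1 hzy
      rw [← hc, show c * z * c⁻¹ * (c * z * c⁻¹) = c * (z * z) * c⁻¹ by group, D.pre.gen.sq]; group
    have hyC := (hSle hyS).2
    have hyR := B.mem_R_of_ts St Su hyC hy2 (htd ▸ mem_centralizer_singleton_iff.1 (hSle hyS).1)
      (fun m => hts hyC hy2 hzy m)
    obtain ⟨b, hb, a, ha, rfl⟩ := B.exists_pair hyR
    obtain ⟨hq1, hq2, -⟩ := B.classOne_of_conj St Su hb ha hy2 hzy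
    have hbits : ∀ m, m ∈ [x1, y1, k3, k4] → bf (red (B.wv b)) m = 0 ∧ bf (red (D.π a)) m = 0 := by
      intro m hm
      have hmk : m ∈ kList := List.mem_cons_of_mem _ hm
      obtain ⟨q, hq, rfl⟩ := D.π_surj m
      obtain ⟨h0, h1, h2⟩ := orth_t _ hmk
      have hqS := hK₀S (hpairK hq h0 h1 h2)
      have h := B.conj_k hb ha (B.mem_A.2 ⟨hq, h0⟩)
      rw [← hcen q hqS, mul_inv_cancel_right, eq_comm, mul_eq_right] at h
      rw [bf_comm, bf_red_right h0, bf_comm (red _), bf_red_right h0]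
      by_cases c1 : bf (D.π q) (B.wv b) = 0 <;> by_cases c2 : bf (D.π q) (D.π a) = 0
      · exact ⟨c1, c2⟩
      · rw [if_pos c1, if_neg c2, one_mul] at h; exact absurd h D.pre.gen.ne_one
      · rw [if_neg c1, if_pos c2, mul_one] at h
        exact absurd (inv_eq_of_mul_eq_one_right h) (fun e => B.ne (by
          rw [← e, inv_eq_of_mul_eq_one_right D.pre.gen.sq]))
      · rw [if_neg c1, if_neg c2, ← (D.pre.gen.comm_z _ B.sQ).eq, mul_assoc, D.pre.gen.sq, mul_one] at h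
        exact absurd h B.s_ne
    have hwW := red_mem _ (B.act_P hb).1.1
    have hvW := red_mem _ (B.mem_A.1 ha).2
    have hw0 := elliptic_line _ hwW (hbits x1 (by simp)).1 (hbits y1 (by simp)).1 (hbits k3 (by simp)).1
      (hbits k4 (by simp)).1 hq1
    have hv0 := elliptic_line _ hvW (hbits x1 (by simp)).2 (hbits y1 (by simp)).2 (hbits k3 (by simp)).2
      (hbits k4 (by simp)).2 hq2
    have hbV := B.inV_of_wR hb (by rw [B.wR_P hb.2]; exact hw0)
    have haV := B.inV_of_red ha hv0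
    have hyV : B.InV (b * a) := B.inV_of_red (mul_mem (B.inV_A hbV) ha) (by
      rw [D.π_mul _ hbV.1 _ ha.1, red_add, B.red_inV hbV, B.red_inV haV, add_zero])
    obtain ⟨y, hy⟩ : ∃ y, y = b * a := ⟨_, rfl⟩
    rw [← hy] at hyV hzy hcen hyS ⊢
    have hηy : η' * y * η'⁻¹ = y := by rw [← hcen η' hη'S, mul_inv_cancel_right]
    have hη'z : η' * z * η'⁻¹ = z := by rw [mem_centralizer_singleton_iff.1 hη'C, mul_inv_cancel_right]
    rcases B.inV_cases hyV with e | e | e | e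
    · obtain ⟨d, hd⟩ := isConj_iff.1 hzy
      exact absurd (conj_eq_one_iff.1 (hd.trans e)) D.pre.gen.ne_one
    · exact e
    · rw [e, hη's, mul_eq_left] at hηy
      exact absurd hηy D.pre.gen.ne_one
    · rw [e, show η' * (z * B.s) * η'⁻¹ = η' * z * η'⁻¹ * (η' * B.s * η'⁻¹) by group, hη's, hη'z,
        mul_right_inj, mul_eq_left] at hηy
      exact absurd hηy D.pre.gen.ne_one
  -- it is a Sylow subgroup of the centraliser of the elliptic involution
  have hSylow : ∀ T : Subgroup G, IsPGroup 2 T → T ≤ H → S ≤ T → T = S := by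
    intro T hT hTH hST
    by_contra hne
    haveI : Group.IsNilpotent T := hT.isNilpotent
    have hlt : S.subgroupOf T < ⊤ := lt_top_iff_ne_top.2 fun e => hne (le_antisymm (subgroupOf_eq_top.1 e) hST)
    obtain ⟨⟨n, hnT⟩, hn, hnS⟩ := SetLike.exists_of_lt (Group.normalizerCondition_of_isNilpotent _ hlt)
    rw [mem_subgroupOf] at hnS
    have hconjS : ∀ q ∈ S, n * q * n⁻¹ ∈ S := fun q hq =>
      (mem_normalizer_iff.1 hn ⟨q, hST hq⟩).1 hq
    have hnS' : ∀ q ∈ S, n⁻¹ * q * n ∈ S := fun q hq => by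
      have h := (mem_normalizer_iff.1 (inv_mem hn) ⟨q, hST hq⟩).1 hq
      rw [mem_subgroupOf] at h
      simpa using h
    have hnz : n * z * n⁻¹ = z := hchar _ (hconjS z (hK₀S hzK₀)) (fun q hq => by
      have hq' := mem_centralizer_singleton_iff.1 (hSle (hnS' q hq)).2
      calc n * z * n⁻¹ * q = n * (z * (n⁻¹ * q * n)) * n⁻¹ := by group
        _ = n * (n⁻¹ * q * n * z) * n⁻¹ := by rw [hq']
        _ = q * (n * z * n⁻¹) := by group) (isConj_iff.2 ⟨n, rfl⟩)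
    have hsup : IsPGroup 2 (zpowers n ⊔ S : Subgroup G) := hT.to_le (sup_le (zpowers_le.2 hnT) hST)
    have hle : zpowers n ⊔ S ≤ H ⊓ centralizer ({z} : Set G) :=
      sup_le (zpowers_le.2 ⟨hTH hnT, mem_centralizer_singleton_iff.2 (mul_inv_eq_iff_eq_mul.1 hnz)⟩) hSle
    exact hnS (hmax.le_of_ge ⟨hsup, hle⟩ le_sup_right (mem_sup_left (mem_zpowers n)))
  -- conjugate the factor into it
  have hpH : p ∈ H := mem_centralizer_singleton_iff.2 hpcomm
  have hpp : IsPGroup 2 (zpowers (⟨p, hpH⟩ : H)) := by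
    rintro ⟨y, hy⟩
    refine ⟨1, Subtype.ext ?_⟩
    show y ^ (2 ^ 1) = 1
    have h2' : (⟨p, hpH⟩ : H) * ⟨p, hpH⟩ = 1 := Subtype.ext hp2
    rcases (Extra2.mem_zpowers_iff h2').1 hy with e | e <;> rw [e, pow_one, pow_two]
    · exact one_mul 1
    · exact h2'
  obtain ⟨T₁, hT₁⟩ := hpp.exists_le_sylow
  have hSH : IsPGroup 2 (S.subgroupOf H) := hSp.of_equiv (subgroupOfEquivOfLe (hSle.trans inf_le_left)).symm
  obtain ⟨T₂, hT₂⟩ := hSH.exists_le_sylow
  have hT₂S : (T₂ : Subgroup H).map H.subtype = S := hSylow _ (T₂.isPGroup'.map _) (map_subtype_le _)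
    (fun q hq => ⟨⟨q, (hSle hq).1⟩, hT₂ (mem_subgroupOf.2 hq), rfl⟩)
  obtain ⟨h, hh'⟩ := MulAction.exists_smul_eq H T₁ T₂
  have hmem : (h : G) * p * (h : G)⁻¹ ∈ S := by
    rw [← hT₂S, ← hh']
    refine ⟨h * ⟨p, hpH⟩ * h⁻¹, ?_, rfl⟩
    rw [Sylow.coe_subgroup_smul]
    exact mem_map_of_mem (MulAut.conj h).toMonoidHom (hT₁ (mem_zpowers _))
  obtain ⟨y, hyd⟩ : ∃ y, y = (h : G) * p * (h : G)⁻¹ := ⟨_, rfl⟩
  rw [← hyd] at hmem
  have hy2 : y * y = 1 := by
    rw [hyd, show (h : G) * p * (h : G)⁻¹ * ((h : G) * p * (h : G)⁻¹) = (h : G) * (p * p) * (h : G)⁻¹ by group, hp2]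
    group
  have hzy : IsConj z y := hpz.trans (isConj_iff.2 ⟨_, hyd.symm⟩)
  have hyt : y * t = t * y := mem_centralizer_singleton_iff.1 (hSle hmem).1
  have hyC := (hSle hmem).2
  have hyR := B.mem_R_of_ts St Su hyC hy2 (htd ▸ hyt) (fun m => hts hyC hy2 hzy m)
  obtain ⟨b, hb, a, ha, hy⟩ := B.exists_pair hyR
  have hc1 := B.classOne_of_conj St Su hb ha (hy ▸ hy2) (hy ▸ hzy)
  obtain ⟨a'', ha'', hm', hv''⟩ := B.mul_pair hb ha St.hb St.ha
  have hyt2 : y * t = b * St.b * a'' := by rw [hy, htd, Pr.el, hm']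
  have ht2 : t * t = 1 := by
    rw [htd, Pr.el]
    refine (B.pair_sq_iff St.hb St.ha).2 ?_
    rw [St.wb, St.πa, pair_facts.1, pair_facts.2.1, pair_facts.2.2.1]
    exact ⟨rfl, rfl⟩
  have hsq : y * t * (y * t) = 1 := by
    rw [mul_assoc, ← mul_assoc t y t, ← hyt, mul_assoc, ht2, mul_one, hy2]
  have hzt : IsConj z (y * t) := by
    refine hptz.trans (isConj_iff.2 ⟨(h : G), ?_⟩)
    have hth : (h : G) * t = t * (h : G) := mem_centralizer_singleton_iff.1 h.2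
    rw [hyd, show (h : G) * (p * t) * (h : G)⁻¹ = (h : G) * p * (h : G)⁻¹ * ((h : G) * t * (h : G)⁻¹) by group,
      hth, mul_inv_cancel_right]
  rw [hyt2] at hsq hzt
  have hc2 := B.classOne_of_conj St Su (mul_mem hb St.hb) ha'' hsq hzt
  rw [← B.wR_P (mul_mem hb St.hb).2, B.wR_mul (B.P_R hb) (B.P_N St.hb), B.wR_P hb.2, B.wR_P St.hb.2, St.wb,
    hv'', St.πa] at hc2
  exact classOne_shift _ (red_mem _ (B.act_P hb).1.1) _ (red_mem _ (B.mem_A.1 ha).2) hc1 hc2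

/-- Exactly three classes of involutions. -/
theorem main {g₀ : G} (h₀ : g₀ * z * g₀⁻¹ ∈ D.Q) (hne : g₀ * z * g₀⁻¹ ≠ z) :
    ∃ a b c : G, orderOf a = 2 ∧ orderOf b = 2 ∧ orderOf c = 2 ∧ ¬ IsConj a b ∧ ¬ IsConj a c ∧
      ¬ IsConj b c ∧ ∀ x : G, orderOf x = 2 → IsConj x a ∨ IsConj x b ∨ IsConj x c := by
  obtain ⟨B⟩ := exists_base D h₀ hne
  obtain ⟨Su⟩ := B.exists_pr basis_mem.1 basis_mem.2.1
  obtain ⟨St⟩ := B.exists_pr basis_mem.2.2.2.2.2.2.1 basis_mem.2.2.2.2.2.2.2.1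
  haveI : Fact (Nat.Prime 2) := ⟨Nat.prime_two⟩
  have hsqu : Su.el * Su.el = 1 := (B.pair_sq_iff Su.hb Su.ha).2 (by
    rw [Su.wb, Su.πa, pair_facts.2.2.2.1, pair_facts.2.2.2.2.1, pair_facts.2.2.2.2.2.1]; exact ⟨rfl, rfl⟩)
  have hsqt : St.el * St.el = 1 := (B.pair_sq_iff St.hb St.ha).2 (by
    rw [St.wb, St.πa, pair_facts.1, pair_facts.2.1, pair_facts.2.2.1]; exact ⟨rfl, rfl⟩)
  have hu := B.u_obstruction Su
  have ht := B.t_obstruction St
  refine ⟨z, Su.el, St.el, Extra2.orderOf_gen D.pre.gen,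
    orderOf_eq_prime (by rw [pow_two]; exact hsqu) (fun e => hu.notQ (e ▸ one_mem _)),
    orderOf_eq_prime (by rw [pow_two]; exact hsqt) (fun e => ht.notQ (e ▸ one_mem _)),
    B.not_conj_z St Su hu, B.not_conj_z St Su ht, B.not_conj_tu St Su, fun x hx => ?_⟩
  have hx2 : x * x = 1 := by rw [← pow_two, ← hx, pow_orderOf_eq_one]
  have hx1 : x ≠ 1 := fun e => by rw [e, orderOf_one] at hx; omega
  obtain ⟨u, hu'⟩ := exists_conj_mem_C D hx2
  have hxu : IsConj x (u * x * u⁻¹) := isConj_iff.2 ⟨u, rfl⟩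
  obtain ⟨y, hy⟩ : ∃ y, y = u * x * u⁻¹ := ⟨_, rfl⟩
  rw [← hy] at hu' hxu
  have hy2 : y * y = 1 := by
    rw [hy, show u * x * u⁻¹ * (u * x * u⁻¹) = u * (x * x) * u⁻¹ by group, hx2]; group
  have hy1 : y ≠ 1 := fun e => hx1 (conj_eq_one_iff.1 (hy ▸ e))
  suffices h : IsConj z y ∨ IsConj Su.el y ∨ IsConj St.el y by
    rcases h with h | h | h
    exacts [Or.inl (hxu.trans h.symm), Or.inr (Or.inl (hxu.trans h.symm)), Or.inr (Or.inr (hxu.trans h.symm))]
  by_cases hyQ : y ∈ D.Q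
  · left
    by_cases hyz : y = z
    · subst hyz; exact IsConj.refl _
    · obtain ⟨c, -, hc⟩ := exists_conj_C D B.sQ hyQ (by rw [B.πs]; exact q_e0) ((D.sq_iff y hyQ).1 hy2)
        (by rw [B.πs]; exact e0_ne) (fun e => ((D.π_eq_zero y hyQ).1 e).elim hy1 hyz)
      exact (isConj_iff.2 ⟨B.g, B.gz⟩).trans (isConj_iff.2 ⟨c, hc⟩)
  rcases rank_cases (hact_sq hu' hy2) (hact_mem _) (fun e => hyQ (mem_Q_of_hact hu' e)) with h2 | ⟨h4, hker⟩
  · rcases B.classify_two St Su hu' hyQ hy2 h2 with h | ⟨c, -, hc⟩ | ⟨c, -, hc⟩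
    · exact Or.inl (B.isConj_of_sing h hy2 hy1)
    · exact Or.inr (Or.inl (isConj_iff.2 ⟨c, hc⟩))
    · exact Or.inr (Or.inr (isConj_iff.2 ⟨c, hc⟩))
  · exact (B.classify_four St Su hu' hy2 h4 hker).1

end CfsgLib.Co1Invol
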