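import Cfsg.Agent.Co1Invol.Frame

/-!
Involutions of the eight-dimensional orthogonal group and of the involution centraliser.
-/

set_option autoImplicit false
set_option linter.style.haveILetI false

namespace CfsgLib.Co1Invol

open CfsgLib CfsgLib.Quad Subgroup

/-- The displacement map. -/
def disp (g : O8) : M8 →ₗ[ZMod 2] M8 := g.1.toLinearMap + LinearMap.id

theorem disp_apply (g : O8) (m : M8) : disp g m = g.1 m + m := rfl

theorem apply_eq_disp (g : O8) (m : M8) : g.1 m = disp g m + m := by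
  rw [disp_apply, add_assoc, add_self, add_zero]

section Involution

variable {g : O8} (hg : g * g = 1)

include hg

theorem apply_apply_self (m : M8) : g.1 (g.1 m) = m := by
  show (g * g).1 m = m
  rw [hg]; rfl

theorem bf_disp (m n : M8) : bf (disp g m) n = bf m (disp g n) := by
  have h : bf (g.1 m) n = bf m (g.1 n) := by
    conv_rhs => rw [← bf_oGroup g, apply_apply_self hg]
  rw [disp_apply, disp_apply, bf_add_left, bf_add_right, h]

theorem apply_disp (m : M8) : g.1 (disp g m) = disp g m := by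
  rw [disp_apply, map_add, apply_apply_self hg, add_comm]

theorem disp_disp (m : M8) : disp g (disp g m) = 0 := by
  rw [disp_apply g (disp g m), apply_disp hg, add_self]

theorem range_le_ker : LinearMap.range (disp g) ≤ LinearMap.ker (disp g) := by
  rintro _ ⟨m, rfl⟩
  rw [LinearMap.mem_ker, disp_disp hg]

theorem bf_disp_disp (m n : M8) : bf (disp g m) (disp g n) = 0 := by
  rw [bf_disp hg, disp_disp hg, bf_zero_right]

theorem qf_disp_add (m n : M8) : qf (disp g (m + n)) = qf (disp g m) + qf (disp g n) := by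
  rw [map_add, qf_add, bf_disp_disp hg, add_zero]

theorem qf_disp_self (m : M8) : qf (disp g m) = bf (disp g m) m := by
  have h := qf_oGroup g m
  rw [apply_eq_disp g m, qf_add] at h
  refine CharTwo.add_eq_zero.1 (add_right_cancel (b := qf m) ?_)
  rw [zero_add]
  conv_rhs => rw [← h]
  abel

theorem rank_cases (hgm : g ∈ commutator (oGroup q8)) (hg1 : g ≠ 1) :
    Module.finrank (ZMod 2) (LinearMap.range (disp g)) = 2 ∨
      (Module.finrank (ZMod 2) (LinearMap.range (disp g)) = 4 ∧
        LinearMap.range (disp g) = LinearMap.ker (disp g)) := by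
  have hfix : fixSp g = LinearMap.ker (disp g) := by
    ext m
    rw [mem_fixSp, LinearMap.mem_ker, disp_apply]
    constructor
    · intro h; rw [h, add_self]
    · intro h; exact eq_of_add_eq_zero h
  have hev : Even (8 + Module.finrank (ZMod 2) (LinearMap.ker (disp g))) := by
    have h := (mem_commutator_iff_fixSp nondeg8 hgen8 g).1 hgm
    rwa [hfix, finrank8] at h
  have hsum := LinearMap.finrank_range_add_finrank_ker (disp g)
  rw [finrank8] at hsum
  have hmono := Submodule.finrank_mono (range_le_ker hg)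
  have hr0 : Module.finrank (ZMod 2) (LinearMap.range (disp g)) ≠ 0 := by
    intro h0
    rw [Submodule.finrank_eq_zero, LinearMap.range_eq_bot] at h0
    refine hg1 (Subtype.ext (LinearEquiv.ext fun m => ?_))
    rw [apply_eq_disp g m, h0, LinearMap.zero_apply, zero_add]
    rfl
  obtain ⟨k, hk⟩ := hev
  rcases (show Module.finrank (ZMod 2) (LinearMap.range (disp g)) = 2 ∨
      Module.finrank (ZMod 2) (LinearMap.range (disp g)) = 4 by omega) with h | h
  · exact Or.inl h
  · exact Or.inr ⟨h, Submodule.eq_of_le_of_finrank_le (range_le_ker hg) (by omega)⟩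

/-- A singular point of the axis with totally singular residual displacement. -/
theorem exists_good_point (h4 : Module.finrank (ZMod 2) (LinearMap.range (disp g)) = 4)
    (hker : LinearMap.range (disp g) = LinearMap.ker (disp g)) :
    ∃ e ∈ LinearMap.range (disp g), e ≠ 0 ∧ qf e = 0 ∧ ∀ n, bf n e = 0 → qf (disp g n) = 0 := by
  by_cases ha : ∀ n, qf (disp g n) = 0
  · obtain ⟨⟨e, he⟩, hne⟩ := Module.finrank_pos_iff_exists_ne_zero.1
      (show 0 < Module.finrank (ZMod 2) (LinearMap.range (disp g)) by omega)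
    obtain ⟨m, rfl⟩ := he
    exact ⟨_, ⟨m, rfl⟩, fun e' => hne (Subtype.ext e'), ha m, fun n _ => ha n⟩
  obtain ⟨u, hu⟩ := exists_rep (fun n => qf (disp g n)) (qf_disp_add hg)
  have huk : disp g u = 0 := eq_zero_of_bf fun n => by
    rw [bf_disp hg, bf_comm, ← hu, disp_disp hg, qf_zero]
  have hur : u ∈ LinearMap.range (disp g) := hker ▸ LinearMap.mem_ker.2 huk
  refine ⟨u, hur, fun e => ha fun n => by rw [hu, e, bf_zero_right], ?_, fun n hn => by rw [hu, hn]⟩
  -- the point is singular, as an alternating form has even rank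
  by_contra hq
  have hq := (zmod2_cases _).resolve_left hq
  obtain ⟨n₀, hn₀⟩ := hur
  have h01 : bf n₀ u = 1 := by rw [← hu, hn₀, hq]
  let φ : M8 →ₗ[ZMod 2] ZMod 2 :=
    { toFun := fun m => bf m u
      map_add' := fun a b => bf_add_left a b u
      map_smul' := fun c a => bf_smul_left c a u }
  let T' : M8 →ₗ[ZMod 2] M8 := disp g + φ.smulRight u
  have hT' : ∀ m, T' m = disp g m + bf m u • u := fun m => rfl
  have halt : ∀ m, bf (T' m) m = 0 := fun m => by
    rw [hT', bf_add_left, bf_smul_left, bf_comm u m, ← qf_disp_self hg, hu]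
    rcases zmod2_cases (bf m u) with e | e <;> rw [e] <;> decide
  have hsym : ∀ m n, bf (T' m) n = bf m (T' n) := fun m n => by
    rw [hT', hT', bf_add_left, bf_add_right, bf_smul_left, bf_smul_right, bf_disp hg, bf_comm u n]
    ring
  have hk0 : T' n₀ = 0 := by rw [hT', hn₀, h01, one_smul, add_self]
  have hle : LinearMap.ker (disp g) ≤ LinearMap.ker T' := fun m hm => by
    rw [LinearMap.mem_ker] at hm ⊢
    rw [hT', hm, ← hu, hm, qf_zero, zero_smul, add_zero]
  have hlt : LinearMap.ker (disp g) < LinearMap.ker T' := lt_of_le_of_ne hle fun e => by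
    have h : n₀ ∈ LinearMap.ker (disp g) := e ▸ LinearMap.mem_ker.2 hk0
    rw [LinearMap.mem_ker, hn₀] at h
    rw [h, qf_zero] at hq
    exact zero_ne_one hq
  have h1 := Submodule.finrank_lt_finrank_of_lt hlt
  rw [← hker, h4] at h1
  have h2 : LinearMap.range (disp g) ≤ LinearMap.range T' ⊔ Submodule.span (ZMod 2) {u} := by
    rintro _ ⟨m, rfl⟩
    rw [show disp g m = T' m + bf m u • u by rw [hT', add_assoc, add_self, add_zero]]
    exact Submodule.add_mem_sup ⟨m, rfl⟩ (Submodule.smul_mem _ _ (Submodule.mem_span_singleton_self u))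
  have h2' := (Submodule.finrank_mono h2).trans (Submodule.finrank_add_le_finrank_add_finrank _ _)
  have h3 : Module.finrank (ZMod 2) (Submodule.span (ZMod 2) ({u} : Set M8)) ≤ 1 := by
    simpa using finrank_span_le_card (R := ZMod 2) ({u} : Set M8)
  have hsum := LinearMap.finrank_range_add_finrank_ker T'
  rw [finrank8] at hsum
  have hr3 : Module.finrank (ZMod 2) (LinearMap.range T') = 3 := by omega
  let b := Module.finBasisOfFinrankEq (ZMod 2) (LinearMap.range T') hr3
  have hb : ∀ i, ∃ a, T' a = (b i : M8) := fun i => (b i).2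
  choose a hab using hb
  have hexp : ∀ m, ∃ c : Fin 3 → ZMod 2, T' (m + ∑ i, c i • a i) = 0 := fun m => by
    refine ⟨fun i => b.repr ⟨T' m, m, rfl⟩ i, ?_⟩
    have h := congrArg (fun y : LinearMap.range T' => (y : M8)) (b.sum_repr ⟨T' m, m, rfl⟩)
    simp only [Submodule.coe_sum, Submodule.coe_smul] at h
    rw [map_add, map_sum]
    simp only [map_smul, hab]
    rw [h, add_self]
  set β : Fin 3 → Fin 3 → ZMod 2 := fun i j => bf (T' (a i)) (a j) with hβ
  have hs : ∀ i j, β i j = β j i := fun i j => by simp only [hβ]; rw [hsym, bf_comm]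
  have hd : ∀ i, β i i = 0 := fun i => halt _
  have hz : ∀ r : M8, (∀ j, bf (T' r) (a j) = 0) → T' r = 0 := fun r hr => eq_zero_of_bf fun m => by
    obtain ⟨c, hc⟩ := hexp m
    have h : bf (T' r) (m + ∑ i, c i • a i) = 0 := by rw [hsym, hc, bf_zero_right]
    rw [bf_add_right, Fin.sum_univ_three, bf_add_right, bf_add_right, bf_smul_right, bf_smul_right,
      bf_smul_right, hr, hr, hr, mul_zero, mul_zero, mul_zero, add_zero, add_zero, add_zero] at h
    exact h
  set c : Fin 3 → ZMod 2 := ![β 1 2, β 0 2, β 0 1] with hc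
  have hcr : T' (∑ i, c i • a i) = 0 := hz _ fun j => by
    rw [Fin.sum_univ_three, map_add, map_add, map_smul, map_smul, map_smul, bf_add_left, bf_add_left,
      bf_smul_left, bf_smul_left, bf_smul_left]
    show c 0 * β 0 j + c 1 * β 1 j + c 2 * β 2 j = 0
    have e0 : β 1 0 = β 0 1 := hs _ _
    have e1 : β 2 0 = β 0 2 := hs _ _
    have e2 : β 2 1 = β 1 2 := hs _ _
    have d0 := hd 0
    have d1 := hd 1
    have d2 := hd 2
    fin_cases j
    all_goals simp only [hc, Matrix.cons_val_zero, Matrix.cons_val_one, Matrix.head_cons, Matrix.cons_val_two,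
      Matrix.tail_cons, Fin.zero_eta, Fin.mk_one, Fin.reduceFinMk, e0, e1, e2, d0, d1, d2]
    all_goals ring_nf
    all_goals (try simp [CharTwo.two_eq_zero])
  have hc0 : ∀ i, c i = 0 := by
    rw [map_sum] at hcr
    simp only [map_smul, hab] at hcr
    exact Fintype.linearIndependent_iff.1 b.linearIndependent c (Subtype.ext (by
      simp only [Submodule.coe_sum, Submodule.coe_smul, hcr, ZeroMemClass.coe_zero]))
  have hne : b 0 ≠ 0 := b.ne_zero 0
  refine hne (Subtype.ext ?_)
  rw [← hab 0, ZeroMemClass.coe_zero]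
  refine hz _ fun j => ?_
  have q1 : β 1 2 = 0 := hc0 0
  have q2 : β 0 2 = 0 := hc0 1
  have q3 : β 0 1 = 0 := hc0 2
  fin_cases j
  exacts [hd 0, q3, q2]

/-- Two isometries commuting with an element of rank four and fixing the singular part of its axis
never have it as commutator. -/
theorem commutator_ne (hker : LinearMap.range (disp g) = LinearMap.ker (disp g))
    (h4 : Module.finrank (ZMod 2) (LinearMap.range (disp g)) = 4) {k k' : O8}
    (hk : k * g = g * k) (hk' : k' * g = g * k')
    (hfix : ∀ m, qf (disp g m) = 0 → k.1 (disp g m) = disp g m)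
    (hfix' : ∀ m, qf (disp g m) = 0 → k'.1 (disp g m) = disp g m) : k * k' ≠ g * (k' * k) := by
  intro heq
  have hcm : ∀ {h : O8}, h * g = g * h → ∀ m, h.1 (disp g m) = disp g (h.1 m) := fun {h} hh m => by
    rw [disp_apply, disp_apply, map_add]
    show (h * g).1 m + _ = _
    rw [hh]; rfl
  have hcm' : ∀ {h : O8}, h * g = g * h → ∀ m, h.1 (g.1 m) = g.1 (h.1 m) := fun {h} hh m => by
    show (h * g).1 m = _
    rw [hh]; rfl
  -- the vectors orthogonal to the singular part
  let R : Set M8 := {r | ∀ x, qf (disp g x) = 0 → bf r x = 0}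
  have hR : ∀ r ∈ R, ∀ r' ∈ R, r ≠ 0 → r' ≠ 0 → r = r' := by
    intro r hr r' hr' h0 h0'
    have key : ∀ {r : M8}, r ∈ R → r ≠ 0 → ∀ x, bf r x = qf (disp g x) := by
      intro r hr h0 x
      obtain ⟨x₁, hx₁⟩ : ∃ x₁, bf r x₁ ≠ 0 := by
        by_contra hcon; push Not at hcon; exact h0 (eq_zero_of_bf hcon)
      have hx₁ := (zmod2_cases _).resolve_left hx₁
      have hq₁ : qf (disp g x₁) = 1 := (zmod2_cases _).resolve_left fun e => by
        rw [hr x₁ e] at hx₁; exact zero_ne_one hx₁
      rcases zmod2_cases (qf (disp g x)) with e | e <;> rw [e]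
      · exact hr x e
      · have h := hr (x + x₁) (by rw [qf_disp_add hg, e, hq₁]; decide)
        rw [bf_add_right, hx₁] at h
        exact CharTwo.add_eq_zero.1 h
    refine eq_of_add_eq_zero (eq_zero_of_bf fun x => ?_)
    rw [bf_add_left, key hr h0, key hr' h0', CharTwo.add_self_eq_zero]
  have hadd : ∀ r ∈ R, ∀ r' ∈ R, r + r' ∈ R := fun r hr r' hr' x hx => by
    rw [bf_add_left, hr x hx, hr' x hx, add_zero]
  have hmove : ∀ {h : O8}, h * g = g * h → (∀ m, qf (disp g m) = 0 → h.1 (disp g m) = disp g m) →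
      ∀ y, h.1 (disp g y) + disp g y ∈ R := by
    intro h hh hf y x hx
    have h1 : bf (h.1 (disp g y)) x = bf (disp g y) x := by
      have e1 : bf (h.1 (disp g y)) x = bf y ((h⁻¹).1 (disp g x)) := by
        rw [hcm hh, bf_disp hg]
        conv_lhs => rw [← oGroup_apply_inv h (disp g x), bf_oGroup]
      rw [e1, bf_disp hg]
      congr 1
      conv_lhs => rw [← hf x hx]
      exact h.1.symm_apply_apply _
    rw [bf_add_left, h1, CharTwo.add_self_eq_zero]
  -- a vector of the singular part outside this set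
  obtain ⟨a, ha, ha0, haR⟩ : ∃ a, qf (disp g a) = 0 ∧ disp g a ≠ 0 ∧ disp g a ∉ R := by
    by_contra hcon
    push Not at hcon
    have hc16 : Nat.card (LinearMap.range (disp g)) = 16 := by
      rw [Module.natCard_eq_pow_finrank (K := ZMod 2), h4, Nat.card_zmod]; norm_num
    classical
    let L0 := {y : LinearMap.range (disp g) // qf (y : M8) = 0}
    have hsub : ∀ y y' : L0, (y.1 : M8) ≠ 0 → (y'.1 : M8) ≠ 0 → y = y' := by
      rintro ⟨⟨_, m, rfl⟩, hy⟩ ⟨⟨_, m', rfl⟩, hy'⟩ h h'
      exact Subtype.ext (Subtype.ext (hR _ (hcon m hy h) _ (hcon m' hy' h') h h'))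
    have hle2 : Nat.card L0 ≤ 2 := by
      have hinj : Function.Injective (fun y : L0 => decide ((y.1 : M8) = 0)) := fun y y' e => by
        have e : ((y.1 : M8) = 0 ↔ (y'.1 : M8) = 0) := decide_eq_decide.1 e
        by_cases h : (y.1 : M8) = 0
        · exact Subtype.ext (Subtype.ext (h.trans (e.1 h).symm))
        · exact hsub y y' h fun h' => h (e.2 h')
      exact (Nat.card_le_card_of_injective _ hinj).trans (by simp)
    by_cases hall : ∀ m, qf (disp g m) = 0
    · have : Nat.card L0 = 16 := by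
        rw [← hc16]
        exact Nat.card_congr (Equiv.subtypeUnivEquiv fun y => by obtain ⟨_, m, rfl⟩ := y; exact hall m)
      omega
    · push Not at hall
      obtain ⟨m₁, hm₁⟩ := hall
      have hm₁ := (zmod2_cases _).resolve_left hm₁
      let y₁ : LinearMap.range (disp g) := ⟨disp g m₁, m₁, rfl⟩
      have hflip : ∀ y : LinearMap.range (disp g), qf ((y + y₁ : LinearMap.range (disp g)) : M8) = qf (y : M8) + 1 := by
        rintro ⟨_, m, rfl⟩
        show qf (disp g m + disp g m₁) = _
        rw [← map_add, qf_disp_add hg, hm₁]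
      let f : LinearMap.range (disp g) → L0 × Bool := fun y =>
        if h : qf (y : M8) = 0 then (⟨y, h⟩, true)
        else (⟨y + y₁, by rw [hflip, (zmod2_cases _).resolve_left h]; decide⟩, false)
      have hf : Function.Injective f := fun y y' e => by
        simp only [f] at e
        split_ifs at e with h h'
        · exact congrArg (fun t : L0 × Bool => t.1.1) e
        · exact absurd (congrArg Prod.snd e) (by simp)
        · exact absurd (congrArg Prod.snd e) (by simp)
        · exact add_right_cancel (congrArg (fun t : L0 × Bool => t.1.1) e)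
      have := Nat.card_le_card_of_injective f hf
      rw [Nat.card_prod, hc16, Nat.card_eq_fintype_card (α := Bool), Fintype.card_bool] at this
      omega
  have hσ : ∀ {h : O8}, h * g = g * h → (∀ m, qf (disp g m) = 0 → h.1 (disp g m) = disp g m) →
      ∃ y, h.1 a = a + disp g y := by
    intro h hh hf
    have h0 : disp g (h.1 a + a) = 0 := by rw [map_add, ← hcm hh, hf a ha, add_self]
    obtain ⟨y, hy⟩ : h.1 a + a ∈ LinearMap.range (disp g) := hker ▸ LinearMap.mem_ker.2 h0
    exact ⟨y, by rw [hy, add_comm (h.1 a), ← add_assoc, add_self, zero_add]⟩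
  obtain ⟨y, hy⟩ := hσ hk hfix
  obtain ⟨y', hy'⟩ := hσ hk' hfix'
  refine haR ?_
  have e : k.1 (k'.1 a) = g.1 (k'.1 (k.1 a)) := by
    show (k * k').1 a = (g * (k' * k)).1 a
    rw [heq]
  rw [hy', map_add, hy] at e
  rw [map_add, hy', map_add, map_add, apply_disp hg, hcm hk' y, apply_disp hg, ← hcm hk' y] at e
  have hd : disp g a = k.1 (disp g y') + disp g y' + (k'.1 (disp g y) + disp g y) := by
    have e2 : g.1 a = k.1 (disp g y') + disp g y' + (k'.1 (disp g y) + disp g y) + a := by
      rw [← sub_eq_zero] at e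
      rw [← sub_eq_zero]
      rw [← neg_eq_zero]
      rw [← e]
      simp only [sub_eq_add_neg, neg_add_rev, neg_neg]
      simp only [show ∀ u : M8, -u = u from fun u => funext fun i => CharTwo.neg_eq (u i)]
      abel
    rw [disp_apply, e2, add_assoc, add_self, add_zero]
  rw [hd]
  exact hadd _ (hmove hk hfix y') _ (hmove hk' hfix' y)

theorem exists_axis (hr2 : Module.finrank (ZMod 2) (LinearMap.range (disp g)) = 2) :
    ∃ e, e ≠ 0 ∧ qf e = 0 ∧ g.1 e = e ∧ ∀ m, bf m e = 0 → g.1 m + m = 0 ∨ g.1 m + m = e := by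
  set T : M8 →ₗ[ZMod 2] M8 := disp g
  have hT : ∀ m, T m = g.1 m + m := fun m => rfl
  have hsym : ∀ m n, bf (T m) n = bf m (T n) := bf_disp hg
  have hTT : ∀ m, g.1 (T m) = T m := apply_disp hg
  have hc4 : Nat.card (LinearMap.range T) = 4 := by
    rw [Module.natCard_eq_pow_finrank (K := ZMod 2), hr2, Nat.card_zmod]; norm_num
  have hlin : ∀ m n, qf (T m + T n) = qf (T m) + qf (T n) := fun m n => by
    rw [qf_add, hsym, hT (T n), hTT, add_self, bf_zero_right, add_zero]
  obtain ⟨x, hx0, hxq⟩ : ∃ x, T x ≠ 0 ∧ qf (T x) = 0 := by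
    by_contra hcon
    push Not at hcon
    haveI := Fintype.ofFinite (LinearMap.range T)
    obtain ⟨⟨_, a, rfl⟩, ha⟩ := Fintype.exists_ne_of_one_lt_card
      (by rw [← Nat.card_eq_fintype_card, hc4]; norm_num) (0 : LinearMap.range T)
    classical
    obtain ⟨⟨_, b, rfl⟩, hb⟩ : ∃ y : LinearMap.range T,
        y ∉ ({0, ⟨T a, a, rfl⟩} : Finset (LinearMap.range T)) := by
      by_contra hall
      push Not at hall
      have h1 := Finset.card_le_card
        (fun y _ => hall y : (Finset.univ : Finset (LinearMap.range T)) ⊆ {0, ⟨T a, a, rfl⟩})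
      have h2 : ({0, ⟨T a, a, rfl⟩} : Finset (LinearMap.range T)).card ≤ 2 := Finset.card_le_two
      rw [Finset.card_univ, ← Nat.card_eq_fintype_card, hc4] at h1
      omega
    rw [Finset.mem_insert, Finset.mem_singleton, not_or] at hb
    obtain ⟨hb1, hb2⟩ := hb
    have ha' : T a ≠ 0 := fun e => ha (Subtype.ext e)
    have hb' : T b ≠ 0 := fun e => hb1 (Subtype.ext e)
    have hab : T (a + b) ≠ 0 := fun e => hb2 (Subtype.ext (by
      rw [map_add] at e
      exact (add_left_cancel (e.trans (add_self (T a)).symm))))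
    have h := hlin a b
    rw [(zmod2_cases _).resolve_left (hcon a ha'), (zmod2_cases _).resolve_left (hcon b hb'),
      ← map_add, (zmod2_cases _).resolve_left (hcon _ hab)] at h
    exact absurd h (by decide)
  refine ⟨T x, hx0, hxq, hTT x, fun m hm => ?_⟩
  by_contra hcon
  push Not at hcon
  rw [← hT] at hcon
  set S : Finset M8 := {0, T x, T m, T x + T m} with hS
  have hne3 : T x + T m ≠ 0 := fun e => hcon.2 (add_left_cancel (e.trans (add_self (T x)).symm))
  have hSc : S.card = 4 := by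
    rw [hS, Finset.card_insert_of_notMem, Finset.card_insert_of_notMem, Finset.card_insert_of_notMem,
      Finset.card_singleton] <;> simp [hx0.symm, hcon.1.symm, hne3.symm, Ne.symm hcon.2, hcon.1, hx0]
  have hall : ∀ n, T n ∈ S := by
    have hsub : (S : Set M8) ⊆ (LinearMap.range T : Set M8) := by
      intro y hy
      simp only [hS, Finset.coe_insert, Finset.coe_singleton, Set.mem_insert_iff, Set.mem_singleton_iff] at hy
      rcases hy with rfl | rfl | rfl | rfl
      exacts [zero_mem _, ⟨x, rfl⟩, ⟨m, rfl⟩, ⟨x + m, map_add T x m⟩]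
    have heq := Set.eq_of_subset_of_ncard_le hsub (by
      rw [Set.ncard_coe_finset, hSc, ← Nat.card_coe_set_eq]
      exact hc4.le)
    intro n
    have : T n ∈ (S : Set M8) := heq ▸ ⟨n, rfl⟩
    exact this
  have hbx : bf x (T x) = 0 := by
    have h := qf_oGroup g x
    rw [show g.1 x = T x + x by rw [hT, add_assoc, add_self, add_zero], qf_add, hxq, zero_add] at h
    rw [bf_comm]
    exact add_eq_left.1 h
  have hbm : bf x (T m) = 0 := by rw [← hsym, bf_comm, hm]
  refine hx0 (eq_zero_of_bf fun n => ?_)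
  rw [hsym]
  have := hall n
  simp only [hS, Finset.mem_insert, Finset.mem_singleton] at this
  rcases this with e | e | e | e <;> rw [e]
  exacts [bf_zero_right x, hbx, hbm, by rw [bf_add_right, hbx, hbm, add_zero]]

end Involution

variable {G : Type*} [Group G] [Finite G] {z : G} {D : Dat z}

omit [Finite G] in
theorem hact_sq {x : G} (hx : x ∈ centralizer ({z} : Set G)) (hx2 : x * x = 1) : hact D x * hact D x = 1 := by
  rw [← hact_mul hx hx, hx2, hact_Q (one_mem _)]

omit [Finite G] in
/-- An involution inverts the lifts of its displacements. -/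
theorem conj_lift {x : G} (hx : x ∈ centralizer ({z} : Set G)) (hx2 : x * x = 1) {q : G} (hq : q ∈ D.Q)
    {n : M8} (hn : D.π q = disp (hact D x) n) :
    x * q * x⁻¹ = q * (if qf (D.π q) = 0 then 1 else z) := by
  obtain ⟨r, hr, hrn⟩ := D.π_surj n
  obtain ⟨hc, hcπ⟩ := π_commutator hx hr
  rw [hrn, ← disp_apply, ← hn] at hcπ
  have hxi : x⁻¹ = x := inv_eq_of_mul_eq_one_right hx2
  obtain ⟨c, hc'⟩ : ∃ c, c = x * r * x⁻¹ * r⁻¹ := ⟨_, rfl⟩
  rw [← hc'] at hc hcπ
  have hinv : x * c * x⁻¹ = c⁻¹ := by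
    rw [hc', show x * (x * r * x⁻¹ * r⁻¹) * x⁻¹ = x * x * r * x⁻¹ * r⁻¹ * x⁻¹ by group, hx2, one_mul, hxi]
    conv_rhs => rw [mul_inv_rev, mul_inv_rev, mul_inv_rev, inv_inv, hxi]
    group
  have hz : x * z * x⁻¹ = z := by rw [mem_centralizer_singleton_iff.1 hx, mul_inv_cancel_right]
  have hcz : (x * c * x⁻¹) = c * (if qf (D.π q) = 0 then 1 else z) := by
    rw [hinv, ← hcπ]
    split_ifs with h
    · rw [mul_one, inv_eq_of_mul_eq_one_right ((D.sq_iff c hc).2 h)]
    · rcases D.pre.gen.square c hc with e | e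
      · exact absurd ((D.sq_iff c hc).1 e) h
      · rw [inv_eq_iff_mul_eq_one, ← mul_assoc, e, D.pre.gen.sq]
  rcases eq_of_π D hc hq hcπ with e | e
  · rw [e] at hcz ⊢
    exact hcz
  · rw [show D.π q = D.π c from hcπ.symm] at hcz ⊢
    rw [e, show x * (c * z) * x⁻¹ = x * c * x⁻¹ * (x * z * x⁻¹) by group, hz, hcz, mul_assoc, mul_assoc]
    congr 1
    split_ifs <;> simp

/-- Conjugate into the product of the two radical parts. -/
theorem Base.exists_product (B : Base D) {x : G} (hx : x ∈ centralizer ({z} : Set G)) (hxQ : x ∉ D.Q)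
    (hx2 : x * x = 1) (hr2 : Module.finrank (ZMod 2) (LinearMap.range (disp (hact D x))) = 2) :
    ∃ c ∈ centralizer ({z} : Set G), ∃ b ∈ B.P, ∃ a ∈ B.A, c * x * c⁻¹ = b * a ∧ red (B.wv b) ≠ 0 := by
  have hgm := D.act_mem ⟨x, hx⟩
  have hg2 : D.act ⟨x, hx⟩ * D.act ⟨x, hx⟩ = 1 := by
    rw [← map_mul, show (⟨x, hx⟩ * ⟨x, hx⟩ : centralizer ({z} : Set G)) = 1 from Subtype.ext hx2, map_one]
  have hg1 : D.act ⟨x, hx⟩ ≠ 1 := fun e => hxQ ((D.act_eq_one ⟨x, hx⟩).1 e)
  rw [hact_eq hx] at hr2
  obtain ⟨e, he0, heq, hge, htriv⟩ := exists_axis hg2 hr2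
  obtain ⟨h, hh, hhe⟩ := exists_move_e0 he0 heq
  obtain ⟨c, hc⟩ := D.act_surj h hh
  set x' := c * ⟨x, hx⟩ * c⁻¹ with hx'
  have hact : D.act x' = h * D.act ⟨x, hx⟩ * h⁻¹ := by rw [hx', map_mul, map_mul, map_inv, hc]
  have happ : ∀ n, (D.act x').1 (h.1 n) = h.1 ((D.act ⟨x, hx⟩).1 n) := fun n => by
    rw [hact]
    show h.1 ((D.act ⟨x, hx⟩).1 ((h⁻¹ * h).1 n)) = _
    rw [inv_mul_cancel]; rfl
  have hfe : (D.act x').1 e0 = e0 := by rw [← hhe, happ, hge]
  obtain ⟨hadm, hu⟩ := radical_eq hfe fun m hm => by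
    obtain ⟨n, rfl⟩ : ∃ n, h.1 n = m := ⟨_, h.1.apply_symm_apply m⟩
    rw [← hhe, bf_oGroup] at hm
    rw [happ, ← map_add]
    rcases htriv n hm with e' | e' <;> rw [e']
    · left; exact map_zero _
    · right; exact hhe
  obtain ⟨b, hb, hbw⟩ := B.wv_surj hadm
  have hxQ' : (x' : G) ∉ D.Q := fun e' => hg1 (by
    have h1 := (D.act_eq_one x').2 e'
    rw [hact, conj_eq_one_iff] at h1
    exact h1)
  have haQ : b⁻¹ * (x' : G) ∈ D.Q := by
    refine (D.act_eq_one (⟨b, hb.2⟩⁻¹ * x')).1 ?_
    rw [map_mul, map_inv, inv_mul_eq_one]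
    exact Subtype.ext (LinearEquiv.ext fun m => by rw [(B.act_P hb).2, hbw, ← hu])
  obtain ⟨q, hq⟩ : ∃ q, q = b⁻¹ * (x' : G) := ⟨_, rfl⟩
  have hqQ : q ∈ D.Q := hq ▸ haQ
  have hxe : (x' : G) = b * q := by rw [hq, mul_inv_cancel_left]
  have hxx : (x' : G) * (x' : G) = 1 := by
    show (c : G) * x * (c : G)⁻¹ * ((c : G) * x * (c : G)⁻¹) = 1
    rw [show (c : G) * x * (c : G)⁻¹ * ((c : G) * x * (c : G)⁻¹) = (c : G) * (x * x) * (c : G)⁻¹ by group, hx2]
    group
  have hne : red (B.wv b) ≠ 0 := by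
    intro h0
    have hw : B.wv b = 0 := adm_eq (B.act_P hb).1 ⟨bf_zero_left _, by rw [bf_zero_right, qf_zero]⟩
      (h0.trans red_zero.symm)
    refine hxQ' ?_
    rw [hxe]
    refine mul_mem ((D.act_eq_one ⟨b, hb.2⟩).1 (Subtype.ext (LinearEquiv.ext fun m => ?_))) hqQ
    rw [(B.act_P hb).2, hw]
    simp [uMap, bf_zero_right]
  refine ⟨c, c.2, b, hb, q, B.mem_A.2 ⟨hqQ, ?_⟩, hxe, hne⟩
  obtain ⟨hbV, -, -⟩ := B.sq_P hb
  have hbqb : b * q * b⁻¹ ∈ D.Q := D.pre.conj_mem (B.P_fix hb).1 hqQ
  have h1 : b * q * b⁻¹ * (b * b) * q = 1 := by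
    rw [show b * q * b⁻¹ * (b * b) * q = b * q * (b * q) by group, ← hxe, hxx]
  have h2 := congrArg D.π h1
  rw [D.π_mul _ (mul_mem hbqb hbV.1) _ hqQ, D.π_mul _ hbqb _ hbV.1, π_one,
    show D.π (b * q * b⁻¹) = _ from D.act_π ⟨b, hb.2⟩ q hqQ, (B.act_P hb).2, uMap] at h2
  by_contra hqe
  rw [(zmod2_cases _).resolve_left hqe, one_smul, one_smul] at h2
  have h3 := congrArg red h2
  have hbbπ : red (D.π (b * b)) = 0 := by
    rcases hbV.2 with e' | e' <;> rw [e']
    exacts [red_zero, red_e0]
  simp only [red_add, red_smul_e0, hbbπ, add_zero, red_zero] at h3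
  refine hne ?_
  rw [add_comm (red (D.π q)), add_assoc, add_self, add_zero] at h3
  exact h3

end CfsgLib.Co1Invol
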