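import Cfsg.Agent.Co1Invol.Upper

/-!
Reduction of the involutions with displacement of rank four.
-/

set_option autoImplicit false
set_option linter.style.haveILetI false

namespace CfsgLib.Co1Invol

open CfsgLib CfsgLib.Quad Subgroup

variable {G : Type*} [Group G] [Finite G] {z : G} {D : Dat z} (B : Base D)

omit [Finite G] in
theorem disp_conj {c x : G} (hc : c ∈ centralizer ({z} : Set G)) (hx : x ∈ centralizer ({z} : Set G)) (m : M8) :
    disp (hact D (c * x * c⁻¹)) ((hact D c).1 m) = (hact D c).1 (disp (hact D x) m) := by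
  rw [disp_apply, disp_apply, map_add, hact_mul (mul_mem hc hx) (inv_mem hc), hact_mul hc hx, hact_inv hc]
  show (hact D c).1 ((hact D x).1 (((hact D c)⁻¹ * hact D c).1 m)) + _ = _
  rw [inv_mul_cancel]
  rfl

omit [Finite G] in
theorem range_conj {c x : G} (hc : c ∈ centralizer ({z} : Set G)) (hx : x ∈ centralizer ({z} : Set G)) :
    LinearMap.range (disp (hact D (c * x * c⁻¹))) =
      (LinearMap.range (disp (hact D x))).map (hact D c).1.toLinearMap := by
  ext y
  constructor
  · rintro ⟨m, rfl⟩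
    obtain ⟨n, rfl⟩ : ∃ n, (hact D c).1 n = m := ⟨_, (hact D c).1.apply_symm_apply m⟩
    exact ⟨_, ⟨n, rfl⟩, (disp_conj hc hx n).symm⟩
  · rintro ⟨_, ⟨n, rfl⟩, rfl⟩
    exact ⟨_, disp_conj hc hx n⟩

omit [Finite G] in
theorem finrank_conj {c x : G} (hc : c ∈ centralizer ({z} : Set G)) (hx : x ∈ centralizer ({z} : Set G)) :
    Module.finrank (ZMod 2) (LinearMap.range (disp (hact D (c * x * c⁻¹)))) =
      Module.finrank (ZMod 2) (LinearMap.range (disp (hact D x))) := by
  rw [range_conj hc hx]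
  exact LinearEquiv.finrank_map_eq (hact D c).1 _

/-- An involution of rank four whose residual displacement at the point is totally singular. -/
theorem Base.to_root {y : G} (hy : y ∈ B.N) (hy2 : y * y = 1)
    (h4 : Module.finrank (ZMod 2) (LinearMap.range (disp (hact D y))) = 4)
    (he0 : e0 ∈ LinearMap.range (disp (hact D y)))
    (hts : ∀ n, bf n e0 = 0 → qf (disp (hact D y) n) = 0) :
    ∃ c ∈ centralizer ({z} : Set G), ∃ b ∈ B.P, ∃ a ∈ B.A, ∃ k ∈ B.N, hact D k = root ∧
      B.τ * k = k * B.τ ∧ B.τ' * k = k * B.τ' ∧ c * y * c⁻¹ = b * a * k := by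
  classical
  set g := hact D y
  have hg : g * g = 1 := hact_sq (B.N_C hy) hy2
  obtain ⟨n0, hn0⟩ := he0
  have hn0e : bf n0 e0 = 0 := by
    rw [bf_comm, ← hn0, ← qf_disp_self hg, hn0, q_e0]
  have hperp : ∀ m, bf (disp g m) e0 = 0 := fun m => by rw [← hn0, bf_disp_disp hg]
  have hproj : ∀ m, bf (m + bf m e0 • f0) e0 = 0 := fun m => by
    rw [bf_add_left, bf_smul_left, b_fe, mul_one, CharTwo.add_self_eq_zero]
  have hnot : ∀ r : M8, ¬ ∀ m, bf m e0 = 0 → red (disp g m) = 0 ∨ red (disp g m) = r := by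
    intro r hall
    have hle : LinearMap.range (disp g) ≤ Submodule.span (ZMod 2) ({e0, r, disp g f0} : Set M8) := by
      rintro _ ⟨m, rfl⟩
      have hm : disp g m = red (disp g (m + bf m e0 • f0)) + bf (disp g (m + bf m e0 • f0)) f0 • e0 +
          bf m e0 • disp g f0 := by
        rw [red]
        simp only [map_add, map_smul, add_assoc, ← two_smul (ZMod 2) (bf (disp g m + _) f0 • e0)]
        rw [show (2 : ZMod 2) = 0 from rfl, zero_smul, zero_add, ← two_smul (ZMod 2) (bf m e0 • disp g f0),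
          show (2 : ZMod 2) = 0 from rfl, zero_smul, add_zero]
      rw [hm]
      refine add_mem (add_mem ?_ (Submodule.smul_mem _ _ (Submodule.subset_span (by simp))))
        (Submodule.smul_mem _ _ (Submodule.subset_span (by simp)))
      rcases hall _ (hproj m) with e | e <;> rw [e]
      · exact zero_mem _
      · exact Submodule.subset_span (by simp)
    have := (Submodule.finrank_mono hle).trans (finrank_span_le_card (R := ZMod 2) _)
    rw [h4, Set.toFinset_insert, Set.toFinset_insert, Set.toFinset_singleton] at this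
    exact absurd (this.trans Finset.card_le_three) (by norm_num)
  have hexact : ∀ m, bf m e0 = 0 → ∃ n, bf n e0 = 0 ∧ disp g n = red (disp g m) := fun m hm =>
    ⟨m + bf (disp g m) f0 • n0, by rw [bf_add_left, bf_smul_left, hm, hn0e, mul_zero, add_zero],
      by rw [map_add, map_smul, hn0, red]⟩
  obtain ⟨r, n, hn, hrn, hr0, hrW⟩ : ∃ r n, bf n e0 = 0 ∧ disp g n = r ∧ r ≠ 0 ∧ r ∈ wList := by
    have h := hnot 0
    push Not at h
    obtain ⟨m, hm, h0, -⟩ := h
    obtain ⟨n, hn, he⟩ := hexact m hm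
    exact ⟨_, n, hn, he, h0, red_mem _ (hperp m)⟩
  obtain ⟨r', n', hn', hrn', hr0', hrr, hrW'⟩ :
      ∃ r' n', bf n' e0 = 0 ∧ disp g n' = r' ∧ r' ≠ 0 ∧ r' ≠ r ∧ r' ∈ wList := by
    have h := hnot r
    push Not at h
    obtain ⟨m, hm, h0, h1⟩ := h
    obtain ⟨n, hn, he⟩ := hexact m hm
    exact ⟨_, n, hn, he, h0, h1, red_mem _ (hperp m)⟩
  have qr : qf r = 0 := hrn ▸ hts n hn
  have qr' : qf r' = 0 := hrn' ▸ hts n' hn'
  have brr : bf r r' = 0 := by rw [← hrn, ← hrn', bf_disp_disp hg]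
  have brn : bf r n = 0 := by rw [← hrn, ← qf_disp_self hg, hrn, qr]
  have brn' : bf r' n' = 0 := by rw [← hrn', ← qf_disp_self hg, hrn', qr']
  have bn : ∀ {u v : M8}, disp g u = v → bf v n0 = bf u e0 := fun {u v} h => by
    rw [← h, bf_disp hg, hn0]
  -- the four vectors span the range
  let w : Fin 4 → M8 := ![e0, r, r', disp g f0]
  have hli : LinearIndependent (ZMod 2) w := by
    rw [Fintype.linearIndependent_iff]
    intro c hc
    simp only [w, Fin.sum_univ_four, Matrix.cons_val_zero, Matrix.cons_val_one, Matrix.head_cons,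
      Matrix.cons_val_two, Matrix.tail_cons, Matrix.cons_val_three] at hc
    have h3 : c 3 = 0 := by
      have h := congrArg (fun v => bf v n0) hc
      simp only [bf_add_left, bf_smul_left, bn hrn, bn hrn', bn rfl, hn, hn', b_fe, bf_zero_left] at h
      rw [bf_comm e0 n0, hn0e] at h
      simpa using h
    rw [h3, zero_smul, add_zero] at hc
    have h := congrArg red hc
    have hsm : ∀ (t : ZMod 2) (v : M8), red (t • v) = t • red v := fun t v => by
      rcases zmod2_cases t with e | e <;> rw [e] <;> simp [red_zero]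
    simp only [red_add, red_smul_e0, hsm _ r, hsm _ r', red_wList hrW, red_wList hrW', red_zero, zero_add] at h
    rcases zmod2_cases (c 0) with a0 | a0 <;> rcases zmod2_cases (c 1) with a1 | a1 <;>
      rcases zmod2_cases (c 2) with a2 | a2 <;> rw [a1, a2] at h <;> rw [a0, a1, a2] at hc <;>
      simp only [zero_smul, one_smul, zero_add, add_zero] at h hc <;>
      first
        | exact absurd h hr0
        | exact absurd h hr0'
        | exact absurd (eq_of_add_eq_zero h).symm hrr
        | exact absurd hc e0_ne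
        | (intro i; fin_cases i <;> assumption)
  have hsub : Submodule.span (ZMod 2) (Set.range w) ≤ LinearMap.range (disp g) := by
    rw [Submodule.span_le]
    rintro _ ⟨i, rfl⟩
    fin_cases i
    exacts [⟨n0, hn0⟩, ⟨n, hrn⟩, ⟨n', hrn'⟩, ⟨f0, rfl⟩]
  have hspan : Submodule.span (ZMod 2) (Set.range w) = LinearMap.range (disp g) :=
    Submodule.eq_of_le_of_finrank_le hsub (by rw [finrank_span_eq_card hli, h4, Fintype.card_fin])
  have hexp : ∀ m, bf m e0 = 0 → ∃ a b c : ZMod 2, disp g m = a • e0 + b • r + c • r' := fun m hm => by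
    have hmem : disp g m ∈ Submodule.span (ZMod 2) (Set.range w) := hspan ▸ ⟨m, rfl⟩
    obtain ⟨c, hc⟩ := (Submodule.mem_span_range_iff_exists_fun (ZMod 2)).1 hmem
    simp only [w, Fin.sum_univ_four, Matrix.cons_val_zero, Matrix.cons_val_one, Matrix.head_cons,
      Matrix.cons_val_two, Matrix.tail_cons, Matrix.cons_val_three] at hc
    have h := congrArg (fun v => bf v n0) hc
    simp only [bf_add_left, bf_smul_left, bn hrn, bn hrn', bn rfl, hn, hn', b_fe, hm] at h
    rw [bf_comm e0 n0, hn0e] at h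
    have h3 : c 3 = 0 := by simpa using h
    rw [h3, zero_smul, add_zero] at hc
    exact ⟨_, _, _, hc.symm⟩
  have hβ : bf r' n = 1 := by
    refine (zmod2_cases _).resolve_left fun h0 => ?_
    obtain ⟨v, hv, hrv⟩ := exists_dual r hrW hr0
    obtain ⟨a, b, c, h⟩ := hexp v (wList_perp v hv).1
    have h' := congrArg (fun u => bf u n) h
    simp only [bf_add_left, bf_smul_left, brn, h0, bf_disp hg, hrn] at h'
    rw [bf_comm e0 n, hn, bf_comm v r, hrv] at h'
    simp at h'
  have hβ' : bf r n' = 1 := by rw [← hrn, bf_disp hg, hrn', bf_comm, hβ]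
  have hformula : ∀ m, bf m e0 = 0 → red (disp g m) = bf m r' • r + bf m r • r' := fun m hm => by
    obtain ⟨a, b, c, h⟩ := hexp m hm
    have hb := congrArg (fun u => bf u n') h
    simp only [bf_add_left, bf_smul_left, hβ', brn', bf_disp hg, hrn'] at hb
    rw [bf_comm e0 n', hn'] at hb
    have hc := congrArg (fun u => bf u n) h
    simp only [bf_add_left, bf_smul_left, hβ, brn, bf_disp hg, hrn] at hc
    rw [bf_comm e0 n, hn] at hc
    simp only [mul_zero, mul_one, zero_add, add_zero] at hb hc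
    rw [hb, hc, h]
    have hsm : ∀ (t : ZMod 2) (v : M8), red (t • v) = t • red v := fun t v => by
      rcases zmod2_cases t with e | e <;> rw [e] <;> simp [red_zero]
    rw [red_add, red_add, red_smul_e0, zero_add, hsm, hsm, red_wList hrW, red_wList hrW']
  -- move the pair to the standard one
  obtain ⟨h, hh, hx1, hx2⟩ := singular_transitive hrW hrW' qr qr' brr hr0 hr0' hrr
  obtain ⟨c, hc, hca, -, -⟩ := B.lev_lift hh
  obtain ⟨k, hk, hka, t1, t2⟩ := B.lev_lift root_lev
  have hk2 : k * k = 1 := B.lev_lift_sq root_sq hk hka t1 t2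
  have hy' : c⁻¹ * y * c ∈ B.N := mul_mem (mul_mem (inv_mem hc) hy) hc
  have hR : c⁻¹ * y * c * k ∈ B.R := by
    refine ⟨mul_mem hy' hk, fun m hm => ?_⟩
    rw [hact_mul (B.N_C hy') (B.N_C hk), hact_mul (mul_mem (inv_mem (B.N_C hc)) (B.N_C hy)) (B.N_C hc),
      hact_mul (inv_mem (B.N_C hc)) (B.N_C hy), hact_inv (B.N_C hc), hca, hka]
    show red ((h⁻¹).1 (g.1 (h.1 (root.1 m)))) = _
    have hm' : bf (root.1 m) e0 = 0 := by rw [bf_image_e0 root_lev.2.1, hm]
    have hm'' : bf (h.1 (root.1 m)) e0 = 0 := by rw [bf_image_e0 hh.2.1, hm']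
    have hroot : red (root.1 (root.1 m)) = red m := by
      show red ((root * root).1 m) = _
      rw [root_sq]; rfl
    rw [apply_eq_disp g, map_add, red_add, red_lev (inv_mem hh) (hperp _), hformula _ hm'', map_add, map_smul,
      map_smul, ← hx1, ← hx2, bf_oGroup, bf_oGroup,
      show (h⁻¹).1 (h.1 x1) = x1 from h.1.symm_apply_apply x1,
      show (h⁻¹).1 (h.1 x2) = x2 from h.1.symm_apply_apply x2,
      show (h⁻¹).1 (h.1 (root.1 m)) = root.1 m from h.1.symm_apply_apply _, ← hroot,
      root_apply (root.1 m), sm, pair_facts.2.2.2.2.1, zero_mul, add_zero, red_add, red_add]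
    have hsm : ∀ (t : ZMod 2) (v : M8), red (t • v) = t • red v := fun t v => by
      rcases zmod2_cases t with e | e <;> rw [e] <;> simp [red_zero]
    rw [hsm, hsm, red_wList basis_mem.1, red_wList basis_mem.2.1]
    abel
  obtain ⟨b, hb, a, ha, he⟩ := B.exists_pair hR
  refine ⟨c⁻¹, inv_mem (B.N_C hc), b, hb, a, ha, k, hk, hka, t1, t2, ?_⟩
  rw [← he, inv_inv, mul_assoc (c⁻¹ * y * c) k k, hk2, mul_one]

variable (St : Pr B w2 v2) (Su : Pr B x1 x2)

/-- An involution of rank four is conjugate into the standard classes. -/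
theorem Base.classify_four {x : G} (hx : x ∈ centralizer ({z} : Set G)) (hx2 : x * x = 1)
    (h4 : Module.finrank (ZMod 2) (LinearMap.range (disp (hact D x))) = 4)
    (hker : LinearMap.range (disp (hact D x)) = LinearMap.ker (disp (hact D x))) :
    (IsConj z x ∨ IsConj Su.el x ∨ IsConj St.el x) ∧
      ((∃ n, qf (disp (hact D x) n) = 1) → IsConj Su.el x ∨ IsConj St.el x) := by
  have hg : hact D x * hact D x = 1 := hact_sq hx hx2
  obtain ⟨e, ⟨m, hm⟩, he0, hqe, hts⟩ := exists_good_point hg h4 hker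
  obtain ⟨q, hq, hqe'⟩ := D.π_surj e
  have hxq : x * q * x⁻¹ = q := by
    rw [conj_lift hx hx2 hq (hqe'.trans hm.symm), hqe', if_pos hqe, mul_one]
  obtain ⟨c, hc, hcs⟩ := exists_conj_C D hq B.sQ (by rw [hqe']; exact hqe) (by rw [B.πs]; exact q_e0)
    (by rw [hqe']; exact he0) (by rw [B.πs]; exact e0_ne)
  have hce : (hact D c).1 e = e0 := by rw [← hqe', ← (π_conj hc hq).2, hcs, B.πs]
  obtain ⟨y, hyd⟩ : ∃ y, y = c * x * c⁻¹ := ⟨_, rfl⟩
  have hyN : y ∈ B.N := by
    refine B.mem_N.2 ⟨mem_centralizer_singleton_iff.1 (hyd ▸ mul_mem (mul_mem hc hx) (inv_mem hc)),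
      mul_inv_eq_iff_eq_mul.1 ?_⟩
    conv_rhs => rw [← hcs, ← hxq]
    rw [hyd, ← hcs]; group
  have hy2 : y * y = 1 := by
    rw [hyd, show c * x * c⁻¹ * (c * x * c⁻¹) = c * (x * x) * c⁻¹ by group, hx2]; group
  obtain ⟨c', hc', b, hb, a, ha, k, hk, hka, t1, t2, he⟩ := B.to_root hyN hy2
    (by rw [hyd, finrank_conj hc hx, h4]) ⟨(hact D c).1 m, by rw [hyd, disp_conj hc hx, hm, hce]⟩
    (fun n hn => by
      obtain ⟨n, rfl⟩ : ∃ n', (hact D c).1 n' = n := ⟨_, (hact D c).1.apply_symm_apply n⟩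
      rw [hyd, disp_conj hc hx, qf_oGroup]
      refine hts n ?_
      rw [← hce, bf_oGroup] at hn
      exact hn)
  have hd : c' * c ∈ centralizer ({z} : Set G) := mul_mem hc' hc
  have hbak : b * a * k = c' * c * x * (c' * c)⁻¹ := by rw [← he, hyd]; group
  have hsq : b * a * k * (b * a * k) = 1 := by
    rw [hbak, show c' * c * x * (c' * c)⁻¹ * (c' * c * x * (c' * c)⁻¹) = c' * c * (x * x) * (c' * c)⁻¹ by group,
      hx2]
    group
  obtain ⟨d, hdC, hdQ, hd2, hdz⟩ := B.reduce_root hb ha hk hka t1 t2 hsq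
  obtain ⟨x', hx'⟩ : ∃ x', x' = d * (b * a * k) * d⁻¹ := ⟨_, rfl⟩
  rw [← hx'] at hdC hdQ hd2 hdz
  have hxx : IsConj x' x := by
    refine (isConj_iff.2 ⟨d * (c' * c), ?_⟩).symm
    rw [hx', hbak]; group
  have hx'2 : x' * x' = 1 := by
    rw [hx', show d * (b * a * k) * d⁻¹ * (d * (b * a * k) * d⁻¹) = d * (b * a * k * (b * a * k)) * d⁻¹ by group,
      hsq]
    group
  have hcases := B.classify_two St Su hdC hdQ hx'2 hd2
  have hconj : ∀ {u : G}, (∃ c ∈ centralizer ({z} : Set G), c * u * c⁻¹ = x') → IsConj u x :=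
    fun {u} ⟨c, _, hcu⟩ => (isConj_iff.2 ⟨c, hcu⟩).trans hxx
  refine ⟨?_, fun ⟨n, hn⟩ => ?_⟩
  · rcases hcases with h | h | h
    · exact Or.inl ((B.isConj_of_sing h hx'2 (fun e => hdQ (e ▸ one_mem _))).trans hxx)
    · exact Or.inr (Or.inl (hconj h))
    · exact Or.inr (Or.inr (hconj h))
  · have hz : HasZ D x' := hdz ⟨(hact D (c' * c)).1 n, by rw [hbak, disp_conj hd hx, qf_oGroup, hn]⟩
    rcases hcases with h | h | h
    · exact absurd hz (B.not_hasZ_of_sing hdC hdQ h)
    · exact Or.inl (hconj h)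
    · exact Or.inr (hconj h)

end CfsgLib.Co1Invol
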