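import Cfsg.Agent.Co1Invol.Squares

/-!
The frame of a pair of commuting conjugate involutions: the product of the radical parts, the
elements inducing the symmetric group on the four-group, and lifts fixed by them.
-/

set_option autoImplicit false
set_option linter.style.haveILetI false

namespace CfsgLib.Co1Invol

open CfsgLib CfsgLib.Quad Subgroup

variable {G : Type*} [Group G] [Finite G] {z : G} {D : Dat z}

omit [Finite G] in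
theorem one_apply' (m : M8) : (1 : O8).1 m = m := rfl

/-- The induced isometry. -/
noncomputable def hact (D : Dat z) (n : G) : O8 :=
  haveI := Classical.propDecidable (n ∈ centralizer ({z} : Set G))
  if h : n ∈ centralizer ({z} : Set G) then D.act ⟨n, h⟩ else 1

omit [Finite G] in
theorem hact_eq {n : G} (h : n ∈ centralizer ({z} : Set G)) : hact D n = D.act ⟨n, h⟩ := dif_pos h

omit [Finite G] in
theorem hact_mul {n m : G} (hn : n ∈ centralizer ({z} : Set G)) (hm : m ∈ centralizer ({z} : Set G)) :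
    hact D (n * m) = hact D n * hact D m := by
  rw [hact_eq hn, hact_eq hm, hact_eq (mul_mem hn hm), ← map_mul]; rfl

omit [Finite G] in
theorem hact_inv {n : G} (hn : n ∈ centralizer ({z} : Set G)) : hact D n⁻¹ = (hact D n)⁻¹ := by
  rw [hact_eq hn, hact_eq (inv_mem hn), ← map_inv]; rfl

omit [Finite G] in
theorem hact_Q {q : G} (hq : q ∈ D.Q) : hact D q = 1 := by
  rw [hact_eq (mem_C D hq), D.act_eq_one]; exact hq

omit [Finite G] in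
theorem mem_Q_of_hact {n : G} (hn : n ∈ centralizer ({z} : Set G)) (h : hact D n = 1) : n ∈ D.Q := by
  rw [hact_eq hn, D.act_eq_one] at h; exact h

omit [Finite G] in
theorem hact_mem (n : G) : hact D n ∈ commutator (oGroup q8) := by
  unfold hact
  split
  · exact D.act_mem _
  · exact one_mem _

omit [Finite G] in
theorem π_conj {n q : G} (hn : n ∈ centralizer ({z} : Set G)) (hq : q ∈ D.Q) :
    n * q * n⁻¹ ∈ D.Q ∧ D.π (n * q * n⁻¹) = (hact D n).1 (D.π q) :=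
  ⟨D.pre.conj_mem (mem_centralizer_singleton_iff.1 hn) hq, by rw [hact_eq hn]; exact D.act_π ⟨n, hn⟩ q hq⟩

omit [Finite G] in
theorem π_commutator {n q : G} (hn : n ∈ centralizer ({z} : Set G)) (hq : q ∈ D.Q) :
    n * q * n⁻¹ * q⁻¹ ∈ D.Q ∧ D.π (n * q * n⁻¹ * q⁻¹) = (hact D n).1 (D.π q) + D.π q := by
  obtain ⟨h1, h2⟩ := π_conj hn hq
  exact ⟨mul_mem h1 (inv_mem hq), by rw [D.π_mul _ h1 _ (inv_mem hq), π_inv D hq, h2]⟩

theorem red_apply {h : O8} (he : h.1 e0 = e0) (m : M8) : red (h.1 m) = red (h.1 (red m)) := by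
  rcases red_cases m with e | e
  · rw [← e]
  · conv_lhs => rw [e, map_add, he, red_add, red_e0, add_zero]

theorem red_lev {h : O8} (hh : h ∈ lev) {m : M8} (hm : bf m e0 = 0) : red (h.1 m) = h.1 (red m) := by
  rw [red_apply hh.2.1, red_wList (lev_wList hh (red_mem m hm))]

theorem bf_image_e0 {h : O8} (he : h.1 e0 = e0) (m : M8) : bf (h.1 m) e0 = bf m e0 := by
  conv_lhs => rw [← he, bf_oGroup]

variable (B : Base D)

/-- The common centraliser of the two involutions. -/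
def Base.N : Subgroup G := centralizer ({z} : Set G) ⊓ centralizer ({B.s} : Set G)

omit [Finite G] in
theorem Base.mem_N {n : G} : n ∈ B.N ↔ n * z = z * n ∧ n * B.s = B.s * n := by
  rw [Base.N, mem_inf, mem_centralizer_singleton_iff, mem_centralizer_singleton_iff]

omit [Finite G] in
theorem Base.N_C {n : G} (hn : n ∈ B.N) : n ∈ centralizer ({z} : Set G) := hn.1

omit [Finite G] in
theorem Base.N_fix {n : G} (hn : n ∈ B.N) : n * z * n⁻¹ = z ∧ n * B.s * n⁻¹ = B.s := by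
  obtain ⟨h1, h2⟩ := B.mem_N.1 hn
  exact ⟨by rw [h1, mul_inv_cancel_right], by rw [h2, mul_inv_cancel_right]⟩

omit [Finite G] in
theorem Base.N_e0 {n : G} (hn : n ∈ B.N) : (hact D n).1 e0 = e0 := by
  rw [← B.πs, ← (π_conj (B.N_C hn) B.sQ).2, (B.N_fix hn).2]

omit [Finite G] in
theorem Base.A_N {a : G} (ha : a ∈ B.A) : a ∈ B.N := B.mem_N.2 (B.A_fix ha)

theorem Base.P_N {b : G} (hb : b ∈ B.P) : b ∈ B.N := B.mem_N.2 (B.P_fix hb)

omit [Finite G] in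
theorem Base.mem_A_of {a : G} (ha : a ∈ D.Q) (hn : a ∈ B.N) : a ∈ B.A := ⟨ha, hn.2⟩

/-- The radical of the frame. -/
def Base.R : Subgroup G where
  carrier := {n | n ∈ B.N ∧ ∀ m, bf m e0 = 0 → red ((hact D n).1 m) = red m}
  one_mem' := ⟨one_mem _, fun m _ => by rw [hact_Q (one_mem _)]; rfl⟩
  mul_mem' := by
    rintro a b ⟨a1, a2⟩ ⟨b1, b2⟩
    refine ⟨mul_mem a1 b1, fun m hm => ?_⟩
    rw [hact_mul (B.N_C a1) (B.N_C b1)]
    show red ((hact D a).1 ((hact D b).1 m)) = _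
    rw [a2 _ ((bf_image_e0 (B.N_e0 b1) m).trans hm), b2 m hm]
  inv_mem' := by
    rintro a ⟨a1, a2⟩
    refine ⟨inv_mem a1, fun m hm => ?_⟩
    rw [hact_inv (B.N_C a1)]
    have h := a2 (((hact D a)⁻¹).1 m) (by
      rw [← hact_inv (B.N_C a1), bf_image_e0 (B.N_e0 (inv_mem a1)), hm])
    rw [oGroup_apply_inv] at h
    exact h.symm

/-- The displacement along the singular point. -/
noncomputable def Base.wR (_B : Base D) (n : G) : M8 := red ((hact D n).1 f0 + f0)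

omit [Finite G] in
theorem Base.wR_perp {n : G} (hn : n ∈ B.N) : bf ((hact D n).1 f0 + f0) e0 = 0 := by
  rw [bf_add_left, bf_image_e0 (B.N_e0 hn), CharTwo.add_self_eq_zero]

omit [Finite G] in
theorem Base.wR_wList {n : G} (hn : n ∈ B.N) : B.wR n ∈ wList := red_mem _ (B.wR_perp hn)

omit [Finite G] in
theorem Base.wR_mul {n m : G} (hn : n ∈ B.R) (hm : m ∈ B.N) : B.wR (n * m) = B.wR n + B.wR m := by
  have h : (hact D m).1 f0 = f0 + ((hact D m).1 f0 + f0) := by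
    rw [add_comm ((hact D m).1 f0), ← add_assoc, add_self, zero_add]
  rw [Base.wR, hact_mul (B.N_C hn.1) (B.N_C hm)]
  show red ((hact D n).1 ((hact D m).1 f0) + f0) = _
  conv_lhs => rw [h, map_add, red_add, red_add, hn.2 _ (B.wR_perp hm)]
  simp only [Base.wR, red_add]
  abel

omit [Finite G] in
theorem Base.wR_Q {q : G} (hq : q ∈ D.Q) : B.wR q = 0 := by
  rw [Base.wR, hact_Q hq]
  show red (f0 + f0) = 0
  rw [add_self, red_zero]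

omit [Finite G] in
theorem Base.A_R {a : G} (ha : a ∈ B.A) : a ∈ B.R :=
  ⟨B.A_N ha, fun m _ => by rw [hact_Q ha.1]; rfl⟩

theorem Base.P_R {b : G} (hb : b ∈ B.P) : b ∈ B.R := by
  refine ⟨B.P_N hb, fun m hm => ?_⟩
  rw [hact_eq hb.2, (B.act_P hb).2, uMap, hm, zero_smul, zero_smul, add_zero, add_zero, red_add,
    red_smul_e0, add_zero]

omit [Finite G] in
theorem Base.wR_P {b : G} (hb : b ∈ centralizer ({z} : Set G)) : B.wR b = red (B.wv b) := by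
  rw [Base.wR, hact_eq hb, ← B.wv_eq hb]

theorem Base.pair_mem {b a : G} (hb : b ∈ B.P) (ha : a ∈ B.A) : b * a ∈ B.R :=
  mul_mem (B.P_R hb) (B.A_R ha)

theorem Base.wR_pair {b a : G} (hb : b ∈ B.P) (ha : a ∈ B.A) : B.wR (b * a) = red (B.wv b) := by
  rw [B.wR_mul (B.P_R hb) (B.A_N ha), B.wR_Q ha.1, add_zero, B.wR_P hb.2]

theorem Base.exists_pair {n : G} (hn : n ∈ B.R) : ∃ b ∈ B.P, ∃ a ∈ B.A, n = b * a := by
  obtain ⟨hadm, hu⟩ := radical_eq (B.N_e0 hn.1) fun m hm => by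
    have h : red ((hact D n).1 m + m) = 0 := by rw [red_add, hn.2 m hm, add_self]
    rcases red_cases ((hact D n).1 m + m) with e | e <;> rw [h] at e
    exacts [Or.inl e, Or.inr (e.trans (zero_add _))]
  obtain ⟨b, hb, hbw⟩ := B.wv_surj hadm
  refine ⟨b, hb, b⁻¹ * n, B.mem_A_of (mem_Q_of_hact (mul_mem (inv_mem hb.2) (B.N_C hn.1)) ?_)
    (mul_mem (inv_mem (B.P_N hb)) hn.1), (mul_inv_cancel_left b n).symm⟩
  rw [hact_mul (inv_mem hb.2) (B.N_C hn.1), hact_inv hb.2, inv_mul_eq_one]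
  exact Subtype.ext (LinearEquiv.ext fun m => by rw [hact_eq hb.2, (B.act_P hb).2, hbw, ← hu])

theorem Base.red_inV {y : G} (h : B.InV y) : red (D.π y) = 0 := by
  rcases h.2 with e | e <;> rw [e]
  exacts [red_zero, red_e0]

theorem Base.inV_of_red {a : G} (ha : a ∈ B.A) (h : red (D.π a) = 0) : B.InV a := ⟨ha.1, by
  rcases red_cases (D.π a) with e | e <;> rw [h] at e
  exacts [Or.inl e, Or.inr (e.trans (zero_add _))]⟩

omit [Finite G] in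
theorem Base.inV_A {y : G} (h : B.InV y) : y ∈ B.A := by
  refine B.mem_A.2 ⟨h.1, ?_⟩
  rcases h.2 with e | e <;> rw [e]
  exacts [bf_zero_left _, bf_self _]

theorem Base.inV_P {y : G} (h : B.InV y) : y ∈ B.P :=
  ⟨(B.inV_of (B.inV_cases h)).2, mem_C D h.1⟩

theorem Base.inV_of_wR {b : G} (hb : b ∈ B.P) (h : B.wR b = 0) : B.InV b := by
  have hw : B.wv b = 0 := adm_eq (B.act_P hb).1 ⟨bf_zero_left _, by rw [bf_zero_right, qf_zero]⟩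
    ((B.wR_P hb.2).symm.trans (h.trans red_zero.symm))
  refine B.meet (mem_Q_of_hact hb.2 (Subtype.ext (LinearEquiv.ext fun m => ?_))) hb.1
  rw [hact_eq hb.2, (B.act_P hb).2, hw]
  simp [uMap, bf_zero_right]

theorem Base.pair_unique {b a b' a' : G} (hb : b ∈ B.P) (ha : a ∈ B.A) (hb' : b' ∈ B.P) (ha' : a' ∈ B.A)
    (h : b * a = b' * a') :
    red (B.wv b) = red (B.wv b') ∧ red (D.π a) = red (D.π a') := by
  refine ⟨by rw [← B.wR_pair hb ha, h, B.wR_pair hb' ha'], ?_⟩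
  have he : b'⁻¹ * b = a' * a⁻¹ := by
    rw [eq_mul_inv_iff_mul_eq, mul_assoc, h, inv_mul_cancel_left]
  have hV : B.InV (a' * a⁻¹) := B.meet (mul_mem ha'.1 (inv_mem ha.1)) (he ▸ mul_mem (inv_mem hb'.1) hb.1)
  have h0 := B.red_inV hV
  rw [D.π_mul _ ha'.1 _ (inv_mem ha.1), π_inv D ha.1, red_add] at h0
  exact (eq_of_add_eq_zero h0).symm

theorem Base.mul_pair {b a b' a' : G} (hb : b ∈ B.P) (ha : a ∈ B.A) (hb' : b' ∈ B.P) (ha' : a' ∈ B.A) :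
    ∃ a'' ∈ B.A, b * a * (b' * a') = b * b' * a'' ∧ red (D.π a'') = red (D.π a) + red (D.π a') := by
  obtain ⟨h1, h2⟩ := π_conj (D := D) (n := b'⁻¹) (inv_mem hb'.2) ha.1
  rw [inv_inv] at h1 h2
  refine ⟨b'⁻¹ * a * b' * a', B.mem_A_of (mul_mem h1 ha'.1)
    (mul_mem (mul_mem (mul_mem (inv_mem (B.P_N hb')) (B.A_N ha)) (B.P_N hb')) (B.A_N ha')),
    by group, ?_⟩
  rw [D.π_mul _ h1 _ ha'.1, red_add, h2, (B.P_R (inv_mem hb')).2 _ (B.mem_A.1 ha).2]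

theorem Base.conj_pair {n b a : G} (hn : n ∈ B.N) (hb : b ∈ B.P) (ha : a ∈ B.A) :
    ∃ b' ∈ B.P, ∃ a' ∈ B.A, n * (b * a) * n⁻¹ = b' * a' ∧
      red (B.wv b') = red ((hact D n).1 (red (B.wv b))) ∧
      red (D.π a') = red ((hact D n).1 (red (D.π a))) := by
  obtain ⟨hnz, hns⟩ := B.N_fix hn
  obtain ⟨hb', hw⟩ := B.red_wv_conj hb hnz hns
  obtain ⟨hq, hqπ⟩ := π_conj (B.N_C hn) ha.1
  refine ⟨_, hb', n * a * n⁻¹, B.mem_A_of hq (mul_mem (mul_mem hn (B.A_N ha)) (inv_mem hn)), by group,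
    ?_, ?_⟩
  · rw [hw (B.N_C hn), red_apply (h := D.act ⟨n, B.N_C hn⟩) (by rw [← hact_eq]; exact B.N_e0 hn),
      hact_eq]
  · rw [hqπ, red_apply (B.N_e0 hn)]

/-! ### The elements permuting the four-group -/

/-- The transposition fixing the first involution. -/
noncomputable def Base.τ (_B : Base D) : G := (D.π_surj f0).choose

/-- The transposition fixing the second involution. -/
noncomputable def Base.τ' : G := B.g * B.τ * B.g⁻¹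

omit [Finite G] in
theorem Base.τ_Q : B.τ ∈ D.Q := (D.π_surj f0).choose_spec.1

omit [Finite G] in
theorem Base.π_τ : D.π B.τ = f0 := (D.π_surj f0).choose_spec.2

omit [Finite G] in
theorem Base.τ_sq : B.τ * B.τ = 1 := (D.sq_iff _ B.τ_Q).2 (by rw [B.π_τ]; exact q_f0)

omit [Finite G] in
theorem Base.τ_inv : B.τ⁻¹ = B.τ := inv_eq_of_mul_eq_one_right B.τ_sq

omit [Finite G] in
theorem Base.τ_C : B.τ ∈ centralizer ({z} : Set G) := mem_C D B.τ_Q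

omit [Finite G] in
theorem Base.τ_z : B.τ * z * B.τ⁻¹ = z := by
  rw [(D.pre.gen.comm_z _ B.τ_Q).eq, mul_inv_cancel_right]

omit [Finite G] in
theorem Base.τ_s : B.τ * B.s * B.τ⁻¹ = B.s * z := by
  rcases Extra2.conj_eq D.pre.gen B.τ_Q B.sQ with e | e
  · exact absurd ((D.comm_iff _ B.τ_Q _ B.sQ).1 (mul_inv_eq_iff_eq_mul.1 e))
      (by rw [B.π_τ, B.πs, b_fe]; exact one_ne_zero)
  · rw [e]; exact (D.pre.gen.comm_z _ B.sQ).eq.symm

omit [Finite G] in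
theorem Base.τ_sz : B.τ * (B.s * z) * B.τ⁻¹ = B.s := by
  rw [show B.τ * (B.s * z) * B.τ⁻¹ = B.τ * B.s * B.τ⁻¹ * (B.τ * z * B.τ⁻¹) by group, B.τ_s, B.τ_z,
    mul_assoc, D.pre.gen.sq, mul_one]

omit [Finite G] in
theorem Base.τ'_sq : B.τ' * B.τ' = 1 := by
  rw [Base.τ', show B.g * B.τ * B.g⁻¹ * (B.g * B.τ * B.g⁻¹) = B.g * (B.τ * B.τ) * B.g⁻¹ by group, B.τ_sq]
  group

omit [Finite G] in
theorem Base.τ'_inv : B.τ'⁻¹ = B.τ' := inv_eq_of_mul_eq_one_right B.τ'_sq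

omit [Finite G] in
theorem Base.τ'_g : B.τ' ∈ conjQ D B.g :=
  (mem_conjQ D).2 (by
    rw [Base.τ', show B.g⁻¹ * (B.g * B.τ * B.g⁻¹) * B.g = B.τ by group]; exact B.τ_Q)

omit [Finite G] in
theorem Base.τ'_s : B.τ' * B.s * B.τ'⁻¹ = B.s := by
  rw [Base.τ']
  conv_lhs => rw [← B.gz]
  rw [show B.g * B.τ * B.g⁻¹ * (B.g * z * B.g⁻¹) * (B.g * B.τ * B.g⁻¹)⁻¹ =
    B.g * (B.τ * z * B.τ⁻¹) * B.g⁻¹ by group, B.τ_z, B.gz]

omit [Finite G] in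
theorem Base.τ'_z : B.τ' * z * B.τ'⁻¹ = B.s * z := by
  have h : z * B.s = B.s * z := (D.pre.gen.comm_z _ B.sQ).eq.symm
  rw [Base.τ']
  calc B.g * B.τ * B.g⁻¹ * z * (B.g * B.τ * B.g⁻¹)⁻¹
      = B.g * B.τ * B.g⁻¹ * (B.g * B.s * B.g⁻¹) * (B.g * B.τ * B.g⁻¹)⁻¹ :=
        congrArg (fun t => B.g * B.τ * B.g⁻¹ * t * (B.g * B.τ * B.g⁻¹)⁻¹) B.gs.symm
    _ = B.g * (B.τ * B.s * B.τ⁻¹) * B.g⁻¹ := by group
    _ = B.g * B.s * B.g⁻¹ * (B.g * z * B.g⁻¹) := by rw [B.τ_s]; group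
    _ = B.s * z := by rw [B.gs, B.gz, h]

omit [Finite G] in
theorem Base.N_τ {n : G} (hn : n ∈ B.N) :
    B.τ * n * B.τ⁻¹ ∈ B.N ∧ n⁻¹ * (B.τ * n * B.τ⁻¹) ∈ B.A := by
  obtain ⟨hnz, hns⟩ := B.N_fix hn
  have h1 : B.τ * n * B.τ⁻¹ ∈ B.N := by
    refine B.mem_N.2 ⟨mul_inv_eq_iff_eq_mul.1 ?_, mul_inv_eq_iff_eq_mul.1 ?_⟩
    · rw [show B.τ * n * B.τ⁻¹ * z * (B.τ * n * B.τ⁻¹)⁻¹ = B.τ * (n * (B.τ⁻¹ * z * B.τ) * n⁻¹) * B.τ⁻¹ by
        group, show B.τ⁻¹ * z * B.τ = z by simpa [B.τ_inv] using B.τ_z, hnz, B.τ_z]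
    · rw [show B.τ * n * B.τ⁻¹ * B.s * (B.τ * n * B.τ⁻¹)⁻¹ =
        B.τ * (n * (B.τ⁻¹ * B.s * B.τ) * n⁻¹) * B.τ⁻¹ by group,
        show B.τ⁻¹ * B.s * B.τ = B.s * z by simpa [B.τ_inv] using B.τ_s,
        show n * (B.s * z) * n⁻¹ = n * B.s * n⁻¹ * (n * z * n⁻¹) by group, hns, hnz, B.τ_sz]
  refine ⟨h1, B.mem_A_of ?_ (mul_mem (inv_mem hn) h1)⟩
  rw [show n⁻¹ * (B.τ * n * B.τ⁻¹) = n⁻¹ * B.τ * n * B.τ⁻¹ by group]
  refine mul_mem ?_ (inv_mem B.τ_Q)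
  simpa using (π_conj (inv_mem (B.N_C hn)) B.τ_Q).1

theorem Base.N_τ' {n : G} (hn : n ∈ B.N) :
    B.τ' * n * B.τ'⁻¹ ∈ B.N ∧ n⁻¹ * (B.τ' * n * B.τ'⁻¹) ∈ B.P := by
  obtain ⟨hnz, hns⟩ := B.N_fix hn
  have hts : B.τ'⁻¹ * B.s * B.τ' = B.s := by simpa [B.τ'_inv] using B.τ'_s
  have htz : B.τ'⁻¹ * z * B.τ' = B.s * z := by simpa [B.τ'_inv] using B.τ'_z
  have h1 : B.τ' * n * B.τ'⁻¹ ∈ B.N := by
    refine B.mem_N.2 ⟨mul_inv_eq_iff_eq_mul.1 ?_, mul_inv_eq_iff_eq_mul.1 ?_⟩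
    · rw [show B.τ' * n * B.τ'⁻¹ * z * (B.τ' * n * B.τ'⁻¹)⁻¹ =
        B.τ' * (n * (B.τ'⁻¹ * z * B.τ') * n⁻¹) * B.τ'⁻¹ by group, htz,
        show n * (B.s * z) * n⁻¹ = n * B.s * n⁻¹ * (n * z * n⁻¹) by group, hns, hnz,
        show B.τ' * (B.s * z) * B.τ'⁻¹ = B.τ' * B.s * B.τ'⁻¹ * (B.τ' * z * B.τ'⁻¹) by group, B.τ'_s,
        B.τ'_z, ← mul_assoc, B.s_sq, one_mul]
    · rw [show B.τ' * n * B.τ'⁻¹ * B.s * (B.τ' * n * B.τ'⁻¹)⁻¹ =
        B.τ' * (n * (B.τ'⁻¹ * B.s * B.τ') * n⁻¹) * B.τ'⁻¹ by group, hts, hns, B.τ'_s]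
  refine ⟨h1, Subgroup.mem_inf.2 ⟨?_, B.N_C (mul_mem (inv_mem hn) h1)⟩⟩
  rw [show n⁻¹ * (B.τ' * n * B.τ'⁻¹) = n⁻¹ * B.τ' * n⁻¹⁻¹ * B.τ'⁻¹ by group]
  exact mul_mem (B.conj_mem_g (B.N_fix (inv_mem hn)).2 B.τ'_g) (inv_mem B.τ'_g)

/-- The product of the transpositions. -/
noncomputable def Base.ρ : G := B.τ * B.τ'

theorem Base.N_ρ {n : G} (hn : n ∈ B.N) :
    B.ρ * n * B.ρ⁻¹ ∈ B.N ∧ n⁻¹ * (B.ρ * n * B.ρ⁻¹) ∈ B.R := by
  obtain ⟨h1, h1'⟩ := B.N_τ' hn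
  obtain ⟨h2, h2'⟩ := B.N_τ h1
  have e : B.ρ * n * B.ρ⁻¹ = B.τ * (B.τ' * n * B.τ'⁻¹) * B.τ⁻¹ := by rw [Base.ρ]; group
  rw [e]
  refine ⟨h2, ?_⟩
  have h := mul_mem (B.P_R h1') (B.A_R h2')
  rwa [mul_assoc, mul_inv_cancel_left] at h

theorem Base.N_ρ_pow (i : ℕ) {n : G} (hn : n ∈ B.N) :
    B.ρ ^ i * n * (B.ρ ^ i)⁻¹ ∈ B.N ∧ n⁻¹ * (B.ρ ^ i * n * (B.ρ ^ i)⁻¹) ∈ B.R := by
  induction i with
  | zero => simp [hn, one_mem]
  | succ i ih =>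
    obtain ⟨h1, h1'⟩ := ih
    obtain ⟨h2, h2'⟩ := B.N_ρ h1
    have e : B.ρ ^ (i + 1) * n * (B.ρ ^ (i + 1))⁻¹ = B.ρ * (B.ρ ^ i * n * (B.ρ ^ i)⁻¹) * B.ρ⁻¹ := by
      rw [pow_succ']; group
    rw [e]
    refine ⟨h2, ?_⟩
    have h := mul_mem h1' h2'
    rwa [mul_assoc, mul_inv_cancel_left] at h

theorem Base.R_sq {r : G} (hr : r ∈ B.R) : B.InV (r * r) := by
  obtain ⟨b, hb, a, ha, rfl⟩ := B.exists_pair hr
  rw [(B.prod_sq hb ha).1]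
  have h01 : B.InV (cm b a * (b * b)) := B.meet (mul_mem (B.cm_mem hb ha).1 (B.sq_P hb).1.1)
    (mul_mem (B.inV_of (B.inV_cases (B.cm_mem hb ha))).2 (B.inV_of (B.inV_cases (B.sq_P hb).1)).2)
  exact B.meet (mul_mem h01.1 (B.sq_A ha).1.1)
    (mul_mem (B.inV_of (B.inV_cases h01)).2 (B.inV_of (B.inV_cases (B.sq_A ha).1)).2)

theorem Base.inV_sq {y : G} (h : B.InV y) : y * y = 1 := by
  refine (D.sq_iff y h.1).2 ?_
  rcases h.2 with e | e <;> rw [e]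
  exacts [qf_zero, q_e0]

theorem Base.R_pGroup : IsPGroup 2 B.R := by
  rintro ⟨r, hr⟩
  refine ⟨2, Subtype.ext ?_⟩
  show r ^ (2 ^ 2) = 1
  rw [show r ^ (2 ^ 2) = r * r * (r * r) by simp [pow_succ, mul_assoc], B.inV_sq (B.R_sq hr)]

omit [Finite G] in
theorem Base.ρ_conj (y : G) : B.ρ * y * B.ρ⁻¹ = B.τ * (B.τ' * y * B.τ'⁻¹) * B.τ⁻¹ := by
  rw [Base.ρ]; group

omit [Finite G] in
theorem Base.ρ_cycle :
    B.ρ * z * B.ρ⁻¹ = B.s ∧ B.ρ * B.s * B.ρ⁻¹ = B.s * z ∧ B.ρ * (B.s * z) * B.ρ⁻¹ = z := by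
  have h1 : B.ρ * z * B.ρ⁻¹ = B.s := by rw [B.ρ_conj, B.τ'_z, B.τ_sz]
  have h2 : B.ρ * B.s * B.ρ⁻¹ = B.s * z := by rw [B.ρ_conj, B.τ'_s, B.τ_s]
  refine ⟨h1, h2, ?_⟩
  rw [show B.ρ * (B.s * z) * B.ρ⁻¹ = B.ρ * B.s * B.ρ⁻¹ * (B.ρ * z * B.ρ⁻¹) by group, h1, h2,
    (D.pre.gen.comm_z _ B.sQ).eq, mul_assoc, B.s_sq, mul_one]

theorem Base.ρ_order : B.ρ ^ 24 = 1 := by
  obtain ⟨c1, c2, c3⟩ := B.ρ_cycle
  set y := B.ρ ^ 3 with hy
  have e3 : ∀ t : G, y * t * y⁻¹ = B.ρ * (B.ρ * (B.ρ * t * B.ρ⁻¹) * B.ρ⁻¹) * B.ρ⁻¹ := fun t => by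
    simp [hy, pow_succ, mul_assoc]
  have hyN : y ∈ B.N := B.mem_N.2 ⟨mul_inv_eq_iff_eq_mul.1 (by rw [e3, c1, c2, c3]),
    mul_inv_eq_iff_eq_mul.1 (by rw [e3, c2, c3, c1])⟩
  have hinv : B.τ * y * B.τ⁻¹ = y⁻¹ := by
    have h : B.τ * B.ρ * B.τ⁻¹ = B.ρ⁻¹ := by
      rw [Base.ρ, mul_inv_rev, B.τ'_inv, B.τ_inv, ← mul_assoc, B.τ_sq, one_mul]
    rw [hy, ← inv_pow, ← h, conj_pow]
  have hA := (B.N_τ hyN).2
  rw [hinv] at hA
  have h4 : ∀ a ∈ B.A, a ^ 4 = 1 := fun a ha => by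
    rw [show a ^ 4 = a * a * (a * a) by simp [pow_succ, mul_assoc], B.inV_sq (B.sq_A ha).1]
  calc B.ρ ^ 24 = (((y⁻¹ * y⁻¹) ^ 4)⁻¹) := by rw [hy]; group
    _ = 1 := by rw [h4 _ hA, inv_one]

/-- The rotation of order three. -/
noncomputable def Base.rot : G := B.ρ ^ 8

theorem Base.rot_cube : B.rot ^ 3 = 1 := by rw [Base.rot, ← pow_mul, B.ρ_order]

theorem Base.eq_one_of_rot {r : G} (hr : r ∈ B.R) (hc : B.rot * r = r * B.rot) : r = 1 := by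
  classical
  haveI : Fact (Nat.Prime 2) := ⟨Nat.prime_two⟩
  let S : Subgroup G := B.R ⊓ centralizer ({B.rot} : Set G)
  letI := Fintype.ofFinite S
  by_contra h1
  have hrS : r ∈ S := ⟨hr, mem_centralizer_singleton_iff.2 hc.symm⟩
  have hstab : ∀ x : S, B.ρ * (x : G) * B.ρ⁻¹ ∈ S := by
    rintro ⟨x, hx, hx'⟩
    have hx' := mem_centralizer_singleton_iff.1 hx'
    refine ⟨?_, mem_centralizer_singleton_iff.2 ?_⟩
    · have h := mul_mem hx (B.N_ρ hx.1).2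
      rwa [mul_inv_cancel_left] at h
    · have hcm : B.rot * B.ρ = B.ρ * B.rot := by rw [Base.rot]; group
      have hcm' : B.rot * B.ρ⁻¹ = B.ρ⁻¹ * B.rot := by rw [Base.rot]; group
      calc B.ρ * x * B.ρ⁻¹ * B.rot = B.ρ * (x * B.rot) * B.ρ⁻¹ := by rw [mul_assoc _ B.ρ⁻¹, ← hcm']; group
        _ = B.rot * (B.ρ * x * B.ρ⁻¹) := by rw [hx', ← mul_assoc, ← hcm]; group
  let f : S → S := fun x => ⟨B.ρ * (x : G) * B.ρ⁻¹, hstab x⟩
  have hf : Function.Bijective f := Finite.injective_iff_bijective.1 fun x y e => Subtype.ext (by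
    have e' : B.ρ * (x : G) * B.ρ⁻¹ = B.ρ * (y : G) * B.ρ⁻¹ := congrArg Subtype.val e
    exact mul_left_cancel (mul_right_cancel e'))
  let σ : Equiv.Perm S := Equiv.ofBijective f hf
  have hiter : ∀ (k : ℕ) (x : S), (((σ ^ k) x : S) : G) = B.ρ ^ k * (x : G) * (B.ρ ^ k)⁻¹ := by
    intro k
    induction k with
    | zero => intro x; simp
    | succ k ih =>
      intro x
      rw [pow_succ', Equiv.Perm.mul_apply]
      show B.ρ * (((σ ^ k) x : S) : G) * B.ρ⁻¹ = _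
      rw [ih, pow_succ']; group
  have hσ : σ ^ (2 ^ 3) = 1 := Equiv.ext fun x => Subtype.ext (by
    rw [hiter, show (2 : ℕ) ^ 3 = 8 from rfl, ← Base.rot, (mem_centralizer_singleton_iff.1 x.2.2).symm,
      mul_inv_cancel_right]
    rfl)
  have hpg : IsPGroup 2 S := B.R_pGroup.to_le inf_le_left
  obtain ⟨k, hk⟩ := IsPGroup.iff_card.1 hpg
  haveI : Nontrivial S := ⟨⟨⟨r, hrS⟩, 1, fun e => h1 (congrArg Subtype.val e)⟩⟩
  have hdvd : 2 ∣ Fintype.card S := by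
    rw [← Nat.card_eq_fintype_card, hk]
    refine dvd_pow_self 2 fun h0 => ?_
    have := Finite.one_lt_card (α := S)
    rw [hk, h0] at this
    exact lt_irrefl _ this
  obtain ⟨⟨x, hxR, hxc⟩, hx, hx1⟩ := Equiv.Perm.exists_fixed_point_of_prime' hdvd hσ (a := (1 : S))
    (Subtype.ext (show B.ρ * 1 * B.ρ⁻¹ = 1 by group))
  have hx : B.ρ * x * B.ρ⁻¹ = x := congrArg Subtype.val hx
  refine hx1 (Subtype.ext ?_)
  show x = 1
  have hV : B.InV (x⁻¹ * (B.τ * x * B.τ⁻¹)) := by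
    have heq : B.τ * x * B.τ⁻¹ = B.τ' * x * B.τ'⁻¹ := by
      calc B.τ * x * B.τ⁻¹ = B.τ * (B.ρ * x * B.ρ⁻¹) * B.τ⁻¹ := by rw [hx]
        _ = B.τ * B.τ * (B.τ' * x * B.τ'⁻¹) * (B.τ * B.τ)⁻¹ := by rw [Base.ρ]; group
        _ = B.τ' * x * B.τ'⁻¹ := by rw [B.τ_sq]; group
    exact B.meet (B.N_τ hxR.1).2.1 (heq ▸ (B.N_τ' hxR.1).2.1)
  -- the displacement vanishes
  have hw : B.wR x = 0 := by
    have hx' : x⁻¹ ∈ centralizer ({z} : Set G) := inv_mem (B.N_C hxR.1)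
    obtain ⟨h1', h2'⟩ := π_conj hx' B.τ_Q
    rw [inv_inv] at h1' h2'
    have h0 := B.red_inV hV
    rw [show x⁻¹ * (B.τ * x * B.τ⁻¹) = x⁻¹ * B.τ * x * B.τ⁻¹ by group,
      D.π_mul _ h1' _ (inv_mem B.τ_Q), h2', π_inv D B.τ_Q, B.π_τ] at h0
    have h2 := B.wR_mul (inv_mem hxR) hxR.1
    rw [inv_mul_cancel, B.wR_Q (one_mem _)] at h2
    have h3 : B.wR x⁻¹ = 0 := h0
    rw [h3, zero_add] at h2
    exact h2.symm
  obtain ⟨b, hb, a, ha, rfl⟩ := B.exists_pair hxR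
  rw [B.wR_pair hb ha, ← B.wR_P hb.2] at hw
  have hbV := B.inV_of_wR hb hw
  have hA : b * a ∈ B.A := mul_mem (B.inV_A hbV) ha
  -- and the kernel part
  have hV' : B.InV ((b * a)⁻¹ * (B.τ' * (b * a) * B.τ'⁻¹)) := by
    have heq : B.τ * (b * a) * B.τ⁻¹ = B.τ' * (b * a) * B.τ'⁻¹ := by
      calc B.τ * (b * a) * B.τ⁻¹ = B.τ * (B.ρ * (b * a) * B.ρ⁻¹) * B.τ⁻¹ := by rw [hx]
        _ = B.τ * B.τ * (B.τ' * (b * a) * B.τ'⁻¹) * (B.τ * B.τ)⁻¹ := by rw [Base.ρ]; group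
        _ = B.τ' * (b * a) * B.τ'⁻¹ := by rw [B.τ_sq]; group
    rw [← heq]; exact hV
  have hP : B.g⁻¹ * (b * a) * B.g ∈ B.P := B.conj_g_P hA
  have hcomm : B.InV ((B.g⁻¹ * (b * a) * B.g)⁻¹ * (B.τ * (B.g⁻¹ * (b * a) * B.g) * B.τ⁻¹)) := by
    have e : (B.g⁻¹ * (b * a) * B.g)⁻¹ * (B.τ * (B.g⁻¹ * (b * a) * B.g) * B.τ⁻¹) =
        B.g⁻¹ * ((b * a)⁻¹ * (B.τ' * (b * a) * B.τ'⁻¹)) * B.g := by rw [Base.τ']; group
    rw [e]; exact B.conj_g_V hV'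
  obtain ⟨y, hy⟩ : ∃ y, y = B.g⁻¹ * (b * a) * B.g := ⟨_, rfl⟩
  rw [← hy] at hP hcomm
  have hyw : B.wR y = 0 := by
    obtain ⟨h1', h2'⟩ := π_conj (D := D) (inv_mem hP.2) B.τ_Q
    rw [inv_inv] at h1' h2'
    have h0 := B.red_inV hcomm
    rw [show y⁻¹ * (B.τ * y * B.τ⁻¹) = y⁻¹ * B.τ * y * B.τ⁻¹ by group,
      D.π_mul _ h1' _ (inv_mem B.τ_Q), h2', π_inv D B.τ_Q, B.π_τ] at h0
    have h2 := B.wR_mul (inv_mem (B.P_R hP)) (B.P_N hP)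
    rw [inv_mul_cancel, B.wR_Q (one_mem _)] at h2
    have h3 : B.wR y⁻¹ = 0 := h0
    rw [h3, zero_add] at h2
    exact h2.symm
  have hyV := B.inV_of_wR hP hyw
  have hxV : B.InV (b * a) := by
    rcases B.inV_cases hyV with e | e | e | e <;>
      rw [hy, mul_assoc, inv_mul_eq_iff_eq_mul, ← eq_mul_inv_iff_mul_eq] at e <;> rw [e]
    · rw [mul_one, mul_inv_cancel]; exact (B.inV_of (Or.inl rfl)).1
    · rw [B.gz]; exact (B.inV_of (Or.inr (Or.inr (Or.inl rfl)))).1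
    · rw [B.gs]; exact (B.inV_of (Or.inr (Or.inl rfl))).1
    · rw [show B.g * (z * B.s) * B.g⁻¹ = B.g * z * B.g⁻¹ * (B.g * B.s * B.g⁻¹) by group, B.gz, B.gs,
        (D.pre.gen.comm_z _ B.sQ).eq]
      exact (B.inV_of (Or.inr (Or.inr (Or.inr rfl)))).1
  obtain ⟨c1, c2, c3⟩ := B.ρ_cycle
  have hzs := (D.pre.gen.comm_z _ B.sQ).eq
  rcases B.inV_cases hxV with e | e | e | e <;> rw [e] at hx ⊢
  · exact absurd (c1.symm.trans hx) B.ne
  · exfalso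
    rw [c2] at hx
    exact D.pre.gen.ne_one (mul_eq_left.1 hx)
  · exfalso
    rw [← hzs, c3] at hx
    exact B.s_ne (right_eq_mul.1 hx)

/-- The element fixed by the transpositions in a given coset of the radical. -/
theorem Base.exists_fixed {n : G} (hn : n ∈ B.N) : ∃ n₀ ∈ B.N, n⁻¹ * n₀ ∈ B.R ∧
    B.τ * n₀ = n₀ * B.τ ∧ B.τ' * n₀ = n₀ * B.τ' := by
  classical
  haveI : Fact (Nat.Prime 3) := ⟨Nat.prime_three⟩
  let S := {y : G // n⁻¹ * y ∈ B.R}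
  letI := Fintype.ofFinite S
  have hyN : ∀ y : S, (y : G) ∈ B.N := fun y => by
    have h := mul_mem hn y.2.1
    rwa [mul_inv_cancel_left] at h
  let f : S → S := fun y => ⟨B.rot * (y : G) * B.rot⁻¹, by
    have h := mul_mem y.2 (B.N_ρ_pow 8 (hyN y)).2
    rwa [mul_assoc, mul_inv_cancel_left] at h⟩
  have hf : Function.Bijective f := Finite.injective_iff_bijective.1 fun x y e => Subtype.ext (by
    have e' : B.rot * (x : G) * B.rot⁻¹ = B.rot * (y : G) * B.rot⁻¹ := congrArg Subtype.val e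
    exact mul_left_cancel (mul_right_cancel e'))
  let σ : Equiv.Perm S := Equiv.ofBijective f hf
  have hσ : σ ^ (3 ^ 1) = 1 := Equiv.ext fun x => Subtype.ext (by
    show B.rot * (B.rot * (B.rot * (x : G) * B.rot⁻¹) * B.rot⁻¹) * B.rot⁻¹ = (x : G)
    rw [show B.rot * (B.rot * (B.rot * (x : G) * B.rot⁻¹) * B.rot⁻¹) * B.rot⁻¹ =
      B.rot ^ 3 * (x : G) * (B.rot ^ 3)⁻¹ by simp [pow_succ, mul_assoc], B.rot_cube]
    group)
  have hcard : ¬ 3 ∣ Fintype.card S := by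
    obtain ⟨k, hk⟩ := IsPGroup.iff_card.1 B.R_pGroup
    have e : Fintype.card S = Nat.card B.R := by
      rw [← Nat.card_eq_fintype_card]
      exact Nat.card_congr (Equiv.subtypeEquiv (Equiv.mulLeft n⁻¹) fun y => Iff.rfl)
    rw [e, hk]
    intro h
    have := Nat.prime_three.dvd_of_dvd_pow h
    omega
  obtain ⟨⟨y, hy⟩, hfix⟩ := Equiv.Perm.exists_fixed_point_of_prime hcard hσ
  have hfix : B.rot * y * B.rot⁻¹ = y := congrArg Subtype.val hfix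
  have hyN' : y ∈ B.N := hyN ⟨y, hy⟩
  have hrot : B.rot * y = y * B.rot := mul_inv_eq_iff_eq_mul.1 hfix
  have hkey : ∀ t : G, t * t = 1 → y⁻¹ * (t * y * t⁻¹) ∈ B.R → t * B.rot * t⁻¹ = B.rot⁻¹ →
      t * y = y * t := by
    intro t ht hR hinv
    have hti : t⁻¹ = t := inv_eq_of_mul_eq_one_right ht
    have h1 : B.rot * (t * y * t⁻¹) = t * y * t⁻¹ * B.rot := by
      have e : B.rot = t * B.rot⁻¹ * t⁻¹ := by
        calc B.rot = (t * B.rot * t⁻¹)⁻¹ := by rw [hinv, inv_inv]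
          _ = t * B.rot⁻¹ * t⁻¹ := by group
      have hc : Commute B.rot⁻¹ y := (show Commute B.rot y from hrot).inv_left
      calc B.rot * (t * y * t⁻¹) = t * B.rot⁻¹ * t⁻¹ * (t * y * t⁻¹) := by rw [← e]
        _ = t * (B.rot⁻¹ * y) * t⁻¹ := by group
        _ = t * (y * B.rot⁻¹) * t⁻¹ := by rw [hc.eq]
        _ = t * y * t⁻¹ * (t * B.rot⁻¹ * t⁻¹) := by group
        _ = t * y * t⁻¹ * B.rot := by rw [← e]
    have hc : Commute B.rot (y⁻¹ * (t * y * t⁻¹)) :=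
      (show Commute B.rot y from hrot).inv_right.mul_right h1
    have h2 := B.eq_one_of_rot hR hc.eq
    rw [inv_mul_eq_one] at h2
    exact mul_inv_eq_iff_eq_mul.1 h2.symm
  have hρ : B.τ * B.ρ * B.τ⁻¹ = B.ρ⁻¹ ∧ B.τ' * B.ρ * B.τ'⁻¹ = B.ρ⁻¹ := by
    constructor
    · rw [Base.ρ, mul_inv_rev, B.τ'_inv, B.τ_inv, ← mul_assoc, B.τ_sq, one_mul]
    · rw [Base.ρ, mul_inv_rev, B.τ_inv, mul_assoc, mul_assoc, mul_inv_cancel, mul_one, B.τ'_inv]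
  refine ⟨y, hyN', hy, hkey _ B.τ_sq (B.A_R (B.N_τ hyN').2) ?_,
    hkey _ B.τ'_sq (B.P_R (B.N_τ' hyN').2) ?_⟩
  · rw [Base.rot, ← inv_pow, ← hρ.1, conj_pow]
  · rw [Base.rot, ← inv_pow, ← hρ.2, conj_pow]

theorem Base.eq_one_of_fixed {r : G} (hr : r ∈ B.R) (h1 : B.τ * r = r * B.τ)
    (h2 : B.τ' * r = r * B.τ') : r = 1 :=
  B.eq_one_of_rot hr (((show Commute B.τ r from h1).mul_left (show Commute B.τ' r from h2)).pow_left 8).eq

/-- Lifts of the isometries fixing the hyperbolic pair. -/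
theorem Base.lev_lift {h : O8} (hh : h ∈ lev) : ∃ n ∈ B.N, hact D n = h ∧
    B.τ * n = n * B.τ ∧ B.τ' * n = n * B.τ' := by
  obtain ⟨⟨c, hc⟩, hch, hcs⟩ := B.lift_fix hh.1 hh.2.1
  have hcN : c ∈ B.N := B.mem_N.2
    ⟨mem_centralizer_singleton_iff.1 hc, mul_inv_eq_iff_eq_mul.1 hcs⟩
  obtain ⟨n, hn, hR, h1, h2⟩ := B.exists_fixed hcN
  refine ⟨n, hn, ?_, h1, h2⟩
  have hnf : (hact D n).1 f0 = f0 := by
    rw [← B.π_τ, ← (π_conj (B.N_C hn) B.τ_Q).2, ← h1, mul_inv_cancel_right]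
  have hch' : hact D c = h := by rw [hact_eq hc, hch]
  have hr : hact D (c⁻¹ * n) = h⁻¹ * hact D n := by
    rw [hact_mul (inv_mem hc) (B.N_C hn), hact_inv hc, hch']
  obtain ⟨b, hb, a, ha, hba⟩ := B.exists_pair hR
  have hf : (hact D (c⁻¹ * n)).1 f0 = f0 := by
    rw [hr]
    show (h⁻¹).1 ((hact D n).1 f0) = f0
    rw [hnf]
    exact (inv_mem hh).2.2
  have hone : hact D (c⁻¹ * n) = 1 := by
    rw [hba, hact_mul hb.2 (mem_C D ha.1), hact_Q ha.1, mul_one] at hf ⊢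
    have hw : B.wv b = 0 := by rw [B.wv_eq hb.2, ← hact_eq hb.2, hf, add_self]
    refine Subtype.ext (LinearEquiv.ext fun m => ?_)
    rw [hact_eq hb.2, (B.act_P hb).2, hw]
    simp [uMap, bf_zero_right]
  rw [hr, inv_mul_eq_one] at hone
  exact hone.symm

theorem Base.lift_unique {n n' : G} (hn : n ∈ B.N) (hn' : n' ∈ B.N) (h : hact D n = hact D n')
    (h1 : B.τ * n = n * B.τ) (h2 : B.τ' * n = n * B.τ') (h1' : B.τ * n' = n' * B.τ)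
    (h2' : B.τ' * n' = n' * B.τ') : n' = n := by
  have hA : n⁻¹ * n' ∈ B.A := B.mem_A_of (mem_Q_of_hact (mul_mem (inv_mem (B.N_C hn)) (B.N_C hn'))
    (by rw [hact_mul (inv_mem (B.N_C hn)) (B.N_C hn'), hact_inv (B.N_C hn), h, inv_mul_cancel]))
    (mul_mem (inv_mem hn) hn')
  exact (inv_mul_eq_one.1 (B.eq_one_of_fixed (B.A_R hA)
    ((show Commute B.τ n from h1).inv_right.mul_right h1').eq
    ((show Commute B.τ' n from h2).inv_right.mul_right h2').eq)).symm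

end CfsgLib.Co1Invol
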