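import Cfsg.Agent.Co1Invol.Classify

/-!
The standard involutions outside the kernel are not conjugate to the central one.
-/

set_option autoImplicit false
set_option linter.style.haveILetI false
set_option synthInstance.maxSize 4096
set_option maxRecDepth 100000

namespace CfsgLib.Co1Invol

open CfsgLib CfsgLib.Quad Subgroup

variable {G : Type*} [Group G] [Finite G] {z : G} {D : Dat z} (B : Base D)

include B in
theorem Base.ts_of_sing {x : G} (hx : x ∈ centralizer ({z} : Set G)) (hx2 : x * x = 1)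
    (h : Sing D x) : TS (D.act ⟨x, hx⟩) := by
  obtain ⟨k, hk, hkz, hxk⟩ := h
  have hk2 : k * z * k⁻¹ * (k * z * k⁻¹) = 1 := by
    rw [show k * z * k⁻¹ * (k * z * k⁻¹) = k * (z * z) * k⁻¹ by group, D.pre.gen.sq]; group
  obtain ⟨c, hc, hcs⟩ := exists_conj_C D hk B.sQ ((D.sq_iff _ hk).1 hk2) (by rw [B.πs]; exact q_e0)
    (fun e => ((D.π_eq_zero _ hk).1 e).elim (fun e' => D.pre.gen.ne_one (conj_eq_one_iff.1 e')) hkz)
    (by rw [B.πs]; exact e0_ne)
  have hmem : c * x * c⁻¹ ∈ B.P := by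
    refine Subgroup.mem_inf.2 ⟨?_, mul_mem (mul_mem hc hx) (inv_mem hc)⟩
    rw [← conjQ_congr D (k := c * k) (k' := B.g) (by rw [B.gz, ← hcs]; group), mem_conjQ,
      show (c * k)⁻¹ * (c * x * c⁻¹) * (c * k) = k⁻¹ * x * k by group]
    exact (mem_conjQ D).1 hxk
  obtain ⟨hadm, hu⟩ := B.act_P hmem
  have hq : qf (B.wv (c * x * c⁻¹)) = 0 := by
    rw [← (B.sq_P hmem).2.1, show c * x * c⁻¹ * (c * x * c⁻¹) = c * (x * x) * c⁻¹ by group, hx2,
      mul_one, mul_inv_cancel]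
    exact B.bits.2.2.2.2.1
  have h' := ts_conj _ (D.act ⟨c, hc⟩)⁻¹ ((ts_uMap hadm.1 hu).2 hq)
  rw [← map_inv, ← map_mul, ← map_inv, ← map_mul] at h'
  convert h' using 2
  refine Subtype.ext ?_
  simp only [Subgroup.coe_mul, InvMemClass.coe_inv]
  group

include B in
theorem Base.meet_trivial {T : G} (hTC : T ∈ centralizer ({z} : Set G)) (hTQ : T ∉ D.Q) (hT : HasZ D T)
    {k y : G} (hk : k * z * k⁻¹ = T) (hy : y ∈ D.Q) (hy' : y ∈ conjQ D k) : y = 1 := by
  have hzk : z ∉ conjQ D k := by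
    intro h
    have h1 : k⁻¹ * z * k⁻¹⁻¹ ∈ D.Q := by rw [inv_inv]; exact (mem_conjQ D).1 h
    have h2 := (mem_conjQ D).1 (mem_conjQ_self D h1)
    rw [inv_inv, hk] at h2
    exact hTQ h2
  have hy2 : y * y = 1 := by
    rcases D.pre.gen.square y hy with e | e
    · exact e
    · have h' := mul_mem hy' hy'
      rw [e] at h'
      exact absurd h' hzk
  by_contra h1
  have hz : y ≠ z := fun e => by subst e; exact hzk hy'
  obtain ⟨c, hc, hcs⟩ := exists_conj_C D B.sQ hy (by rw [B.πs]; exact q_e0) ((D.sq_iff y hy).1 hy2)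
    (by rw [B.πs]; exact e0_ne) (fun e => ((D.π_eq_zero y hy).1 e).elim h1 hz)
  have hm : c * B.g * z * (c * B.g)⁻¹ = y := by rw [← hcs, ← B.gz]; group
  have hp : (k⁻¹ * (c * B.g)) * z * (k⁻¹ * (c * B.g))⁻¹ ∈ D.Q := by
    rw [show (k⁻¹ * (c * B.g)) * z * (k⁻¹ * (c * B.g))⁻¹ = k⁻¹ * (c * B.g * z * (c * B.g)⁻¹) * k by group, hm]
    exact (mem_conjQ D).1 hy'
  have ht : T ∈ conjQ D (c * B.g) := by
    rw [mem_conjQ, ← hk]
    have := (mem_conjQ D).1 (mem_conjQ_self D hp)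
    rwa [show (k⁻¹ * (c * B.g))⁻¹ * z * (k⁻¹ * (c * B.g)) = (c * B.g)⁻¹ * (k * z * k⁻¹) * (c * B.g) by group]
      at this
  exact B.not_hasZ_of_sing hTC hTQ ⟨c * B.g, hm ▸ hy, hm ▸ hz, ht⟩ hT

omit B in
theorem exists_conj_mem_C (D : Dat z) {x : G} (hx : x * x = 1) :
    ∃ u : G, u * x * u⁻¹ ∈ centralizer ({z} : Set G) := by
  haveI : Fact (Nat.Prime 2) := ⟨Nat.prime_two⟩
  obtain ⟨S, hQS⟩ := (IsPGroup.of_card (n := 9) (p := 2) (G := D.Q) (by rw [D.card]; norm_num)).exists_le_sylow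
  have hzS : ∀ s ∈ (S : Subgroup G), s * z = z * s := by
    intro s hs
    haveI : Nontrivial ↥(S : Subgroup G) :=
      (nontrivial_iff_exists_ne_one _).2 ⟨z, hQS D.pre.gen.mem, D.pre.gen.ne_one⟩
    haveI := S.isPGroup'.center_nontrivial
    obtain ⟨w, hw⟩ := exists_ne (1 : center ↥(S : Subgroup G))
    have hc : ∀ y ∈ D.Q, Commute ((w : ↥(S : Subgroup G)) : G) y := fun y hy =>
      (congrArg Subtype.val (mem_center_iff.1 w.2 ⟨y, hQS hy⟩)).symm
    rcases D.pre.gen.center_iff _ (D.pre.self (mem_centralizer_iff.2 fun y hy => (hc y hy).symm.eq)) hc with e | e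
    · exact absurd (Subtype.ext (Subtype.ext e)) hw
    · have := congrArg Subtype.val (mem_center_iff.1 w.2 ⟨s, hs⟩)
      rw [← e]; exact this
  have hp : IsPGroup 2 (zpowers x) := by
    rintro ⟨y, hy⟩
    refine ⟨1, Subtype.ext ?_⟩
    show y ^ (2 ^ 1) = 1
    rcases (Extra2.mem_zpowers_iff hx).1 hy with e | e <;> rw [e, pow_one, pow_two]
    · exact one_mul 1
    · exact hx
  obtain ⟨T, hT⟩ := hp.exists_le_sylow
  obtain ⟨u, hu⟩ := MulAction.exists_smul_eq G T S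
  refine ⟨u, mem_centralizer_singleton_iff.2 (hzS _ ?_)⟩
  rw [← hu, Sylow.coe_subgroup_smul]
  exact mem_map_of_mem (MulAut.conj u).toMonoidHom (hT (mem_zpowers x))

theorem Base.pair_centralised {b a k : G} (hb : b ∈ B.P) (ha : a ∈ B.A) (hk : k ∈ D.Q)
    (h0 : bf (D.π k) e0 = 0) (h1 : bf (D.π k) (red (B.wv b)) = 0) (h2 : bf (D.π k) (red (D.π a)) = 0) :
    k ∈ D.Q ⊓ centralizer ({b * a} : Set G) := by
  refine ⟨hk, mem_centralizer_singleton_iff.2 (mul_inv_eq_iff_eq_mul.1 ?_)⟩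
  rw [bf_red_right h0] at h1 h2
  rw [B.conj_k hb ha (B.mem_A.2 ⟨hk, h0⟩), if_pos h1, if_pos h2, one_mul, one_mul]

omit [Finite G] in
theorem lin5_injective : ∀ u v : ZMod 2 × ZMod 2 × ZMod 2 × ZMod 2 × ZMod 2,
    u.1 • e0 + u.2.1 • x1 + u.2.2.1 • y1 + u.2.2.2.1 • k3 + u.2.2.2.2 • k4 =
      v.1 • e0 + v.2.1 • x1 + v.2.2.1 • y1 + v.2.2.2.1 • k3 + v.2.2.2.2 • k4 → u = v := by decide +kernel

omit [Finite G] in
theorem lin5_injective' : ∀ u v : ZMod 2 × ZMod 2 × ZMod 2 × ZMod 2 × ZMod 2,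
    u.1 • e0 + u.2.1 • x1 + u.2.2.1 • x2 + u.2.2.2.1 • x3 + u.2.2.2.2 • y3 =
      v.1 • e0 + v.2.1 • x1 + v.2.2.1 • x2 + v.2.2.2.1 • x3 + v.2.2.2.2 • y3 → u = v := by decide +kernel

omit [Finite G] in
theorem perp_plane : ∀ d : M8, bf d e0 = 0 → bf d x1 = 0 → bf d x2 = 0 → bf d x3 = 0 → bf d y3 = 0 →
    d = bf d f0 • e0 + bf d y1 • x1 + bf d y2 • x2 := by decide +kernel

omit [Finite G] in
theorem orth_t : ∀ n ∈ kList, bf n e0 = 0 ∧ bf n w2 = 0 ∧ bf n v2 = 0 := by decide +kernel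

omit [Finite G] in
theorem orth_u : ∀ n ∈ [e0, x1, x2, x3, y3], bf n e0 = 0 ∧ bf n x1 = 0 ∧ bf n x2 = 0 := by decide +kernel

/-- What is needed of an involution not to be conjugate to the central one. -/
structure Obstruction (D : Dat z) (T : G) : Prop where
  mem : T ∈ centralizer ({z} : Set G)
  notQ : T ∉ D.Q
  hasZ : HasZ D T
  big : 32 ≤ Nat.card (D.Q ⊓ centralizer ({T} : Set G) : Subgroup G)
  nonabelian : ∃ p₁ ∈ D.Q ⊓ centralizer ({T} : Set G), ∃ p₂ ∈ D.Q ⊓ centralizer ({T} : Set G),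
    p₁ * p₂ ≠ p₂ * p₁

theorem Pr.not_mem_Q {w v : M8} (S : Pr B w v) (hw : w ≠ 0) : S.el ∉ D.Q := fun h => by
  have h1 := B.wR_pair S.hb S.ha
  rw [show S.b * S.a = S.el from rfl, B.wR_Q h, S.wb] at h1
  exact hw h1.symm

theorem Pr.obstruction {w v : M8} (S : Pr B w v) (hw : w ≠ 0) (hv : v ≠ 0) (hvw : v ≠ w)
    (k5 : Fin 5 → M8) (h5 : ∀ i, bf (k5 i) e0 = 0 ∧ bf (k5 i) w = 0 ∧ bf (k5 i) v = 0)
    (hinj : ∀ u u' : ZMod 2 × ZMod 2 × ZMod 2 × ZMod 2 × ZMod 2,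
      u.1 • k5 0 + u.2.1 • k5 1 + u.2.2.1 • k5 2 + u.2.2.2.1 • k5 3 + u.2.2.2.2 • k5 4 =
        u'.1 • k5 0 + u'.2.1 • k5 1 + u'.2.2.1 • k5 2 + u'.2.2.2.1 • k5 3 + u'.2.2.2.2 • k5 4 → u = u')
    (hbad : ∃ i j, bf (k5 i) (k5 j) = 1) : Obstruction D S.el := by
  choose q hq hqπ using D.π_surj
  have hmem : ∀ m, bf m e0 = 0 → bf m w = 0 → bf m v = 0 → q m ∈ D.Q ⊓ centralizer ({S.el} : Set G) :=
    fun m h0 h1 h2 => B.pair_centralised S.hb S.ha (hq m) (by rw [hqπ]; exact h0)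
      (by rw [hqπ, S.wb]; exact h1) (by rw [hqπ, S.πa]; exact h2)
  refine ⟨S.el_mem, S.not_mem_Q B hw, B.hasZ_pair S.hb S.ha (by rw [S.wb]; exact hw) (by rw [S.πa]; exact hv)
    (by rw [S.wb, S.πa]; exact hvw), ?_, ?_⟩
  · let L : ZMod 2 × ZMod 2 × ZMod 2 × ZMod 2 × ZMod 2 → M8 := fun u =>
      u.1 • k5 0 + u.2.1 • k5 1 + u.2.2.1 • k5 2 + u.2.2.2.1 • k5 3 + u.2.2.2.2 • k5 4
    let f : ZMod 2 × ZMod 2 × ZMod 2 × ZMod 2 × ZMod 2 → (D.Q ⊓ centralizer ({S.el} : Set G) : Subgroup G) :=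
      fun u => ⟨q (L u), hmem _ (by simp [L, bf_add_left, bf_smul_left, (h5 _).1])
        (by simp [L, bf_add_left, bf_smul_left, (h5 _).2.1]) (by simp [L, bf_add_left, bf_smul_left, (h5 _).2.2])⟩
    have hf : Function.Injective f := fun u u' e => hinj u u' (by
      have e' : q (L u) = q (L u') := congrArg Subtype.val e
      have := congrArg D.π e'
      rwa [hqπ, hqπ] at this)
    have := Nat.card_le_card_of_injective f hf
    simpa using this
  · obtain ⟨i, j, hij⟩ := hbad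
    refine ⟨_, hmem _ (h5 i).1 (h5 i).2.1 (h5 i).2.2, _, hmem _ (h5 j).1 (h5 j).2.1 (h5 j).2.2, fun h => ?_⟩
    have := (D.comm_iff _ (hq _) _ (hq _)).1 h
    rw [hqπ, hqπ, hij] at this
    exact one_ne_zero this

variable (St : Pr B w2 v2) (Su : Pr B x1 x2)

theorem Base.t_obstruction : Obstruction D St.el :=
  St.obstruction B pair_facts.2.2.2.2.2.2.2.2.2.1 pair_facts.2.2.2.2.2.2.2.2.2.2.1
    pair_facts.2.2.2.2.2.2.2.2.2.2.2 ![e0, x1, y1, k3, k4]
    (fun i => by fin_cases i <;> exact orth_t _ (by simp [kList]))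
    lin5_injective ⟨1, 2, by decide +kernel⟩

theorem Base.u_obstruction : Obstruction D Su.el :=
  Su.obstruction B pair_facts.2.2.2.2.2.2.1 pair_facts.2.2.2.2.2.2.2.1 pair_facts.2.2.2.2.2.2.2.2.1
    ![e0, x1, x2, x3, y3] (fun i => by fin_cases i <;> exact orth_u _ (by simp))
    lin5_injective' ⟨3, 4, by decide +kernel⟩

include St Su in
theorem Base.not_conj_z {T : G} (hT : Obstruction D T) : ¬ IsConj z T := by
  intro hconj
  obtain ⟨y, hy⟩ := isConj_iff.1 hconj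
  obtain ⟨x, hx⟩ : ∃ x, x = y⁻¹ * z * y := ⟨_, rfl⟩
  have hTz := mem_centralizer_singleton_iff.1 hT.mem
  have hxC : x ∈ centralizer ({z} : Set G) := by
    rw [mem_centralizer_singleton_iff, hx]
    have h := hTz
    rw [← hy] at h
    calc y⁻¹ * z * y * z = y⁻¹ * (z * (y * z * y⁻¹)) * y := by group
      _ = y⁻¹ * (y * z * y⁻¹ * z) * y := by rw [h]
      _ = z * (y⁻¹ * z * y) := by group
  have hxQ : x ∉ D.Q := fun h => by
    have h1 : y⁻¹ * z * y⁻¹⁻¹ ∈ D.Q := by rw [inv_inv, ← hx]; exact h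
    have h2 := (mem_conjQ D).1 (mem_conjQ_self D h1)
    rw [inv_inv, hy] at h2
    exact hT.notQ h2
  have hx2 : x * x = 1 := by
    rw [hx, show y⁻¹ * z * y * (y⁻¹ * z * y) = y⁻¹ * (z * z) * y by group, D.pre.gen.sq]; group
  -- the action of the centralised part of the kernel
  have action : ∀ {k w : G}, k * z * k⁻¹ = T → k⁻¹ * z * k = w → w ∈ centralizer ({z} : Set G) →
      ∃ φ : (D.Q ⊓ centralizer ({T} : Set G) : Subgroup G) →* O8, Function.Injective φ ∧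
        (∀ p, φ p * hact D w = hact D w * φ p) ∧
        (∀ p, ∀ u ∈ D.Q, u * w = w * u → (φ p).1 (D.π u) = D.π u) ∧
        ∀ p : (D.Q ⊓ centralizer ({T} : Set G) : Subgroup G), (p : G) = z → φ p = hact D w := by
    intro k w hkz hkw hw
    have hPC : ∀ p : (D.Q ⊓ centralizer ({T} : Set G) : Subgroup G),
        k⁻¹ * (p : G) * k ∈ centralizer ({z} : Set G) := fun p => by
      rw [mem_centralizer_singleton_iff]
      have h : (p : G) * (k * z * k⁻¹) = k * z * k⁻¹ * (p : G) := by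
        rw [hkz]; exact mem_centralizer_singleton_iff.1 p.2.2
      calc k⁻¹ * (p : G) * k * z = k⁻¹ * ((p : G) * (k * z * k⁻¹)) * k := by group
        _ = k⁻¹ * (k * z * k⁻¹ * p) * k := by rw [h]
        _ = z * (k⁻¹ * p * k) := by group
    refine ⟨D.act.comp (MonoidHom.mk' (fun p : (D.Q ⊓ centralizer ({T} : Set G) : Subgroup G) =>
      (⟨k⁻¹ * (p : G) * k, hPC p⟩ : centralizer ({z} : Set G))) fun p q => Subtype.ext (by
        show k⁻¹ * ((p : G) * q) * k = k⁻¹ * p * k * (k⁻¹ * q * k); group)), ?_, ?_, ?_, ?_⟩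
    · exact (injective_iff_map_eq_one _).2 fun p hp => Subtype.ext
        (B.meet_trivial hT.mem hT.notQ hT.hasZ hkz p.2.1 ((mem_conjQ D).2 ((D.act_eq_one _).1 hp)))
    · intro p
      show D.act ⟨_, hPC p⟩ * hact D w = hact D w * D.act ⟨_, hPC p⟩
      rw [← hact_eq (hPC p), ← hact_mul (hPC p) hw, ← hact_mul hw (hPC p)]
      congr 1
      have h := (D.pre.gen.comm_z _ p.2.1).eq
      rw [← hkw]
      calc k⁻¹ * (p : G) * k * (k⁻¹ * z * k) = k⁻¹ * ((p : G) * z) * k := by group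
        _ = k⁻¹ * (z * (p : G)) * k := by rw [h]
        _ = k⁻¹ * z * k * (k⁻¹ * p * k) := by group
    · intro p u hu hcomm
      show (D.act ⟨k⁻¹ * (p : G) * k, hPC p⟩).1 (D.π u) = _
      rw [← D.act_π _ _ hu]
      have hku : k * u * k⁻¹ ∈ centralizer ({z} : Set G) := by
        rw [mem_centralizer_singleton_iff]
        rw [← hkw] at hcomm
        calc k * u * k⁻¹ * z = k * (u * (k⁻¹ * z * k)) * k⁻¹ := by group
          _ = k * ((k⁻¹ * z * k) * u) * k⁻¹ := by rw [hcomm]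
          _ = z * (k * u * k⁻¹) := by group
      have hkuQ : k * u * k⁻¹ ∈ conjQ D k :=
        (mem_conjQ D).2 (by rw [show k⁻¹ * (k * u * k⁻¹) * k = u by group]; exact hu)
      have hpQ : (p : G) * (k * u * k⁻¹) * (p : G)⁻¹ ∈ conjQ D k := by
        rw [mem_conjQ, show k⁻¹ * ((p : G) * (k * u * k⁻¹) * (p : G)⁻¹) * k =
          (k⁻¹ * p * k) * u * (k⁻¹ * p * k)⁻¹ by group]
        exact D.pre.conj_mem (mem_centralizer_singleton_iff.1 (hPC p)) hu
      have hone := B.meet_trivial hT.mem hT.notQ hT.hasZ hkz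
        (show (p : G) * (k * u * k⁻¹) * (p : G)⁻¹ * (k * u * k⁻¹)⁻¹ ∈ D.Q by
          rw [show (p : G) * (k * u * k⁻¹) * (p : G)⁻¹ * (k * u * k⁻¹)⁻¹ =
            (p : G) * ((k * u * k⁻¹) * (p : G)⁻¹ * (k * u * k⁻¹)⁻¹) by group]
          exact mul_mem p.2.1 (D.pre.conj_mem (mem_centralizer_singleton_iff.1 hku) (inv_mem p.2.1)))
        (mul_mem hpQ (inv_mem hkuQ))
      congr 1
      show k⁻¹ * (p : G) * k * u * (k⁻¹ * (p : G) * k)⁻¹ = u
      calc k⁻¹ * (p : G) * k * u * (k⁻¹ * (p : G) * k)⁻¹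
          = k⁻¹ * ((p : G) * (k * u * k⁻¹) * (p : G)⁻¹) * k := by group
        _ = u := by rw [mul_inv_eq_one.1 hone]; group
    · intro p hp
      show D.act ⟨_, hPC p⟩ = _
      rw [← hact_eq (hPC p), hp, hkw]
  obtain ⟨p₁, hp₁, p₂, hp₂, hne⟩ := hT.nonabelian
  let P₁ : (D.Q ⊓ centralizer ({T} : Set G) : Subgroup G) := ⟨p₁, hp₁⟩
  let P₂ : (D.Q ⊓ centralizer ({T} : Set G) : Subgroup G) := ⟨p₂, hp₂⟩
  have fromPair : ∀ {w v : M8} (S : Pr B w v), ∀ c ∈ centralizer ({z} : Set G), c * S.el * c⁻¹ = x →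
      ∃ φ : (D.Q ⊓ centralizer ({T} : Set G) : Subgroup G) →* O8, Function.Injective φ ∧
        ∀ p, ∀ m, bf m e0 = 0 → bf m w = 0 → bf m v = 0 → (φ p).1 m = m := by
    intro w v S c hc hcS
    have hcz := mem_centralizer_singleton_iff.1 hc
    have h1 : y * c * z * (y * c)⁻¹ = T := by
      calc y * c * z * (y * c)⁻¹ = y * (c * z) * c⁻¹ * y⁻¹ := by group
        _ = y * (z * c) * c⁻¹ * y⁻¹ := by rw [hcz]
        _ = T := by rw [← hy]; group
    have h2 : (y * c)⁻¹ * z * (y * c) = S.el := by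
      calc (y * c)⁻¹ * z * (y * c) = c⁻¹ * (y⁻¹ * z * y) * c := by group
        _ = S.el := by rw [← hx, ← hcS]; group
    obtain ⟨φ, hinj, -, hfix, -⟩ := action h1 h2 S.el_mem
    refine ⟨φ, hinj, fun p m h0 hw hv => ?_⟩
    obtain ⟨u, hu, rfl⟩ := D.π_surj m
    exact hfix p u hu (mem_centralizer_singleton_iff.1
      (B.pair_centralised S.hb S.ha hu h0 (by rw [S.wb]; exact hw) (by rw [S.πa]; exact hv)).2)
  rcases rank_cases (hact_sq hxC hx2) (hact_mem _) (fun e => hxQ (mem_Q_of_hact hxC e)) with h2 | ⟨h4, hker⟩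
  · rcases B.classify_two St Su hxC hxQ hx2 h2 with ⟨k, hk, hkz, hxk⟩ | ⟨c, hc, hcS⟩ | ⟨c, hc, hcS⟩
    · obtain ⟨m, hm⟩ : ∃ m, m = y * k := ⟨_, rfl⟩
      have hzm : z ∈ conjQ D m := by
        rw [mem_conjQ, hm, show (y * k)⁻¹ * z * (y * k) = k⁻¹ * (y⁻¹ * z * y) * k by group, ← hx]
        exact (mem_conjQ D).1 hxk
      have h1 : m⁻¹ * z * m⁻¹⁻¹ ∈ D.Q := by rw [inv_inv]; exact (mem_conjQ D).1 hzm
      have h2 : m * z * m⁻¹ ∈ D.Q := by
        have := (mem_conjQ D).1 (mem_conjQ_self D h1)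
        rwa [inv_inv] at this
      have h3 : m * z * m⁻¹ ∈ conjQ D y := by
        rw [mem_conjQ, hm, show y⁻¹ * (y * k * z * (y * k)⁻¹) * y = k * z * k⁻¹ by group]
        exact hk
      exact D.pre.gen.ne_one (conj_eq_one_iff.1 (B.meet_trivial hT.mem hT.notQ hT.hasZ hy h2 h3))
    · -- the stabiliser is abelian
      obtain ⟨φ, hinj, hfix⟩ := fromPair Su c hc hcS
      have hW : ∀ p, ∀ n ∈ [e0, x1, x2, x3, y3], (φ p).1 n = n := fun p n hn =>
        hfix p n (orth_u n hn).1 (orth_u n hn).2.1 (orth_u n hn).2.2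
      have hd : ∀ p p' m, (φ p').1 ((φ p).1 m + m) = (φ p).1 m + m := by
        intro p p' m
        set d := (φ p).1 m + m with hdd
        have hperp : ∀ n ∈ [e0, x1, x2, x3, y3], bf d n = 0 := fun n hn => by
          rw [hdd, bf_add_left]
          conv_lhs => arg 1; rw [← hW p n hn, bf_oGroup]
          exact CharTwo.add_self_eq_zero _
        rw [perp_plane d (hperp e0 (by simp)) (hperp x1 (by simp)) (hperp x2 (by simp)) (hperp x3 (by simp))
          (hperp y3 (by simp))]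
        simp only [map_add, map_smul, hW p' e0 (by simp), hW p' x1 (by simp), hW p' x2 (by simp)]
      refine hne (congrArg Subtype.val (show P₁ * P₂ = P₂ * P₁ from hinj (Subtype.ext (LinearEquiv.ext fun m => ?_))))
      rw [map_mul, map_mul]
      show (φ P₁).1 ((φ P₂).1 m) = (φ P₂).1 ((φ P₁).1 m)
      have e : ∀ p, (φ p).1 m = m + ((φ p).1 m + m) := fun p => by
        rw [add_comm ((φ p).1 m), ← add_assoc, add_self, zero_add]
      conv_lhs => rw [e P₂, map_add, hd, e P₁]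
      conv_rhs => rw [e P₁, map_add, hd, e P₂]
      abel
    · -- the stabiliser is small
      obtain ⟨φ, hinj, hfix⟩ := fromPair St c hc hcS
      have hrange : ∀ p, φ p ∈ fixK := fun p n hn =>
        hfix p n (orth_t n hn).1 (orth_t n hn).2.1 (orth_t n hn).2.2
      have h1 : Nat.card (D.Q ⊓ centralizer ({T} : Set G) : Subgroup G) ≤ Nat.card fixK :=
        Nat.card_le_card_of_injective (fun p => (⟨φ p, hrange p⟩ : fixK))
          (fun p q e => hinj (congrArg Subtype.val e))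
      have := card_fixK_le
      have := hT.big
      omega
  · -- displacement of rank four
    obtain ⟨φ, hinj, hcomm, hfix, hz⟩ := action hy hx.symm hxC
    have hL : ∀ p, ∀ m, qf (disp (hact D x) m) = 0 → (φ p).1 (disp (hact D x) m) = disp (hact D x) m := by
      intro p m hm
      obtain ⟨u, hu, hum⟩ := D.π_surj (disp (hact D x) m)
      have h := conj_lift hxC hx2 hu hum
      rw [hum, if_pos hm, mul_one] at h
      rw [← hum]
      exact hfix p u hu (mul_inv_eq_iff_eq_mul.1 h).symm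
    have hzP : z ∈ D.Q ⊓ centralizer ({T} : Set G) := ⟨D.pre.gen.mem, mem_centralizer_singleton_iff.2 hTz.symm⟩
    have heq : P₁ * P₂ = ⟨z, hzP⟩ * (P₂ * P₁) := by
      refine Subtype.ext ?_
      show p₁ * p₂ = z * (p₂ * p₁)
      rcases Extra2.conj_eq D.pre.gen hp₁.1 hp₂.1 with e | e
      · exact absurd (mul_inv_eq_iff_eq_mul.1 e) hne
      · rw [← mul_assoc, ← e]; group
    have h := congrArg φ heq
    rw [map_mul, map_mul, map_mul, hz ⟨z, hzP⟩ rfl] at h
    exact commutator_ne (hact_sq hxC hx2) hker h4 (hcomm P₁) (hcomm P₂) (hL P₁) (hL P₂) h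

include St Su in
/-- A conjugate of the central involution acts with totally singular displacement. -/
theorem Base.ts_of_conj {x : G} (hx : x ∈ centralizer ({z} : Set G)) (hx2 : x * x = 1) (hc : IsConj z x)
    (m : M8) : qf (disp (hact D x) m) = 0 := by
  have hnt := B.not_conj_z St Su (B.t_obstruction St)
  have hnu := B.not_conj_z St Su (B.u_obstruction Su)
  by_cases hxQ : x ∈ D.Q
  · rw [disp_apply, hact_Q hxQ]
    show qf (m + m) = 0
    rw [add_self, qf_zero]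
  rcases rank_cases (hact_sq hx hx2) (hact_mem _) (fun e => hxQ (mem_Q_of_hact hx e)) with h2 | ⟨h4, hker⟩
  · rcases B.classify_two St Su hx hxQ hx2 h2 with h | ⟨c, -, hcS⟩ | ⟨c, -, hcS⟩
    · have h' := B.ts_of_sing hx hx2 h m
      rwa [← hact_eq hx] at h'
    · exact absurd (hc.trans (isConj_iff.2 ⟨c, hcS⟩).symm) hnu
    · exact absurd (hc.trans (isConj_iff.2 ⟨c, hcS⟩).symm) hnt
  · refine (zmod2_cases _).resolve_right fun h1 => ?_
    rcases (B.classify_four St Su hx hx2 h4 hker).2 ⟨m, h1⟩ with h | h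
    · exact hnu (hc.trans h.symm)
    · exact hnt (hc.trans h.symm)

end CfsgLib.Co1Invol
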