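import Cfsg.Agent.Co1Invol.Setting
import Cfsg.Agent.LargeExtra.PairRadical

/-!
The pair of conjugate involutions with a singular point: the radical and the commutator formula.
-/

set_option autoImplicit false
set_option linter.style.haveILetI false

namespace CfsgLib.Co1Invol

open CfsgLib CfsgLib.Quad Subgroup

variable {G : Type*} [Group G] [Finite G] {z : G} (D : Dat z)

/-- A conjugate of the extraspecial subgroup. -/
def conjQ (k : G) : Subgroup G := D.Q.map (MulAut.conj k).toMonoidHom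

omit [Finite G] in
theorem mem_conjQ {k y : G} : y ∈ conjQ D k ↔ k⁻¹ * y * k ∈ D.Q := by
  constructor
  · rintro ⟨q, hq, rfl⟩
    simp only [MulEquiv.coe_toMonoidHom, MulAut.conj_apply]
    rwa [show k⁻¹ * (k * q * k⁻¹) * k = q by group]
  · intro h
    refine ⟨_, h, ?_⟩
    simp only [MulEquiv.coe_toMonoidHom, MulAut.conj_apply]
    group

theorem conjQ_congr {k k' : G} (h : k * z * k⁻¹ = k' * z * k'⁻¹) : conjQ D k = conjQ D k' := by
  unfold conjQ
  rw [← LargeExtra.fam_eq D.pre k, ← LargeExtra.fam_eq D.pre k', h]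

theorem mem_conjQ_self {k : G} (h : k * z * k⁻¹ ∈ D.Q) : z ∈ conjQ D k := D.pre.center_mem_conj h

omit [Finite G] in
theorem mem_C {q : G} (hq : q ∈ D.Q) : q ∈ centralizer ({z} : Set G) :=
  mem_centralizer_singleton_iff.2 (D.pre.gen.comm_z q hq).eq

omit [Finite G] in
theorem π_one : D.π 1 = 0 := (D.π_eq_zero 1 (one_mem _)).2 (Or.inl rfl)

omit [Finite G] in
theorem π_z : D.π z = 0 := (D.π_eq_zero z D.pre.gen.mem).2 (Or.inr rfl)

omit [Finite G] in
theorem π_inv {q : G} (hq : q ∈ D.Q) : D.π q⁻¹ = D.π q := by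
  have h := D.π_mul q hq q⁻¹ (inv_mem hq)
  rw [mul_inv_cancel, π_one] at h
  exact (add_left_cancel ((add_self (D.π q)).trans h)).symm

omit [Finite G] in
theorem eq_of_π {q r : G} (hq : q ∈ D.Q) (hr : r ∈ D.Q) (h : D.π q = D.π r) : r = q ∨ r = q * z := by
  have h0 : D.π (q⁻¹ * r) = 0 := by rw [D.π_mul _ (inv_mem hq) _ hr, π_inv D hq, h, add_self]
  rcases (D.π_eq_zero _ (mul_mem (inv_mem hq) hr)).1 h0 with e | e
  · exact Or.inl (inv_mul_eq_one.1 e).symm
  · exact Or.inr (inv_mul_eq_iff_eq_mul.1 e)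

omit [Finite G] in
/-- Within the kernel a noncentral element is conjugate to its translate. -/
theorem exists_flip {q : G} (hq : q ∈ D.Q) (h1 : q ≠ 1) (hz : q ≠ z) :
    ∃ a ∈ D.Q, a * q * a⁻¹ = q * z :=
  Extra2.exists_conj_mul D.pre.gen hq h1 hz

omit [Finite G] in
/-- The centraliser moves singular involutions of the kernel transitively. -/
theorem exists_conj_C {q r : G} (hq : q ∈ D.Q) (hr : r ∈ D.Q) (hq2 : qf (D.π q) = 0)
    (hr2 : qf (D.π r) = 0) (hq0 : D.π q ≠ 0) (hr0 : D.π r ≠ 0) :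
    ∃ c : G, c ∈ centralizer ({z} : Set G) ∧ c * q * c⁻¹ = r := by
  haveI := isPretransitive_spt (Q := q8) nondeg8 (by simp)
  obtain ⟨h, hh⟩ := MulAction.exists_smul_eq ↥(commutator (oGroup q8))
    (spt (D.π q) hq0 ((q8_eq _).trans hq2)) (spt (D.π r) hr0 ((q8_eq _).trans hr2))
  rw [smul_spt, spt_eq_iff] at hh
  obtain ⟨a, ha⟩ := hh
  rcases zmod2_cases a with rfl | rfl
  · rw [zero_smul] at ha
    exact absurd ha.symm (iso_ne_zero _ hq0)
  rw [one_smul] at ha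
  obtain ⟨c, hc⟩ := D.act_surj h.1 h.2
  have hmem : (c : G) * q * (c : G)⁻¹ ∈ D.Q := D.pre.conj_mem (mem_centralizer_singleton_iff.1 c.2) hq
  have hπ : D.π ((c : G) * q * (c : G)⁻¹) = D.π r := by rw [D.act_π c q hq, hc, ← ha]
  rcases eq_of_π D hr hmem hπ.symm with e | e
  · exact ⟨c, c.2, e⟩
  · obtain ⟨b, hb, hbe⟩ := exists_flip D hr (fun e' => hr0 (by rw [e', π_one])) (fun e' => hr0 (by rw [e', π_z]))
    refine ⟨b * c, mul_mem (mem_C D hb) c.2, ?_⟩
    have hbz : b * z * b⁻¹ = z := by rw [(D.pre.gen.comm_z b hb).eq, mul_inv_cancel_right]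
    calc b * c * q * (b * c)⁻¹ = b * ((c : G) * q * (c : G)⁻¹) * b⁻¹ := by group
      _ = b * r * b⁻¹ * (b * z * b⁻¹) := by rw [e]; group
      _ = r := by rw [hbe, hbz, mul_assoc, D.pre.gen.sq, mul_one]

/-- The pair. -/
structure Base where
  /-- The second involution. -/
  s : G
  /-- An element exchanging the two. -/
  g : G
  sQ : s ∈ D.Q
  πs : D.π s = e0
  gz : g * z * g⁻¹ = s
  gs : g * s * g⁻¹ = z

theorem exists_base {g₀ : G} (h₀ : g₀ * z * g₀⁻¹ ∈ D.Q) (hne : g₀ * z * g₀⁻¹ ≠ z) :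
    Nonempty (Base D) := by
  have hz1 := D.pre.gen.ne_one
  set x := g₀ * z * g₀⁻¹
  have hx1 : x ≠ 1 := fun e => hz1 (conj_eq_one_iff.1 e)
  have hx2 : x * x = 1 := by
    show g₀ * z * g₀⁻¹ * (g₀ * z * g₀⁻¹) = 1
    rw [show g₀ * z * g₀⁻¹ * (g₀ * z * g₀⁻¹) = g₀ * (z * z) * g₀⁻¹ by group, D.pre.gen.sq]; group
  have hxπ : D.π x ≠ 0 := fun e => ((D.π_eq_zero x h₀).1 e).elim hx1 hne
  obtain ⟨s, hs, hsπ⟩ := D.π_surj e0
  obtain ⟨c, hc, hcs⟩ := exists_conj_C D h₀ hs ((D.sq_iff x h₀).1 hx2) (by rw [hsπ]; exact q_e0) hxπ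
    (by rw [hsπ]; exact e0_ne)
  have hcz : c * z * c⁻¹ = z := by rw [mem_centralizer_singleton_iff.1 hc, mul_inv_cancel_right]
  set k := c * g₀
  have hk : k * z * k⁻¹ = s := by
    rw [← hcs]; simp only [k, x]; group
  have hkC : k ∉ centralizer ({z} : Set G) := fun e => by
    have e' : s = z := by rw [← hk, mem_centralizer_singleton_iff.1 e, mul_inv_cancel_right]
    rw [e', π_z] at hsπ
    exact e0_ne hsπ.symm
  have P := LargeExtra.pair_of D.pre (hk ▸ hs) hkC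
  obtain ⟨a, ha, hax⟩ := LargeExtra.exists_a P
  obtain ⟨b, hb, hbz⟩ := LargeExtra.exists_b P
  rw [hk] at hax hbz
  have haz : a * z * a⁻¹ = z := LargeExtra.Q_fix P ha
  have hbs : b * s * b⁻¹ = s := hk ▸ LargeExtra.Q'_fix P hb
  refine ⟨⟨s, a * b * a, hs, hsπ, ?_, ?_⟩⟩
  · calc a * b * a * z * (a * b * a)⁻¹ = a * (b * (a * z * a⁻¹) * b⁻¹) * a⁻¹ := by group
      _ = a * (z * s) * a⁻¹ := by rw [haz, hbz]
      _ = (a * z * a⁻¹) * (a * s * a⁻¹) := by group
      _ = s := by rw [haz, hax, ← mul_assoc, D.pre.gen.sq, one_mul]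
  · calc a * b * a * s * (a * b * a)⁻¹ = a * (b * (a * s * a⁻¹) * b⁻¹) * a⁻¹ := by group
      _ = a * ((b * z * b⁻¹) * (b * s * b⁻¹)) * a⁻¹ := by rw [hax]; group
      _ = z := by
        have hss : s * s = 1 := (D.sq_iff s hs).2 (by rw [hsπ]; exact q_e0)
        rw [hbz, hbs, mul_assoc z s s, hss, mul_one, haz]

variable {D} (B : Base D)

/-- The part of the kernel fixing the second involution. -/
def Base.A : Subgroup G := D.Q ⊓ centralizer ({B.s} : Set G)

/-- The part of the conjugate fixing the first involution. -/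
def Base.P : Subgroup G := conjQ D B.g ⊓ centralizer ({z} : Set G)

omit [Finite G] in
theorem Base.ne : B.s ≠ z := fun e => e0_ne (by rw [← B.πs, e, π_z])

omit [Finite G] in
theorem Base.s_ne : B.s ≠ 1 := fun e => e0_ne (by rw [← B.πs, e, π_one])

omit [Finite G] in
theorem Base.s_sq : B.s * B.s = 1 := (D.sq_iff _ B.sQ).2 (by rw [B.πs]; exact q_e0)

omit [Finite G] in
theorem Base.g_inv_z : B.g⁻¹ * z * B.g = B.s := by
  calc B.g⁻¹ * z * B.g = B.g⁻¹ * (B.g * B.s * B.g⁻¹) * B.g := by rw [B.gs]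
    _ = B.s := by group

omit [Finite G] in
theorem Base.g_inv_s : B.g⁻¹ * B.s * B.g = z := by
  calc B.g⁻¹ * B.s * B.g = B.g⁻¹ * (B.g * z * B.g⁻¹) * B.g := by rw [B.gz]
    _ = z := by group

theorem Base.zg : z ∈ conjQ D B.g := mem_conjQ_self D (by rw [B.gz]; exact B.sQ)

theorem Base.sg : B.s ∈ conjQ D B.g := (mem_conjQ D).2 (by rw [B.g_inv_s]; exact D.pre.gen.mem)

omit [Finite G] in
theorem Base.mem_A {a : G} : a ∈ B.A ↔ a ∈ D.Q ∧ bf (D.π a) e0 = 0 := by
  constructor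
  · rintro ⟨h1, h2⟩
    exact ⟨h1, B.πs ▸ (D.comm_iff a h1 _ B.sQ).1 (mem_centralizer_singleton_iff.1 h2)⟩
  · rintro ⟨h1, h2⟩
    exact ⟨h1, mem_centralizer_singleton_iff.2 ((D.comm_iff a h1 _ B.sQ).2 (by rw [B.πs]; exact h2))⟩

omit [Finite G] in
theorem Base.conj_s {y : G} (hy : y ∈ conjQ D B.g) : y * B.s = B.s * y := by
  have h := (D.pre.gen.comm_z _ ((mem_conjQ D).1 hy)).eq
  calc y * B.s = B.g * (B.g⁻¹ * y * B.g * z) * B.g⁻¹ := by rw [← B.gz]; group
    _ = B.g * (z * (B.g⁻¹ * y * B.g)) * B.g⁻¹ := by rw [h]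
    _ = B.s * y := by rw [← B.gz]; group

omit [Finite G] in
theorem Base.P_fix {b : G} (hb : b ∈ B.P) : b * z = z * b ∧ b * B.s = B.s * b :=
  ⟨mem_centralizer_singleton_iff.1 hb.2, B.conj_s hb.1⟩

omit [Finite G] in
theorem Base.A_fix {a : G} (ha : a ∈ B.A) : a * z = z * a ∧ a * B.s = B.s * a :=
  ⟨(D.pre.gen.comm_z a ha.1).eq, mem_centralizer_singleton_iff.1 ha.2⟩

/-- The element of the centraliser fixing both involutions over a given isometry. -/
theorem Base.lift_fix {h : O8} (hh : h ∈ commutator (oGroup q8)) (he : h.1 e0 = e0) :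
    ∃ c : centralizer ({z} : Set G), D.act c = h ∧ (c : G) * B.s * (c : G)⁻¹ = B.s := by
  obtain ⟨c, hc⟩ := D.act_surj h hh
  have hmem : (c : G) * B.s * (c : G)⁻¹ ∈ D.Q := D.pre.conj_mem (mem_centralizer_singleton_iff.1 c.2) B.sQ
  have hπ : D.π ((c : G) * B.s * (c : G)⁻¹) = D.π B.s := by rw [D.act_π c _ B.sQ, hc, B.πs, he]
  rcases eq_of_π D B.sQ hmem hπ.symm with e | e
  · exact ⟨c, hc, e⟩
  · obtain ⟨a, ha, hae⟩ := exists_flip D B.sQ B.s_ne B.ne
    refine ⟨⟨a, mem_C D ha⟩ * c, ?_, ?_⟩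
    · rw [map_mul, (D.act_eq_one ⟨a, mem_C D ha⟩).2 ha, one_mul, hc]
    · show a * (c : G) * B.s * (a * (c : G))⁻¹ = B.s
      calc a * (c : G) * B.s * (a * (c : G))⁻¹ = a * ((c : G) * B.s * (c : G)⁻¹) * a⁻¹ := by group
        _ = a * B.s * a⁻¹ * (a * z * a⁻¹) := by rw [e]; group
        _ = B.s := by
          rw [hae, (D.pre.gen.comm_z a ha).eq, mul_inv_cancel_right, mul_assoc, D.pre.gen.sq, mul_one]

theorem Base.conj_mem_g {c : G} (hs : c * B.s * c⁻¹ = B.s) {y : G} (hy : y ∈ conjQ D B.g) :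
    c * y * c⁻¹ ∈ conjQ D B.g := by
  rw [← conjQ_congr D (k := c * B.g) (k' := B.g) (by
    rw [B.gz, ← hs, ← B.gz]; group)]
  rw [mem_conjQ]
  rw [show (c * B.g)⁻¹ * (c * y * c⁻¹) * (c * B.g) = B.g⁻¹ * y * B.g by group]
  exact (mem_conjQ D).1 hy

/-- The four-group predicate. -/
def Base.InV (_B : Base D) (y : G) : Prop := y ∈ D.Q ∧ (D.π y = 0 ∨ D.π y = e0)

omit [Finite G] in
theorem Base.inV_cases {y : G} (h : B.InV y) : y = 1 ∨ y = z ∨ y = B.s ∨ y = z * B.s := by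
  rcases h.2 with e | e
  · rcases (D.π_eq_zero y h.1).1 e with e | e
    exacts [Or.inl e, Or.inr (Or.inl e)]
  · rcases eq_of_π D B.sQ h.1 (B.πs.trans e.symm) with e | e
    · exact Or.inr (Or.inr (Or.inl e))
    · exact Or.inr (Or.inr (Or.inr (e.trans (D.pre.gen.comm_z _ B.sQ).eq)))

theorem Base.inV_of {y : G} (h : y = 1 ∨ y = z ∨ y = B.s ∨ y = z * B.s) :
    B.InV y ∧ y ∈ conjQ D B.g := by
  rcases h with rfl | rfl | rfl | rfl
  · exact ⟨⟨one_mem _, Or.inl (π_one D)⟩, one_mem _⟩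
  · exact ⟨⟨D.pre.gen.mem, Or.inl (π_z D)⟩, B.zg⟩
  · exact ⟨⟨B.sQ, Or.inr B.πs⟩, B.sg⟩
  · exact ⟨⟨mul_mem D.pre.gen.mem B.sQ, Or.inr (by rw [D.π_mul _ D.pre.gen.mem _ B.sQ, π_z, zero_add, B.πs])⟩,
      mul_mem B.zg B.sg⟩

theorem Base.meet {y : G} (hy : y ∈ D.Q) (hy' : y ∈ conjQ D B.g) : B.InV y := by
  refine ⟨hy, ?_⟩
  have hP : LargeExtra.Pair D.Q z B.g := LargeExtra.pair_of D.pre (by rw [B.gz]; exact B.sQ) fun e =>
    B.ne (by rw [← B.gz, mem_centralizer_singleton_iff.1 e, mul_inv_cancel_right])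
  have hy2 : y * y = 1 := by
    have := (LargeExtra.E_elementary hP).2 y ⟨hy, hy'⟩
    rwa [pow_two] at this
  have he : bf (D.π y) e0 = 0 := B.πs ▸ (D.comm_iff y hy _ B.sQ).1 (B.conj_s hy')
  by_contra hcon
  push Not at hcon
  obtain ⟨e, hew, a, haw, hqe, hea, hm⟩ := sing_moved ((D.sq_iff y hy).1 hy2) he hcon.1 hcon.2
  obtain ⟨c, hc, hcs⟩ := B.lift_fix (sm_mem hqe hea) (by rw [siegel_sm hqe hea]; exact sm_e0 hew haw)
  have hyc := D.pre.conj_mem (mem_centralizer_singleton_iff.1 c.2) hy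
  have hc' := LargeExtra.E_comm hP ⟨hy, hy'⟩ ⟨hyc, B.conj_mem_g hcs hy'⟩
  rw [(D.comm_iff y hy _ hyc), D.act_π c y hy, hc, siegel_sm hqe hea, hm] at hc'
  exact one_ne_zero hc'

/-! ### The radical -/

open Classical in
/-- The parameter of an element of the radical. -/
noncomputable def Base.wv (_B : Base D) (b : G) : M8 :=
  if h : b ∈ centralizer ({z} : Set G) then (D.act ⟨b, h⟩).1 f0 + f0 else 0

omit [Finite G] in
theorem Base.wv_eq {b : G} (h : b ∈ centralizer ({z} : Set G)) :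
    B.wv b = (D.act ⟨b, h⟩).1 f0 + f0 := dif_pos h

/-- The commutator. -/
def cm (b a : G) : G := b * a * b⁻¹ * a⁻¹

theorem Base.cm_mem {b a : G} (hb : b ∈ B.P) (ha : a ∈ B.A) : B.InV (cm b a) := by
  refine B.meet ?_ ?_
  · exact mul_mem (D.pre.conj_mem (B.P_fix hb).1 ha.1) (inv_mem ha.1)
  · rw [cm, show b * a * b⁻¹ * a⁻¹ = b * (a * b⁻¹ * a⁻¹) by group]
    exact mul_mem hb.1 (B.conj_mem_g (by rw [(B.A_fix ha).2, mul_inv_cancel_right]) (inv_mem hb.1))

theorem Base.act_P {b : G} (hb : b ∈ B.P) :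
    Adm (B.wv b) ∧ ∀ m, (D.act ⟨b, hb.2⟩).1 m = uMap (B.wv b) m := by
  have he : (D.act ⟨b, hb.2⟩).1 e0 = e0 := by
    rw [← B.πs, ← D.act_π _ _ B.sQ, (B.P_fix hb).2, mul_inv_cancel_right]
  rw [B.wv_eq hb.2]
  refine radical_eq he fun m hm => ?_
  obtain ⟨a, ha, rfl⟩ := D.π_surj m
  have hA : a ∈ B.A := B.mem_A.2 ⟨ha, hm⟩
  have hmem : b * a * b⁻¹ ∈ D.Q := D.pre.conj_mem (B.P_fix hb).1 ha
  have h := (B.cm_mem hb hA).2
  rw [cm, D.π_mul _ hmem _ (inv_mem ha), π_inv D ha,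
    show D.π (b * a * b⁻¹) = _ from D.act_π ⟨b, hb.2⟩ a ha] at h
  exact h

omit [Finite G] in
theorem adm_eq {w w' : M8} (h : Adm w) (h' : Adm w') (he : red w = red w') : w = w' := by
  have key : ∀ x : M8, Adm x → x = red x + qf (red x) • e0 := by decide +kernel
  rw [key w h, key w' h', he]

omit [Finite G] in
theorem adm_rep {v : M8} (hv : v ∈ wList) : Adm (v + qf v • e0) ∧ red (v + qf v • e0) = v := by
  obtain ⟨h1, h2⟩ := wList_perp v hv
  have hee : bf e0 e0 = 0 := bf_self _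
  constructor
  · constructor
    · rw [bf_add_left, bf_smul_left, hee, h1, mul_zero, add_zero]
    · rw [bf_add_right, bf_smul_right, b_fe, mul_one, bf_comm f0, h2, zero_add, qf_add, bf_smul_right, h1]
      rcases zmod2_cases (qf v) with e | e <;> rw [e] <;>
        simp [q_e0, qf_zero]
  · rw [red_add, red_wList hv]
    rcases zmod2_cases (qf v) with e | e <;> rw [e]
    · rw [zero_smul, show red 0 = 0 by decide +kernel, add_zero]
    · rw [one_smul, red_e0, add_zero]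

theorem Base.card_A : 256 ≤ Nat.card B.A := by
  choose q hq hqπ using D.π_surj
  let f : {m : M8 // bf m e0 = 0} × Bool → B.A := fun p =>
    ⟨q p.1.1 * cond p.2 z 1, B.mem_A.2 ⟨mul_mem (hq _) (by cases p.2; exacts [one_mem _, D.pre.gen.mem]), by
      rw [D.π_mul _ (hq _) _ (by cases p.2; exacts [one_mem _, D.pre.gen.mem]), hqπ]
      cases p.2
      · rw [cond_false, π_one, add_zero]; exact p.1.2
      · rw [cond_true, π_z, add_zero]; exact p.1.2⟩⟩
  have hinj : Function.Injective f := by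
    rintro ⟨⟨m, hm⟩, i⟩ ⟨⟨n, hn⟩, j⟩ h
    have h' : q m * cond i z 1 = q n * cond j z 1 := congrArg Subtype.val h
    have hmn : m = n := by
      have hh := congrArg D.π h'
      rw [D.π_mul _ (hq _) _ (by cases i; exacts [one_mem _, D.pre.gen.mem]),
        D.π_mul _ (hq _) _ (by cases j; exacts [one_mem _, D.pre.gen.mem]), hqπ, hqπ] at hh
      cases i <;> cases j <;> simpa [π_one, π_z] using hh
    subst hmn
    have := mul_left_cancel h'
    cases i <;> cases j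
    · rfl
    · exact absurd this.symm D.pre.gen.ne_one
    · exact absurd this D.pre.gen.ne_one
    · rfl
  refine le_trans ?_ (Nat.card_le_card_of_injective f hinj)
  rw [Nat.card_prod, Nat.card_eq_fintype_card, Nat.card_eq_fintype_card, Fintype.card_subtype]
  decide +kernel

theorem Base.mem_P_iff {y : G} : y ∈ B.P ↔ B.g⁻¹ * y * B.g ∈ B.A := by
  unfold Base.P Base.A
  rw [mem_inf, mem_inf, mem_conjQ, mem_centralizer_singleton_iff, mem_centralizer_singleton_iff]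
  refine and_congr_right fun _ => ⟨fun h => ?_, fun h => ?_⟩
  · calc B.g⁻¹ * y * B.g * B.s = B.g⁻¹ * y * B.g * (B.g⁻¹ * z * B.g) := by rw [B.g_inv_z]
      _ = B.g⁻¹ * (y * z) * B.g := by group
      _ = B.g⁻¹ * (z * y) * B.g := by rw [h]
      _ = B.g⁻¹ * z * B.g * (B.g⁻¹ * y * B.g) := by group
      _ = B.s * (B.g⁻¹ * y * B.g) := by rw [B.g_inv_z]
  · rw [← B.g_inv_z] at h
    calc y * z = B.g * (B.g⁻¹ * y * B.g * (B.g⁻¹ * z * B.g)) * B.g⁻¹ := by group
      _ = z * y := by rw [h]; group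

theorem Base.wv_surj {w : M8} (hw : Adm w) : ∃ b ∈ B.P, B.wv b = w := by
  classical
  let f : B.P → {w : M8 // Adm w} := fun b => ⟨_, (B.act_P b.2).1⟩
  suffices h : Function.Surjective f by
    obtain ⟨b, hb⟩ := h ⟨w, hw⟩
    exact ⟨b, b.2, congrArg Subtype.val hb⟩
  haveI : Finite {w : M8 // Adm w} := inferInstance
  let rep : Set.range f → B.P := fun t => t.2.choose
  have hrep : ∀ t : Set.range f, f (rep t) = t.1 := fun t => t.2.choose_spec
  let S : Finset G := {1, z, B.s, z * B.s}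
  have hmem : ∀ b : B.P, ((rep ⟨f b, b, rfl⟩ : B.P) : G)⁻¹ * b ∈ S := fun b => by
    set r := rep ⟨f b, b, rfl⟩
    have hw' : B.wv (r : G) = B.wv (b : G) := congrArg Subtype.val (hrep ⟨f b, b, rfl⟩)
    have hQ : (r : G)⁻¹ * b ∈ D.Q := by
      refine (D.act_eq_one (⟨r, r.2.2⟩⁻¹ * ⟨b, b.2.2⟩)).1 ?_
      rw [map_mul, map_inv, inv_mul_eq_one]
      exact Subtype.ext (LinearEquiv.ext fun m => by rw [(B.act_P r.2).2, (B.act_P b.2).2, hw'])
    have := B.inV_cases (B.meet hQ (mul_mem (inv_mem r.2.1) b.2.1))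
    simpa [S] using this
  let F : B.P → Set.range f × S := fun b => (⟨f b, b, rfl⟩, ⟨_, hmem b⟩)
  have hinj : Function.Injective F := fun a b h => by
    have h1 : (⟨f a, a, rfl⟩ : Set.range f) = ⟨f b, b, rfl⟩ := congrArg Prod.fst h
    have h2 : ((rep ⟨f a, a, rfl⟩ : B.P) : G)⁻¹ * a = ((rep ⟨f b, b, rfl⟩ : B.P) : G)⁻¹ * b :=
      congrArg (fun p : Set.range f × S => ((p.2 : S) : G)) h
    rw [h1, mul_right_inj] at h2
    exact Subtype.ext h2
  have hc := Nat.card_le_card_of_injective F hinj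
  have hPA : Nat.card B.A ≤ Nat.card B.P :=
    Nat.card_le_card_of_injective (fun a : B.A => (⟨B.g * a * B.g⁻¹, B.mem_P_iff.2 (by
      rw [show B.g⁻¹ * (B.g * a * B.g⁻¹) * B.g = a by group]; exact a.2)⟩ : B.P)) fun a b h => by
      have h' : B.g * a * B.g⁻¹ = B.g * b * B.g⁻¹ := congrArg Subtype.val h
      exact Subtype.ext (mul_left_cancel (mul_right_cancel h'))
  have hS : Nat.card S ≤ 4 := by
    rw [Nat.card_eq_fintype_card, Fintype.card_coe]; exact Finset.card_le_four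
  rw [Nat.card_prod] at hc
  have h64 : 64 ≤ Nat.card (Set.range f) := by
    have := B.card_A
    nlinarith
  have := Set.eq_of_subset_of_ncard_le (Set.subset_univ (Set.range f)) (by
    rw [Set.ncard_univ, card_adm, ← Nat.card_coe_set_eq]; exact h64)
  exact Set.range_eq_univ.1 this

/-! ### The commutator formula -/

/-- The coordinate along the second involution. -/
noncomputable def Base.σ (_B : Base D) (y : G) : ZMod 2 := bf (D.π y) f0

/-- The coordinate along the first involution. -/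
noncomputable def Base.ζ (B : Base D) (y : G) : ZMod 2 := bf (D.π (B.g⁻¹ * y * B.g)) f0

theorem Base.bits : B.σ z = 0 ∧ B.σ B.s = 1 ∧ B.ζ z = 1 ∧ B.ζ B.s = 0 ∧ B.σ 1 = 0 ∧ B.ζ 1 = 0 := by
  refine ⟨?_, ?_, ?_, ?_, ?_, ?_⟩ <;> simp only [Base.σ, Base.ζ]
  · rw [π_z, bf_zero_left]
  · rw [B.πs, b_ef]
  · rw [B.g_inv_z, B.πs, b_ef]
  · rw [B.g_inv_s, π_z, bf_zero_left]
  · rw [π_one, bf_zero_left]
  · rw [mul_one, inv_mul_cancel, π_one, bf_zero_left]

theorem Base.inV_g {y : G} (h : B.InV y) : B.g⁻¹ * y * B.g ∈ D.Q := by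
  rcases B.inV_cases h with rfl | rfl | rfl | rfl
  · rw [mul_one, inv_mul_cancel]; exact one_mem _
  · rw [B.g_inv_z]; exact B.sQ
  · rw [B.g_inv_s]; exact D.pre.gen.mem
  · rw [show B.g⁻¹ * (z * B.s) * B.g = (B.g⁻¹ * z * B.g) * (B.g⁻¹ * B.s * B.g) by group, B.g_inv_z, B.g_inv_s]
    exact mul_mem B.sQ D.pre.gen.mem

theorem Base.bits_add {x y : G} (hx : B.InV x) (hy : B.InV y) :
    B.σ (x * y) = B.σ x + B.σ y ∧ B.ζ (x * y) = B.ζ x + B.ζ y := by
  constructor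
  · simp only [Base.σ, D.π_mul x hx.1 y hy.1, bf_add_left]
  · simp only [Base.ζ]
    rw [show B.g⁻¹ * (x * y) * B.g = (B.g⁻¹ * x * B.g) * (B.g⁻¹ * y * B.g) by group,
      D.π_mul _ (B.inV_g hx) _ (B.inV_g hy), bf_add_left]

theorem Base.eq_of_bits {y : G} (h : B.InV y) (i : ZMod 2) (h1 : B.σ y = i) (h2 : B.ζ y = i) :
    y = if i = 0 then 1 else z * B.s := by
  obtain ⟨a1, a2, a3, a4, a5, a6⟩ := B.bits
  have hz : B.InV z := (B.inV_of (Or.inr (Or.inl rfl))).1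
  have hs : B.InV B.s := (B.inV_of (Or.inr (Or.inr (Or.inl rfl)))).1
  rcases B.inV_cases h with rfl | rfl | rfl | rfl
  · rw [a5] at h1
    rw [if_pos h1.symm]
  · rw [a1] at h1; rw [a3] at h2
    exact absurd (h2.trans h1.symm) one_ne_zero
  · rw [a2] at h1; rw [a4] at h2
    exact absurd (h1.trans h2.symm) one_ne_zero
  · rw [(B.bits_add hz hs).1, a1, a2, zero_add] at h1
    rw [if_neg (by rw [← h1]; exact one_ne_zero)]

theorem Base.fix_V {c : G} (hz : c * z * c⁻¹ = z) (hs : c * B.s * c⁻¹ = B.s) {y : G} (hy : B.InV y) :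
    c * y * c⁻¹ = y := by
  rcases B.inV_cases hy with rfl | rfl | rfl | rfl
  · group
  · exact hz
  · exact hs
  · rw [show c * (z * B.s) * c⁻¹ = (c * z * c⁻¹) * (c * B.s * c⁻¹) by group, hz, hs]

theorem Base.A_comm_V {a : G} (ha : a ∈ B.A) {y : G} (hy : B.InV y) : a * y = y * a :=
  mul_inv_eq_iff_eq_mul.1 (B.fix_V (by rw [(B.A_fix ha).1, mul_inv_cancel_right])
    (by rw [(B.A_fix ha).2, mul_inv_cancel_right]) hy)

theorem Base.P_comm_V {b : G} (hb : b ∈ B.P) {y : G} (hy : B.InV y) : b * y = y * b :=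
  mul_inv_eq_iff_eq_mul.1 (B.fix_V (by rw [(B.P_fix hb).1, mul_inv_cancel_right])
    (by rw [(B.P_fix hb).2, mul_inv_cancel_right]) hy)

theorem Base.cm_mul {b a a' : G} (hb : b ∈ B.P) (ha : a ∈ B.A) (ha' : a' ∈ B.A) :
    cm b (a * a') = cm b a * cm b a' := by
  have h1 := B.A_comm_V ha (B.cm_mem hb ha')
  calc cm b (a * a') = cm b a * (a * cm b a' * a⁻¹) := by simp only [cm]; group
    _ = cm b a * cm b a' := by rw [h1, mul_inv_cancel_right]

theorem Base.σ_cm {b a : G} (hb : b ∈ B.P) (ha : a ∈ B.A) :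
    B.σ (cm b a) = bf (D.π a) (B.wv b) := by
  have hmem : b * a * b⁻¹ ∈ D.Q := D.pre.conj_mem (B.P_fix hb).1 ha.1
  obtain ⟨hadm, hu⟩ := B.act_P hb
  rw [Base.σ, cm, D.π_mul _ hmem _ (inv_mem ha.1), π_inv D ha.1,
    show D.π (b * a * b⁻¹) = _ from D.act_π ⟨b, hb.2⟩ a ha.1, hu]
  simp only [uMap, (B.mem_A.1 ha).2, zero_smul, add_zero]
  rw [add_comm (D.π a), add_assoc, add_self, add_zero, bf_smul_left, b_ef, mul_one]

theorem Base.ζ_cm {b a : G} (hb : b ∈ B.P) (ha : a ∈ B.A) :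
    B.ζ (cm b a) = bf (D.π (B.g⁻¹ * b * B.g)) (B.wv (B.g⁻¹ * a * B.g)) := by
  have hp : B.g⁻¹ * b * B.g ∈ B.A := B.mem_P_iff.1 hb
  have hb' : B.g⁻¹ * a * B.g ∈ B.P := by
    refine ⟨(mem_conjQ D).2 ?_, mem_centralizer_singleton_iff.2 ?_⟩
    · have hgg : B.g * B.g * z = z * (B.g * B.g) := by
        have : B.g * (B.g * z * B.g⁻¹) * B.g⁻¹ = z := by rw [B.gz, B.gs]
        calc B.g * B.g * z = B.g * (B.g * z * B.g⁻¹) * B.g⁻¹ * (B.g * B.g) := by group
          _ = z * (B.g * B.g) := by rw [this]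
      rw [show B.g⁻¹ * (B.g⁻¹ * a * B.g) * B.g = (B.g * B.g)⁻¹ * a * (B.g * B.g)⁻¹⁻¹ by
        simp only [mul_inv_rev, inv_inv, mul_assoc]]
      exact D.pre.conj_mem (show Commute (B.g * B.g)⁻¹ z from
        (show Commute (B.g * B.g) z from hgg).inv_left).eq ha.1
    · calc B.g⁻¹ * a * B.g * z = B.g⁻¹ * a * B.g * (B.g⁻¹ * B.s * B.g) := by rw [B.g_inv_s]
        _ = B.g⁻¹ * (a * B.s) * B.g := by group
        _ = B.g⁻¹ * (B.s * a) * B.g := by rw [(B.A_fix ha).2]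
        _ = B.g⁻¹ * B.s * B.g * (B.g⁻¹ * a * B.g) := by group
        _ = z * (B.g⁻¹ * a * B.g) := by rw [B.g_inv_s]
  set p := B.g⁻¹ * b * B.g
  set b' := B.g⁻¹ * a * B.g
  have e : B.g⁻¹ * cm b a * B.g = (cm b' p)⁻¹ := by simp only [p, b', cm]; group
  rw [Base.ζ, e, π_inv D (B.cm_mem hb' hp).1]
  exact B.σ_cm hb' hp

theorem Base.cm_congr {b b' a : G} (hb : b ∈ B.P) (hb' : b' ∈ B.P) (ha : a ∈ B.A)
    (h : B.wv b = B.wv b') : cm b a = cm b' a := by
  have hQ : b'⁻¹ * b ∈ D.Q := by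
    refine (D.act_eq_one (⟨b', hb'.2⟩⁻¹ * ⟨b, hb.2⟩)).1 ?_
    rw [map_mul, map_inv, inv_mul_eq_one]
    exact Subtype.ext (LinearEquiv.ext fun m => by rw [(B.act_P hb).2, (B.act_P hb').2, h])
  have hV := B.meet hQ (mul_mem (inv_mem hb'.1) hb.1)
  set v := b'⁻¹ * b with hv
  have hbv : b = b' * v := by rw [hv, mul_inv_cancel_left]
  calc cm b a = b' * (v * a * v⁻¹) * b'⁻¹ * a⁻¹ := by rw [hbv]; simp only [cm]; group
    _ = cm b' a := by rw [← B.A_comm_V ha hV, mul_inv_cancel_right]; rfl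

theorem Base.red_wv_conj {b c : G} (hb : b ∈ B.P) (hz : c * z * c⁻¹ = z) (hs : c * B.s * c⁻¹ = B.s) :
    c * b * c⁻¹ ∈ B.P ∧ ∀ hc : c ∈ centralizer ({z} : Set G),
      red (B.wv (c * b * c⁻¹)) = red ((D.act ⟨c, hc⟩).1 (B.wv b)) := by
  have hmem : c * b * c⁻¹ ∈ B.P := ⟨B.conj_mem_g hs hb.1, mem_centralizer_singleton_iff.2 (by
    calc c * b * c⁻¹ * z = c * b * c⁻¹ * (c * z * c⁻¹) := by rw [hz]
      _ = c * (b * z) * c⁻¹ := by group
      _ = c * (z * b) * c⁻¹ := by rw [(B.P_fix hb).1]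
      _ = c * z * c⁻¹ * (c * b * c⁻¹) := by group
      _ = z * (c * b * c⁻¹) := by rw [hz])⟩
  refine ⟨hmem, fun hc => ?_⟩
  obtain ⟨hadm, hu⟩ := B.act_P hb
  obtain ⟨hadm', hu'⟩ := B.act_P hmem
  set h := D.act ⟨c, hc⟩ with hh
  have hhe : h.1 e0 = e0 := by rw [hh, ← B.πs, ← D.act_π _ _ B.sQ, hs]
  have hmul : D.act ⟨c * b * c⁻¹, hmem.2⟩ = h * D.act ⟨b, hb.2⟩ * h⁻¹ := by
    rw [show (⟨c * b * c⁻¹, hmem.2⟩ : centralizer ({z} : Set G)) = ⟨c, hc⟩ * ⟨b, hb.2⟩ * ⟨c, hc⟩⁻¹ from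
      rfl, map_mul, map_mul, map_inv]
  have hbhf : bf (h.1 f0) e0 = 1 := by
    conv_lhs => rw [← hhe, bf_oGroup, b_fe]
  have e1 : (D.act ⟨c * b * c⁻¹, hmem.2⟩).1 (h.1 f0) = h.1 ((D.act ⟨b, hb.2⟩).1 f0) := by
    rw [hmul]
    show h.1 ((D.act ⟨b, hb.2⟩).1 ((h⁻¹ * h).1 f0)) = _
    rw [inv_mul_cancel]; rfl
  rw [hu', hu, uMap, uMap, hbhf, b_fe, map_add, map_add, map_smul, hhe, one_smul, one_smul] at e1
  have e2 := congrArg red e1
  simp only [red_add] at e2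
  have hre : ∀ t : ZMod 2, red (t • e0) = 0 := fun t => by
    rcases zmod2_cases t with e | e <;> rw [e]
    · rw [zero_smul]; decide +kernel
    · rw [one_smul]; exact red_e0
  simp only [hre, add_zero, one_smul] at e2
  exact add_left_cancel e2

theorem Base.ζ_cm_eq {b : G} (hb : b ∈ B.P) :
    ∀ a ∈ B.A, B.ζ (cm b a) = bf (D.π a) (B.wv b) := by
  obtain ⟨hadm, -⟩ := B.act_P hb
  choose q hq hqπ using D.π_surj
  have hqA : ∀ {m}, bf m e0 = 0 → q m ∈ B.A := fun {m} hm => B.mem_A.2 ⟨hq m, by rw [hqπ]; exact hm⟩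
  let F : M8 → ZMod 2 := fun m => B.ζ (cm b (q m))
  have Fπ : ∀ a ∈ B.A, B.ζ (cm b a) = F (D.π a) := by
    intro a ha
    rcases eq_of_π D (hq (D.π a)) ha.1 (hqπ _) with e | e
    · exact congrArg (fun t => B.ζ (cm b t)) e
    · have hzA : z ∈ B.A := B.mem_A.2 ⟨D.pre.gen.mem, by rw [π_z, bf_zero_left]⟩
      have hz1 : cm b z = 1 := by rw [cm, (B.P_fix hb).1]; group
      have hA := hqA (m := D.π a) (B.mem_A.1 ha).2
      conv_lhs => rw [e, B.cm_mul hb hA hzA, hz1, mul_one]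
  have Fadd : ∀ {m n}, bf m e0 = 0 → bf n e0 = 0 → F (m + n) = F m + F n := by
    intro m n hm hn
    have h1 := Fπ _ (mul_mem (hqA hm) (hqA hn))
    rw [D.π_mul _ (hq m) _ (hq n), hqπ, hqπ, B.cm_mul hb (hqA hm) (hqA hn),
      (B.bits_add (B.cm_mem hb (hqA hm)) (B.cm_mem hb (hqA hn))).2] at h1
    exact h1.symm
  have F0 : F 0 = 0 := by
    have h := Fadd (m := 0) (n := 0) (bf_zero_left _) (bf_zero_left _)
    rw [add_zero] at h
    exact left_eq_add.1 h
  have Fe : F e0 = 0 := by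
    have hsA : B.s ∈ B.A := B.mem_A.2 ⟨B.sQ, by rw [B.πs]; exact bf_self _⟩
    have h := Fπ _ hsA
    rw [B.πs, cm, (B.P_fix hb).2] at h
    rw [← h, show B.s * b * b⁻¹ * B.s⁻¹ = 1 by group]
    exact B.bits.2.2.2.2.2
  have Fred : ∀ {m}, bf m e0 = 0 → F (red m) = F m := by
    intro m hm
    have hr := (wList_perp _ (red_mem m hm)).1
    rcases red_cases m with e | e
    · exact congrArg F e.symm
    · conv_rhs => rw [e, Fadd hr (bf_self e0), Fe, add_zero]
  -- the functional as a vector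
  obtain ⟨u₀, hu₀⟩ := exists_rep (fun m => F (m + bf m e0 • f0)) fun m n => by
    have hp : ∀ k : M8, bf (k + bf k e0 • f0) e0 = 0 := fun k => by
      rw [bf_add_left, bf_smul_left, b_fe, mul_one, CharTwo.add_self_eq_zero]
    show F _ = F _ + F _
    rw [← Fadd (hp m) (hp n)]
    congr 1
    rw [bf_add_left, add_smul]
    abel
  have Fu₀ : ∀ m, bf m e0 = 0 → F m = bf m u₀ := fun m hm => by
    rw [← hu₀ m, hm, zero_smul, add_zero]
  have hue : bf u₀ e0 = 0 := by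
    rw [bf_comm, ← hu₀ e0, bf_self, zero_smul, add_zero, Fe]
  set u : M8 := u₀ with hu
  have huW : red u ∈ wList := red_mem u hue
  set w := red (B.wv b) with hw
  have hwW : w ∈ wList := red_mem _ hadm.1
  have hFr : ∀ m, bf m e0 = 0 → F m = bf m (red u) := fun m hm => by
    rw [bf_red_right hm, Fu₀ m hm]
  have hwm : ∀ m, bf m e0 = 0 → bf m (B.wv b) = bf m w := fun m hm => (bf_red_right hm).symm
  suffices huw : red u = w by
    intro a ha
    rw [Fπ a ha, hFr _ (B.mem_A.1 ha).2, huw, ← hwm _ (B.mem_A.1 ha).2]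
  by_cases hw0 : w = 0
  · -- the element lies in the four-group
    rw [hw0]
    by_contra hu0
    obtain ⟨v, hv, hbv⟩ := exists_dual _ huW hu0
    have hwv : B.wv b = 0 := adm_eq hadm ⟨bf_zero_left _, by rw [bf_zero_right]; decide +kernel⟩ (by
      rw [red_zero]; exact hw0)
    have hQ : b ∈ D.Q := (D.act_eq_one ⟨b, hb.2⟩).1 (Subtype.ext (LinearEquiv.ext fun m => by
      rw [(B.act_P hb).2, hwv]
      simp [uMap, bf_zero_right]))
    have hV := B.meet hQ hb.1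
    have hvA := hqA (m := v) (wList_perp v hv).1
    have h := hFr v (wList_perp v hv).1
    rw [bf_comm v, hbv] at h
    simp only [F, cm] at h
    rw [← B.A_comm_V hvA hV, mul_inv_cancel_right, mul_inv_cancel, B.bits.2.2.2.2.2] at h
    exact zero_ne_one h
  -- the functional does not vanish
  have hu0 : red u ≠ 0 := by
    intro hu0
    have hp : B.g⁻¹ * b * B.g ∈ B.A := B.mem_P_iff.1 hb
    have hpW := red_mem _ (B.mem_A.1 hp).2
    by_cases hp0 : red (D.π (B.g⁻¹ * b * B.g)) = 0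
    · refine hw0 ?_
      have hV : B.InV (B.g⁻¹ * b * B.g) := ⟨hp.1, by
        rcases red_cases (D.π (B.g⁻¹ * b * B.g)) with e | e <;> rw [hp0] at e
        exacts [Or.inl e, Or.inr (e.trans (zero_add _))]⟩
      have hbQ : b ∈ D.Q := by
        have : b = B.g * (B.g⁻¹ * b * B.g) * B.g⁻¹ := by group
        rw [this]
        rcases B.inV_cases hV with e | e | e | e <;> rw [e]
        · rw [mul_one, mul_inv_cancel]; exact one_mem _
        · rw [B.gz]; exact B.sQ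
        · rw [B.gs]; exact D.pre.gen.mem
        · rw [show B.g * (z * B.s) * B.g⁻¹ = (B.g * z * B.g⁻¹) * (B.g * B.s * B.g⁻¹) by group, B.gz, B.gs]
          exact mul_mem B.sQ D.pre.gen.mem
      have h1 := (D.act_eq_one ⟨b, hb.2⟩).2 hbQ
      rw [hw, B.wv_eq hb.2, h1]
      show red (f0 + f0) = 0
      rw [add_self]; decide +kernel
    · obtain ⟨v, hv, hbv⟩ := exists_dual _ hpW hp0
      obtain ⟨hv', hvr⟩ := adm_rep hv
      obtain ⟨b', hb', hwb'⟩ := B.wv_surj hv'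
      have haA : B.g * b' * B.g⁻¹ ∈ B.A := by
        have hgg : Commute (B.g * B.g) z := by
          have : B.g * (B.g * z * B.g⁻¹) * B.g⁻¹ = z := by rw [B.gz, B.gs]
          show B.g * B.g * z = z * (B.g * B.g)
          calc B.g * B.g * z = B.g * (B.g * z * B.g⁻¹) * B.g⁻¹ * (B.g * B.g) := by group
            _ = z * (B.g * B.g) := by rw [this]
        refine ⟨?_, mem_centralizer_singleton_iff.2 ?_⟩
        · rw [show B.g * b' * B.g⁻¹ = (B.g * B.g) * (B.g⁻¹ * b' * B.g) * (B.g * B.g)⁻¹ by group]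
          exact D.pre.conj_mem hgg.eq ((mem_conjQ D).1 hb'.1)
        · rw [← B.gz]
          calc B.g * b' * B.g⁻¹ * (B.g * z * B.g⁻¹) = B.g * (b' * z) * B.g⁻¹ := by group
            _ = B.g * (z * b') * B.g⁻¹ := by rw [(B.P_fix hb').1]
            _ = B.g * z * B.g⁻¹ * (B.g * b' * B.g⁻¹) := by group
      have h := B.ζ_cm hb haA
      rw [show B.g⁻¹ * (B.g * b' * B.g⁻¹) * B.g = b' by group, hwb', Fπ _ haA, hFr _ (B.mem_A.1 haA).2,
        hu0, bf_zero_right, ← bf_red (B.mem_A.1 hp).2 hv'.1, hvr, hbv] at h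
      exact zero_ne_one h
  by_contra hne
  obtain ⟨e, he, a, ha, hqe, hea, hfw, hmv⟩ := functional_moved hwW huW hu0 hne
  have hfe := sm_e0 he ha
  obtain ⟨c, hc, hcs⟩ := B.lift_fix (sm_mem hqe hea) (by rw [siegel_sm hqe hea]; exact hfe)
  have hcz : (c : G) * z * (c : G)⁻¹ = z := by
    rw [mem_centralizer_singleton_iff.1 c.2, mul_inv_cancel_right]
  obtain ⟨hbc, hwc⟩ := B.red_wv_conj hb hcz hcs
  have hwbc : B.wv ((c : G) * b * (c : G)⁻¹) = B.wv b := by
    refine adm_eq (B.act_P hbc).1 hadm ?_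
    rw [hwc c.2, hc, siegel_sm hqe hea]
    rcases red_cases (B.wv b) with e' | e'
    · rw [e', ← hw, hfw]
    · conv_lhs => rw [e', ← siegel_sm hqe hea, map_add, siegel_sm hqe hea, siegel_sm hqe hea, hfe, ← hw, hfw,
        red_add, red_e0, add_zero, red_wList hwW]
  have hinv : ∀ m, bf m e0 = 0 → bf (sm e a m) (red u) = bf m (red u) := by
    intro m hm
    have hmA := hqA hm
    have hmem : (c : G) * q m * (c : G)⁻¹ ∈ B.A := by
      refine B.mem_A.2 ⟨D.pre.conj_mem (mem_centralizer_singleton_iff.1 c.2) (hq m), ?_⟩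
      rw [D.act_π c _ (hq m), hqπ]
      conv_lhs => rw [← hfe, ← siegel_sm hqe hea, ← hc, bf_oGroup, hm]
    have h1 := Fπ _ hmem
    rw [← B.cm_congr hbc hb hmem hwbc,
      show cm ((c : G) * b * (c : G)⁻¹) ((c : G) * q m * (c : G)⁻¹) = (c : G) * cm b (q m) * (c : G)⁻¹ by
        simp only [cm]; group,
      B.fix_V hcz hcs (B.cm_mem hb hmA), D.act_π c _ (hq m), hc, siegel_sm hqe hea, hqπ] at h1
    rw [← hFr m hm, ← hFr]
    · exact h1.symm
    · conv_lhs => rw [← hfe, ← siegel_sm hqe hea, ← siegel_sm hqe hea, bf_oGroup, hm]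
  have huu := (wList_perp _ huW).1
  have hmove : ∀ v, bf v e0 = 0 → bf v (sm e a (red u) + red u) = 0 := by
    intro v hv
    obtain ⟨m, rfl⟩ : ∃ m, (siegel q8 e a).1 m = v := ⟨_, (siegel q8 e a).1.apply_symm_apply v⟩
    have hm : bf m e0 = 0 := by
      rw [← bf_oGroup (siegel q8 e a), siegel_sm hqe hea e0, hfe]; exact hv
    rw [bf_add_right, ← siegel_sm hqe hea (red u), bf_oGroup, siegel_sm hqe hea, hinv m hm]
    exact CharTwo.add_self_eq_zero _
  have hsW : bf (sm e a (red u) + red u) e0 = 0 := by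
    rw [bf_add_left, huu, add_zero]
    conv_lhs => rw [← hfe, ← siegel_sm hqe hea, ← siegel_sm hqe hea, bf_oGroup, huu]
  set d := sm e a (red u) + red u with hd
  by_cases hd0 : red d = 0
  · refine hmv ?_
    have hdd : d = 0 := by
      rcases red_cases d with e' | e' <;> rw [hd0] at e'
      · exact e'
      · exfalso
        rw [zero_add] at e'
        obtain ⟨he1, he2⟩ := wList_perp e he
        obtain ⟨ha1, ha2⟩ := wList_perp a ha
        have h2 : bf d f0 = 0 := by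
          rw [hd, bf_add_left, (wList_perp _ huW).2, add_zero, sm, bf_add_left, bf_add_left,
            bf_smul_left, bf_smul_left, (wList_perp _ huW).2, ha2, he2, mul_zero, mul_zero, add_zero, add_zero]
        rw [e', b_ef] at h2
        exact one_ne_zero h2
    exact add_right_cancel (hdd.trans (add_self (red u)).symm)
  · obtain ⟨v, hv, hbv⟩ := exists_dual _ (red_mem d hsW) hd0
    have h := hmove v (wList_perp v hv).1
    rw [bf_comm] at hbv
    rcases red_cases d with e' | e'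
    · rw [e', hbv] at h; exact one_ne_zero h
    · rw [e', bf_add_right, (wList_perp v hv).1, add_zero, hbv] at h; exact one_ne_zero h

/-- The commutator formula. -/
theorem Base.cm_eq {b a : G} (hb : b ∈ B.P) (ha : a ∈ B.A) :
    cm b a = if bf (D.π a) (B.wv b) = 0 then 1 else z * B.s :=
  B.eq_of_bits (B.cm_mem hb ha) _ (B.σ_cm hb ha) (B.ζ_cm_eq hb a ha)

end CfsgLib.Co1Invol
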