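import Cfsg.Agent.Co1Invol.Pair

/-!
Squares and commutators in the product of the two radical parts.
-/

set_option autoImplicit false
set_option linter.style.haveILetI false

namespace CfsgLib.Co1Invol

open CfsgLib CfsgLib.Quad Subgroup

variable {G : Type*} [Group G] [Finite G] {z : G} {D : Dat z} (B : Base D)

theorem exists_move_e0 {e : M8} (he : e ≠ 0) (hq : qf e = 0) :
    ∃ h ∈ commutator (oGroup q8), h.1 e = e0 := by
  haveI := isPretransitive_spt (Q := q8) nondeg8 (by simp)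
  obtain ⟨h, hh⟩ := MulAction.exists_smul_eq ↥(commutator (oGroup q8))
    (spt e he ((q8_eq _).trans hq)) (spt e0 e0_ne ((q8_eq _).trans q_e0))
  rw [smul_spt, spt_eq_iff] at hh
  obtain ⟨a, ha⟩ := hh
  rcases zmod2_cases a with rfl | rfl
  · rw [zero_smul] at ha
    exact absurd ha.symm (iso_ne_zero _ he)
  rw [one_smul] at ha
  exact ⟨h.1, h.2, ha.symm⟩

theorem Base.sq_P {b : G} (hb : b ∈ B.P) :
    B.InV (b * b) ∧ B.σ (b * b) = qf (B.wv b) ∧ B.ζ (b * b) = 0 := by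
  obtain ⟨hadm, hu⟩ := B.act_P hb
  have hp : B.g⁻¹ * b * B.g ∈ D.Q := (mem_conjQ D).1 hb.1
  have hbb : b * b = 1 ∨ b * b = B.s := by
    rcases D.pre.gen.square _ hp with e | e
    · left
      calc b * b = B.g * (B.g⁻¹ * b * B.g * (B.g⁻¹ * b * B.g)) * B.g⁻¹ := by group
        _ = 1 := by rw [e]; group
    · right
      calc b * b = B.g * (B.g⁻¹ * b * B.g * (B.g⁻¹ * b * B.g)) * B.g⁻¹ := by group
        _ = B.s := by rw [e, B.gz]
  obtain ⟨a0, ha0, ha0π⟩ := D.π_surj f0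
  have haz : a0 * z * a0⁻¹ = z := by rw [(D.pre.gen.comm_z a0 ha0).eq, mul_inv_cancel_right]
  have has : a0 * B.s * a0⁻¹ = B.s * z := by
    have hmem : a0 * B.s * a0⁻¹ ∈ D.Q := mul_mem (mul_mem ha0 B.sQ) (inv_mem ha0)
    rcases eq_of_π D B.sQ hmem (by
      rw [D.π_mul _ (mul_mem ha0 B.sQ) _ (inv_mem ha0), D.π_mul _ ha0 _ B.sQ, π_inv D ha0,
        add_comm (D.π a0), add_assoc, add_self, add_zero]) with e | e
    · exact absurd ((D.comm_iff a0 ha0 _ B.sQ).1 (mul_inv_eq_iff_eq_mul.1 e))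
        (by rw [ha0π, B.πs, b_fe]; exact one_ne_zero)
    · exact e
  obtain ⟨w', hw'⟩ : ∃ w', w' = a0 * b * a0⁻¹ * b⁻¹ := ⟨_, rfl⟩
  have hconj : b * a0⁻¹ * b⁻¹ ∈ D.Q := D.pre.conj_mem (B.P_fix hb).1 (inv_mem ha0)
  have hw'e : w' = a0 * (b * a0⁻¹ * b⁻¹) := by rw [hw']; group
  have hw'π : D.π w' = B.wv b := by
    rw [hw'e, D.π_mul _ ha0 _ hconj,
      show D.π (b * a0⁻¹ * b⁻¹) = _ from D.act_π ⟨b, hb.2⟩ a0⁻¹ (inv_mem ha0), π_inv D ha0, ha0π,
      B.wv_eq hb.2, add_comm]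
  have hw'A : w' ∈ B.A := B.mem_A.2 ⟨hw'e ▸ mul_mem ha0 hconj, by rw [hw'π]; exact hadm.1⟩
  have hcm : cm b w' = 1 := by rw [B.cm_eq hb hw'A, hw'π, if_pos (bf_self _)]
  have hcomm : b * w' = w' * b := mul_inv_eq_iff_eq_mul.1 (mul_inv_eq_one.1 hcm)
  have hkey : a0 * (b * b) * a0⁻¹ = w' * w' * (b * b) := by
    calc a0 * (b * b) * a0⁻¹ = w' * b * (w' * b) := by rw [hw']; group
      _ = w' * (b * w') * b := by group
      _ = w' * (w' * b) * b := by rw [hcomm]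
      _ = w' * w' * (b * b) := by group
  obtain ⟨a1, a2, a3, a4, a5, a6⟩ := B.bits
  rcases hbb with e | e
  · rw [e]
    refine ⟨(B.inV_of (Or.inl rfl)).1, ?_, a6⟩
    rw [e, mul_one, mul_one, mul_inv_cancel] at hkey
    have h := (D.sq_iff w' hw'A.1).1 hkey.symm
    rw [hw'π] at h
    rw [a5, h]
  · rw [e]
    refine ⟨(B.inV_of (Or.inr (Or.inr (Or.inl rfl)))).1, ?_, a4⟩
    rw [e, has, (D.pre.gen.comm_z _ B.sQ).eq] at hkey
    have h := (mul_right_cancel hkey).symm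
    have hne : qf (B.wv b) ≠ 0 := fun h0 => D.pre.gen.ne_one (h.symm.trans
      ((D.sq_iff w' hw'A.1).2 (by rw [hw'π]; exact h0)))
    rw [a2, (zmod2_cases _).resolve_left hne]

theorem Base.sq_A {a : G} (ha : a ∈ B.A) :
    B.InV (a * a) ∧ B.σ (a * a) = 0 ∧ B.ζ (a * a) = qf (D.π a) := by
  obtain ⟨a1, a2, a3, a4, a5, a6⟩ := B.bits
  rcases D.pre.gen.square a ha.1 with e | e <;> rw [e]
  · exact ⟨(B.inV_of (Or.inl rfl)).1, a5, by rw [a6, (D.sq_iff a ha.1).1 e]⟩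
  · refine ⟨(B.inV_of (Or.inr (Or.inl rfl))).1, a1, ?_⟩
    have hne : qf (D.π a) ≠ 0 := fun h => D.pre.gen.ne_one (e.symm.trans ((D.sq_iff a ha.1).2 h))
    rw [a3, (zmod2_cases _).resolve_left hne]

theorem Base.prod_sq {b a : G} (hb : b ∈ B.P) (ha : a ∈ B.A) :
    b * a * (b * a) = cm b a * (b * b) * (a * a) ∧
      (b * a * (b * a) = 1 ↔ qf (B.wv b) = bf (D.π a) (B.wv b) ∧ qf (D.π a) = bf (D.π a) (B.wv b)) := by
  have hc := B.A_comm_V ha (B.sq_P hb).1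
  have he : b * a * (b * a) = cm b a * (b * b) * (a * a) := by
    calc b * a * (b * a) = cm b a * (a * (b * b)) * a := by simp only [cm]; group
      _ = cm b a * (b * b * a) * a := by rw [hc]
      _ = cm b a * (b * b) * (a * a) := by group
  refine ⟨he, ?_⟩
  obtain ⟨hV1, hs1, hz1⟩ := B.sq_P hb
  obtain ⟨hV2, hs2, hz2⟩ := B.sq_A ha
  have hV0 := B.cm_mem hb ha
  have hV01 : B.InV (cm b a * (b * b)) := B.meet (mul_mem hV0.1 hV1.1) (mul_mem
    (B.inV_of (B.inV_cases hV0)).2 (B.inV_of (B.inV_cases hV1)).2)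
  have hV012 : B.InV (cm b a * (b * b) * (a * a)) := B.meet (mul_mem hV01.1 hV2.1) (mul_mem
    (B.inV_of (B.inV_cases hV01)).2 (B.inV_of (B.inV_cases hV2)).2)
  have hσ : B.σ (cm b a * (b * b) * (a * a)) = bf (D.π a) (B.wv b) + qf (B.wv b) := by
    rw [(B.bits_add hV01 hV2).1, (B.bits_add hV0 hV1).1, B.σ_cm hb ha, hs1, hs2, add_zero]
  have hζ : B.ζ (cm b a * (b * b) * (a * a)) = bf (D.π a) (B.wv b) + qf (D.π a) := by
    rw [(B.bits_add hV01 hV2).2, (B.bits_add hV0 hV1).2, B.ζ_cm_eq hb a ha, hz1, hz2, add_zero]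
  rw [he]
  constructor
  · intro h
    rw [h, B.bits.2.2.2.2.1] at hσ
    rw [h, B.bits.2.2.2.2.2] at hζ
    exact ⟨(CharTwo.add_eq_zero.1 hσ.symm).symm, (CharTwo.add_eq_zero.1 hζ.symm).symm⟩
  · rintro ⟨h1, h2⟩
    rw [h1] at hσ
    rw [h2] at hζ
    rw [CharTwo.add_self_eq_zero] at hσ hζ
    rw [B.eq_of_bits hV012 0 hσ hζ, if_pos rfl]

theorem Base.conj_k {b a : G} (hb : b ∈ B.P) (ha : a ∈ B.A) {k : G} (hk : k ∈ B.A) :
    k * (b * a) * k⁻¹ = (if bf (D.π k) (B.wv b) = 0 then 1 else z * B.s) *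
      (if bf (D.π k) (D.π a) = 0 then 1 else z) * (b * a) := by
  have hcm := B.cm_eq hb hk
  have hV := B.cm_mem hb hk
  have hcc : cm b k * cm b k = 1 := by
    rcases B.inV_cases hV with e | e | e | e <;> rw [e]
    · exact one_mul 1
    · exact D.pre.gen.sq
    · exact B.s_sq
    · rw [mul_assoc, ← mul_assoc B.s z, (D.pre.gen.comm_z _ B.sQ).eq, mul_assoc, B.s_sq, mul_one, D.pre.gen.sq]
  have h1 : k * b * k⁻¹ = cm b k * b := by
    calc k * b * k⁻¹ = (cm b k)⁻¹ * b := by simp only [cm]; group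
      _ = cm b k * b := by rw [inv_eq_of_mul_eq_one_right hcc]
  have h2 : k * a * k⁻¹ = (if bf (D.π k) (D.π a) = 0 then 1 else z) * a := by
    split_ifs with h
    · rw [one_mul, (D.comm_iff k hk.1 a ha.1).2 h, mul_inv_cancel_right]
    · rcases Extra2.conj_eq D.pre.gen hk.1 ha.1 with e | e
      · exact absurd ((D.comm_iff k hk.1 a ha.1).1 (mul_inv_eq_iff_eq_mul.1 e)) h
      · exact e
  have hbz : ∀ t : G, t = 1 ∨ t = z → b * t = t * b := by
    rintro t (rfl | rfl)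
    · simp
    · exact (B.P_fix hb).1
  calc k * (b * a) * k⁻¹ = k * b * k⁻¹ * (k * a * k⁻¹) := by group
    _ = cm b k * (b * (if bf (D.π k) (D.π a) = 0 then 1 else z)) * a := by rw [h1, h2]; group
    _ = cm b k * ((if bf (D.π k) (D.π a) = 0 then 1 else z) * b) * a := by
        rw [hbz _ (by split_ifs; exacts [Or.inl rfl, Or.inr rfl])]
    _ = _ := by rw [hcm]; group

omit [Finite G] in
theorem Base.gg_z : B.g * B.g * z = z * (B.g * B.g) := by
  have : B.g * (B.g * z * B.g⁻¹) * B.g⁻¹ = z := by rw [B.gz, B.gs]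
  calc B.g * B.g * z = B.g * (B.g * z * B.g⁻¹) * B.g⁻¹ * (B.g * B.g) := by group
    _ = z * (B.g * B.g) := by rw [this]

theorem Base.conj_g_P {a : G} (ha : a ∈ B.A) : B.g⁻¹ * a * B.g ∈ B.P := by
  refine ⟨(mem_conjQ D).2 ?_, mem_centralizer_singleton_iff.2 ?_⟩
  · rw [show B.g⁻¹ * (B.g⁻¹ * a * B.g) * B.g = (B.g * B.g)⁻¹ * a * (B.g * B.g)⁻¹⁻¹ by
      simp only [mul_inv_rev, inv_inv, mul_assoc]]
    exact D.pre.conj_mem (show Commute (B.g * B.g)⁻¹ z from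
      (show Commute (B.g * B.g) z from B.gg_z).inv_left).eq ha.1
  · calc B.g⁻¹ * a * B.g * z = B.g⁻¹ * a * B.g * (B.g⁻¹ * B.s * B.g) := by rw [B.g_inv_s]
      _ = B.g⁻¹ * (a * B.s) * B.g := by group
      _ = B.g⁻¹ * (B.s * a) * B.g := by rw [(B.A_fix ha).2]
      _ = B.g⁻¹ * B.s * B.g * (B.g⁻¹ * a * B.g) := by group
      _ = z * (B.g⁻¹ * a * B.g) := by rw [B.g_inv_s]

theorem Base.conj_g_V {y : G} (h : B.InV y) : B.InV (B.g⁻¹ * y * B.g) := by
  refine (B.inV_of ?_).1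
  rcases B.inV_cases h with rfl | rfl | rfl | rfl
  · exact Or.inl (by group)
  · exact Or.inr (Or.inr (Or.inl B.g_inv_z))
  · exact Or.inr (Or.inl B.g_inv_s)
  · refine Or.inr (Or.inr (Or.inr ?_))
    rw [show B.g⁻¹ * (z * B.s) * B.g = B.g⁻¹ * z * B.g * (B.g⁻¹ * B.s * B.g) by group, B.g_inv_z,
      B.g_inv_s, (D.pre.gen.comm_z _ B.sQ).eq]

end CfsgLib.Co1Invol
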