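import Cfsg.Agent.Co1Invol.Axial

/-!
The action of the standard long root element on the radical of the frame.
-/

set_option autoImplicit false
set_option linter.style.haveILetI false

namespace CfsgLib.Co1Invol

open CfsgLib CfsgLib.Quad Subgroup

variable {G : Type*} [Group G] [Finite G] {z : G} {D : Dat z} (B : Base D)

theorem perp12_facts : ∀ m ∈ perp12, m ∈ wList ∧ bf m x1 = 0 ∧ bf m x2 = 0 := by
  intro m hm
  simpa [perp12] using hm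

theorem mem_perp12 {m : M8} (hm : m ∈ wList) (h1 : bf m x1 = 0) (h2 : bf m x2 = 0) : m ∈ perp12 := by
  simp [perp12, hm, h1, h2]

theorem fixed_perp12 : ∀ m ∈ wList, sm x1 x2 m = m → m ∈ perp12 := by decide +kernel

theorem perp12_add : ∀ w ∈ perp12, ∀ v ∈ perp12, w + v ∈ perp12 ∧ bar (w + v) = bar w + bar v := by
  intro w hw v hv
  obtain ⟨w0, w1, w2'⟩ := perp12_facts w hw
  obtain ⟨v0, v1, v2'⟩ := perp12_facts v hv
  exact ⟨mem_perp12 (wList_add w0 v0) (by rw [bf_add_left, w1, v1, add_zero])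
    (by rw [bf_add_left, w2', v2', add_zero]), rfl⟩

/-- The standard long root element. -/
noncomputable def root : O8 := siegel q8 x1 x2

theorem root_apply (m : M8) : root.1 m = sm x1 x2 m :=
  siegel_sm pair_facts.2.2.2.1 pair_facts.2.2.2.2.2.1 m

theorem root_lev : root ∈ lev :=
  siegel_mem_lev basis_mem.1 basis_mem.2.1 pair_facts.2.2.2.1 pair_facts.2.2.2.2.2.1

theorem siegel_x1_sq {a : M8} (ha : bf x1 a = 0) : siegel q8 x1 a * siegel q8 x1 a = 1 := by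
  rw [siegel_mul (by rw [q8_eq, pair_facts.2.2.2.1]) (by rw [polar_eq, ha]) (by rw [polar_eq, ha]), add_self,
    siegel_zero (by rw [q8_eq, pair_facts.2.2.2.1])]

theorem root_sq : root * root = 1 := siegel_x1_sq pair_facts.2.2.2.2.2.1

theorem Base.lev_lift_sq {h : O8} (h2 : h * h = 1) {n : G} (hn : n ∈ B.N) (hact' : hact D n = h)
    (t1 : B.τ * n = n * B.τ) (t2 : B.τ' * n = n * B.τ') : n * n = 1 :=
  B.lift_unique (one_mem _) (mul_mem hn hn)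
    (by rw [hact_Q (one_mem _), hact_mul (B.N_C hn) (B.N_C hn), hact', h2])
    (by rw [mul_one, one_mul]) (by rw [mul_one, one_mul])
    ((show Commute B.τ n from t1).mul_right t1).eq ((show Commute B.τ' n from t2).mul_right t2).eq

/-! ### The transpositions on pairs -/

theorem Base.inV_sq_eq {y : G} (h : B.InV y) : y⁻¹ = y := inv_eq_of_mul_eq_one_right (B.inV_sq h)

theorem Base.τ'_A {a : G} (ha : a ∈ B.A) : B.τ' * a * B.τ'⁻¹ * a⁻¹ ∈ B.P := by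
  obtain ⟨-, h2⟩ := B.N_τ' (B.A_N ha)
  have h := (B.red_wv_conj h2 (B.N_fix (B.A_N ha)).1 (B.N_fix (B.A_N ha)).2).1
  rwa [show a * (a⁻¹ * (B.τ' * a * B.τ'⁻¹)) * a⁻¹ = B.τ' * a * B.τ'⁻¹ * a⁻¹ by group] at h

theorem Base.τ'_V {y : G} (hy : B.InV y) : B.InV (B.τ' * y * B.τ'⁻¹) := by
  refine (B.inV_of ?_).1
  rcases B.inV_cases hy with rfl | rfl | rfl | rfl
  · exact Or.inl (by group)
  · exact Or.inr (Or.inr (Or.inr (B.τ'_z.trans (D.pre.gen.comm_z _ B.sQ).eq)))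
  · exact Or.inr (Or.inr (Or.inl B.τ'_s))
  · refine Or.inr (Or.inl ?_)
    rw [show B.τ' * (z * B.s) * B.τ'⁻¹ = B.τ' * z * B.τ'⁻¹ * (B.τ' * B.s * B.τ'⁻¹) by group, B.τ'_z, B.τ'_s,
      mul_assoc, ← (D.pre.gen.comm_z _ B.sQ).eq, ← mul_assoc, B.s_sq, one_mul]

theorem Base.wR_inv {n : G} (hn : n ∈ B.R) : B.wR n⁻¹ = B.wR n := by
  have h := B.wR_mul (inv_mem hn) hn.1
  rw [inv_mul_cancel, B.wR_Q (one_mem _)] at h
  exact eq_of_add_eq_zero h.symm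

/-- The commutator with the first transposition records the displacement. -/
theorem Base.τ_comm {n : G} (hn : n ∈ B.R) :
    red (D.π (n⁻¹ * (B.τ * n * B.τ⁻¹))) = B.wR n := by
  obtain ⟨h1, h2⟩ := π_conj (D := D) (inv_mem (B.N_C hn.1)) B.τ_Q
  rw [inv_inv] at h1 h2
  rw [show n⁻¹ * (B.τ * n * B.τ⁻¹) = n⁻¹ * B.τ * n * B.τ⁻¹ by group, D.π_mul _ h1 _ (inv_mem B.τ_Q), h2,
    π_inv D B.τ_Q, B.π_τ]
  exact B.wR_inv hn

/-- The commutator with the second transposition records the kernel part. -/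
theorem Base.τ'_wR {a : G} (ha : a ∈ B.A) : B.wR (B.τ' * a * B.τ'⁻¹ * a⁻¹) = red (D.π a) := by
  choose q hq hqπ using D.π_surj
  have hqA : ∀ {m}, m ∈ wList → q m ∈ B.A := fun {m} hm => B.mem_A.2 ⟨hq m, by rw [hqπ]; exact (wList_perp m hm).1⟩
  -- dependence on the class only
  have hcl : ∀ {a a' : G}, a ∈ B.A → a' ∈ B.A → red (D.π a) = red (D.π a') →
      B.wR (B.τ' * a * B.τ'⁻¹ * a⁻¹) = B.wR (B.τ' * a' * B.τ'⁻¹ * a'⁻¹) := by
    intro a a' ha ha' he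
    obtain ⟨ε, hε⟩ : ∃ ε, ε = a'⁻¹ * a := ⟨_, rfl⟩
    have hεA : ε ∈ B.A := hε ▸ mul_mem (inv_mem ha') ha
    have hεV : B.InV ε := B.inV_of_red hεA (by
      rw [hε, D.π_mul _ (inv_mem ha'.1) _ ha.1, π_inv D ha'.1, red_add, he, add_self])
    have hV' : B.τ' * ε * B.τ'⁻¹ * ε⁻¹ ∈ B.A := mul_mem (B.inV_A (B.τ'_V hεV)) (inv_mem hεA)
    obtain ⟨v, hv⟩ : ∃ v, v = B.τ' * ε * B.τ'⁻¹ * ε⁻¹ := ⟨_, rfl⟩
    rw [← hv] at hV'
    have e : B.τ' * a * B.τ'⁻¹ * a⁻¹ = B.τ' * a' * B.τ'⁻¹ * a'⁻¹ * (a' * v * a'⁻¹) := by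
      rw [hv, hε]; group
    have hm : a' * v * a'⁻¹ ∈ B.A := mul_mem (mul_mem ha' hV') (inv_mem ha')
    rw [e, B.wR_mul (B.P_R (B.τ'_A ha')) (B.A_N hm), B.wR_Q hm.1, add_zero]
  have hinj : ∀ {a : G}, a ∈ B.A → B.wR (B.τ' * a * B.τ'⁻¹ * a⁻¹) = 0 → red (D.π a) = 0 := by
    intro a ha h0
    have hV := B.inV_of_wR (B.τ'_A ha) h0
    have hy : B.g⁻¹ * a * B.g ∈ B.P := B.conj_g_P ha
    have hV2 : B.InV (B.τ * (B.g⁻¹ * a * B.g) * B.τ⁻¹ * (B.g⁻¹ * a * B.g)⁻¹) := by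
      have e : B.τ * (B.g⁻¹ * a * B.g) * B.τ⁻¹ * (B.g⁻¹ * a * B.g)⁻¹ =
          B.g⁻¹ * (B.τ' * a * B.τ'⁻¹ * a⁻¹) * B.g := by rw [Base.τ']; group
      rw [e]; exact B.conj_g_V hV
    obtain ⟨y, hy'⟩ : ∃ y, y = B.g⁻¹ * a * B.g := ⟨_, rfl⟩
    rw [← hy'] at hy hV2
    have h1 := B.τ_comm (B.P_R hy)
    rw [show y⁻¹ * (B.τ * y * B.τ⁻¹) = y⁻¹ * (B.τ * y * B.τ⁻¹ * y⁻¹) * y by group,
      show y⁻¹ * (B.τ * y * B.τ⁻¹ * y⁻¹) * y = B.τ * y * B.τ⁻¹ * y⁻¹ by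
        have h := B.P_comm_V (inv_mem hy) hV2
        rw [h, inv_mul_cancel_right], B.red_inV hV2] at h1
    have hyV := B.inV_of_wR hy h1.symm
    refine B.red_inV ?_
    rcases B.inV_cases hyV with e | e | e | e <;>
      rw [hy', mul_assoc, inv_mul_eq_iff_eq_mul, ← eq_mul_inv_iff_mul_eq] at e <;> rw [e]
    · rw [mul_one, mul_inv_cancel]; exact (B.inV_of (Or.inl rfl)).1
    · rw [B.gz]; exact (B.inV_of (Or.inr (Or.inr (Or.inl rfl)))).1
    · rw [B.gs]; exact (B.inV_of (Or.inr (Or.inl rfl))).1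
    · rw [show B.g * (z * B.s) * B.g⁻¹ = B.g * z * B.g⁻¹ * (B.g * B.s * B.g⁻¹) by group, B.gz, B.gs,
        (D.pre.gen.comm_z _ B.sQ).eq]
      exact (B.inV_of (Or.inr (Or.inr (Or.inr rfl)))).1
  have hae := (B.mem_A.1 ha).2
  have hvW := red_mem _ hae
  set v := red (D.π a) with hv
  have hu : B.wR (B.τ' * a * B.τ'⁻¹ * a⁻¹) ∈ wList := B.wR_wList (B.P_N (B.τ'_A ha))
  set u := B.wR (B.τ' * a * B.τ'⁻¹ * a⁻¹) with huu
  by_cases hv0 : v = 0
  · rw [hv0]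
    have h1 := hcl ha (one_mem B.A) (by rw [← hv, hv0, π_one, red_zero])
    rw [huu, h1, mul_one, mul_inv_cancel, inv_one, mul_one]
    exact B.wR_Q (one_mem _)
  have hu0 : u ≠ 0 := fun e => hv0 (hinj ha e)
  by_contra hne
  obtain ⟨e, he, a₁, ha₁, hqe, hea, hfix, hmv⟩ := functional_moved hvW hu hu0 hne
  have hl := siegel_mem_lev he ha₁ hqe hea
  obtain ⟨n, hn, hna, -, t2⟩ := B.lev_lift hl
  obtain ⟨hcz, hcs⟩ := B.N_fix hn
  have hA' : n * a * n⁻¹ ∈ B.A :=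
    B.mem_A_of (π_conj (B.N_C hn) ha.1).1 (mul_mem (mul_mem hn (B.A_N ha)) (inv_mem hn))
  have hred : red (D.π (n * a * n⁻¹)) = v := by
    rw [(π_conj (B.N_C hn) ha.1).2, hna, red_lev hl hae, ← hv, siegel_sm hqe hea, hfix]
  have hconj : B.τ' * (n * a * n⁻¹) * B.τ'⁻¹ * (n * a * n⁻¹)⁻¹ = n * (B.τ' * a * B.τ'⁻¹ * a⁻¹) * n⁻¹ := by
    have h2 : B.τ'⁻¹ * n = n * B.τ'⁻¹ := ((show Commute B.τ' n from t2).inv_left).eq
    calc B.τ' * (n * a * n⁻¹) * B.τ'⁻¹ * (n * a * n⁻¹)⁻¹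
        = B.τ' * n * a * (B.τ' * n)⁻¹ * n * a⁻¹ * n⁻¹ := by group
      _ = n * B.τ' * a * (n * B.τ')⁻¹ * n * a⁻¹ * n⁻¹ := by rw [t2]
      _ = n * (B.τ' * a * B.τ'⁻¹ * a⁻¹) * n⁻¹ := by group
  have h1 := hcl hA' ha (hred.trans hv)
  rw [hconj, ← huu] at h1
  obtain ⟨hb', hw⟩ := B.red_wv_conj (B.τ'_A ha) hcz hcs
  rw [B.wR_P hb'.2, hw (B.N_C hn), ← hact_eq (D := D) (B.N_C hn), hna,
    red_lev hl (B.act_P (B.τ'_A ha)).1.1, ← B.wR_P (B.τ'_A ha).2, ← huu, siegel_sm hqe hea] at h1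
  exact hmv h1

theorem Base.τ_pair {b a : G} (hb : b ∈ B.P) (ha : a ∈ B.A) :
    ∃ a' ∈ B.A, B.τ * (b * a) * B.τ⁻¹ = b * a' ∧ red (D.π a') = red (D.π a) + red (B.wv b) := by
  obtain ⟨-, h1⟩ := B.N_τ (B.P_N hb)
  obtain ⟨-, h2⟩ := B.N_τ (B.A_N ha)
  refine ⟨b⁻¹ * (B.τ * b * B.τ⁻¹) * (B.τ * a * B.τ⁻¹), ?_, by group, ?_⟩
  · refine mul_mem h1 ?_
    have h := mul_mem ha h2
    rwa [mul_inv_cancel_left] at h
  · have h3 : B.τ * a * B.τ⁻¹ ∈ D.Q := mul_mem (mul_mem B.τ_Q ha.1) (inv_mem B.τ_Q)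
    rw [D.π_mul _ h1.1 _ h3, red_add, B.τ_comm (B.P_R hb), B.wR_P hb.2,
      D.π_mul _ (mul_mem B.τ_Q ha.1) _ (inv_mem B.τ_Q), D.π_mul _ B.τ_Q _ ha.1, π_inv D B.τ_Q,
      add_comm (D.π B.τ), add_assoc, add_self, add_zero, add_comm]

theorem Base.τ'_pair {b a : G} (hb : b ∈ B.P) (ha : a ∈ B.A) :
    ∃ b' ∈ B.P, B.τ' * (b * a) * B.τ'⁻¹ = b' * a ∧ red (B.wv b') = red (B.wv b) + red (D.π a) := by
  obtain ⟨h1, h1'⟩ := B.N_τ' (B.P_N hb)
  have hp : B.τ' * b * B.τ'⁻¹ ∈ B.P := by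
    have h := mul_mem hb h1'
    rwa [mul_inv_cancel_left] at h
  have hq : B.τ' * b * B.τ'⁻¹ * b⁻¹ ∈ B.P := mul_mem hp (inv_mem hb)
  have hqV : B.InV (B.τ' * b * B.τ'⁻¹ * b⁻¹) := by
    have hpre : B.g⁻¹ * b * B.g ∈ D.Q := (mem_conjQ D).1 hb.1
    rcases Extra2.conj_eq D.pre.gen B.τ_Q hpre with e | e
    · refine (B.inV_of (Or.inl ?_)).1
      rw [Base.τ', show B.g * B.τ * B.g⁻¹ * b * (B.g * B.τ * B.g⁻¹)⁻¹ =
        B.g * (B.τ * (B.g⁻¹ * b * B.g) * B.τ⁻¹) * B.g⁻¹ by group, e]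
      group
    · refine (B.inV_of (Or.inr (Or.inr (Or.inl ?_)))).1
      rw [Base.τ', show B.g * B.τ * B.g⁻¹ * b * (B.g * B.τ * B.g⁻¹)⁻¹ =
        B.g * (B.τ * (B.g⁻¹ * b * B.g) * B.τ⁻¹) * B.g⁻¹ by group, e, ← B.gz]
      group
  refine ⟨B.τ' * b * B.τ'⁻¹ * (B.τ' * a * B.τ'⁻¹ * a⁻¹), mul_mem hp (B.τ'_A ha), by group, ?_⟩
  rw [← B.wR_P (mul_mem hp (B.τ'_A ha)).2, B.wR_mul (B.P_R hp) (B.P_N (B.τ'_A ha)), B.τ'_wR ha]
  congr 1
  have e : B.τ' * b * B.τ'⁻¹ = B.τ' * b * B.τ'⁻¹ * b⁻¹ * b := by group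
  rw [e, B.wR_mul (B.P_R hq) (B.P_N hb), B.wR_Q hqV.1, zero_add, B.wR_P hb.2]

/-! ### The twist -/

/-- The sign of the action on a lift. -/
noncomputable def Base.bit (n : G) (m : M8) : ZMod 2 :=
  B.ζ (n * (D.π_surj m).choose * n⁻¹ * ((D.π_surj m).choose)⁻¹)

theorem Base.bit_spec {n : G} (hn : n ∈ B.N) {q : G} (hq : q ∈ D.Q) (hfix : (hact D n).1 (D.π q) = D.π q) :
    n * q * n⁻¹ = q * (if B.bit n (D.π q) = 0 then 1 else z) := by
  obtain ⟨hr, hrπ⟩ := (D.π_surj (D.π q)).choose_spec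
  obtain ⟨r, hr'⟩ : ∃ r, r = (D.π_surj (D.π q)).choose := ⟨_, rfl⟩
  rw [← hr'] at hr hrπ
  have hbit : B.bit n (D.π q) = B.ζ (n * r * n⁻¹ * r⁻¹) := by rw [hr']; rfl
  obtain ⟨hc, hcπ⟩ := π_commutator (B.N_C hn) hr
  rw [hrπ, hfix, add_self] at hcπ
  obtain ⟨c, hc'⟩ : ∃ c, c = n * r * n⁻¹ * r⁻¹ := ⟨_, rfl⟩
  rw [← hc'] at hc hcπ hbit
  have hnr : n * r * n⁻¹ = c * r := by rw [hc']; group
  have hz : n * z * n⁻¹ = z := (B.N_fix hn).1
  have hcz : c = if B.bit n (D.π q) = 0 then 1 else z := by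
    rcases (D.π_eq_zero c hc).1 hcπ with e | e
    · rw [if_pos]; · exact e
      rw [hbit, e]; exact B.bits.2.2.2.2.2
    · rw [if_neg]; · exact e
      rw [hbit, e, B.bits.2.2.1]; exact one_ne_zero
  rw [← hcz]
  have hcr : c * r = r * c := by
    rcases (D.π_eq_zero c hc).1 hcπ with e | e <;> rw [e]
    · rw [one_mul, mul_one]
    · exact (D.pre.gen.comm_z r hr).eq.symm
  rcases eq_of_π D hr hq hrπ with e | e <;> rw [e]
  · rw [hnr, hcr]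
  · rw [show n * (r * z) * n⁻¹ = n * r * n⁻¹ * (n * z * n⁻¹) by group, hz, hnr, hcr, mul_assoc, mul_assoc,
      (D.pre.gen.comm_z c hc).eq]

theorem Base.bit_eq {n : G} (hn : n ∈ B.N) {q : G} (hq : q ∈ D.Q) (hfix : (hact D n).1 (D.π q) = D.π q)
    (i : ZMod 2) (h : n * q * n⁻¹ = q * (if i = 0 then 1 else z)) : B.bit n (D.π q) = i := by
  rw [B.bit_spec hn hq hfix] at h
  rcases zmod2_cases (B.bit n (D.π q)) with e | e <;> rcases zmod2_cases i with f | f <;> rw [e, f] <;>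
    rw [e, f] at h <;> simp at h
  all_goals exact absurd h D.pre.gen.ne_one

theorem Base.bit_add {n : G} (hn : n ∈ B.N) {m m' : M8} (hm : (hact D n).1 m = m)
    (hm' : (hact D n).1 m' = m') : B.bit n (m + m') = B.bit n m + B.bit n m' := by
  obtain ⟨q, hq, rfl⟩ := D.π_surj m
  obtain ⟨q', hq', rfl⟩ := D.π_surj m'
  rw [← D.π_mul q hq q' hq']
  refine B.bit_eq hn (mul_mem hq hq') (by rw [D.π_mul q hq q' hq', map_add, hm, hm']) _ ?_
  rw [show n * (q * q') * n⁻¹ = n * q * n⁻¹ * (n * q' * n⁻¹) by group, B.bit_spec hn hq hm,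
    B.bit_spec hn hq' hm']
  have hz := (D.pre.gen.comm_z q' hq').eq
  rcases zmod2_cases (B.bit n (D.π q)) with e | e <;> rcases zmod2_cases (B.bit n (D.π q')) with f | f <;>
    rw [e, f] <;> simp [mul_assoc, show (1 : ZMod 2) + 1 = 0 from by decide]
  · rw [← mul_assoc z q' 1 |>.symm.trans (mul_one _)] <;> simp [hz]
  · rw [← mul_assoc z q' z, ← hz, mul_assoc q' z z, D.pre.gen.sq, mul_one]

/-- The standard lift acts on the kernel part by a twist of hyperbolic type. -/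
theorem Base.exists_twist {k : G} (hk : k ∈ B.N) (hka : hact D k = root)
    (t1 : B.τ * k = k * B.τ) (t2 : B.τ' * k = k * B.τ') :
    ∃ i : ZMod 2, ∀ m, bf m e0 = 0 → red m ∈ perp12 → B.bit k m = mu i (red m) := by
  obtain ⟨lf, l1, q1, b1, c1x, c1u, c1w, q2, b2, c2x, c2u, c2w, hxw, hxu, hwx⟩ := long_facts
  have hkfix : ∀ m, bf m x1 = 0 → bf m x2 = 0 → (hact D k).1 m = m := fun m h1 h2 => by
    rw [hka, root_apply, lf m h1 h2]
  -- the radical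
  have hk2 : k * k = 1 := B.lev_lift_sq root_sq hk hka t1 t2
  have hrad : ∀ n m, disp (hact D k) n = m → qf m = 0 → bf m x1 = 0 → bf m x2 = 0 → B.bit k m = 0 := by
    intro n m hn hm h1 h2
    obtain ⟨q, hq, hqm⟩ := D.π_surj m
    rw [← hqm] at hn hm h1 h2 ⊢
    refine B.bit_eq hk hq (hkfix _ h1 h2) 0 ?_
    have h := conj_lift (B.N_C hk) hk2 hq hn.symm
    rw [if_pos hm] at h
    rw [if_pos rfl, h]
  have hdisp : ∀ n, disp (hact D k) n = sm x1 x2 n + n := fun n => by rw [disp_apply, hka, root_apply]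
  have rfacts : (sm x1 x2 y2 + y2 = x1 ∧ sm x1 x2 y1 + y1 = x2) ∧ bf x1 x1 = 0 ∧ bf x2 x2 = 0 := by
    decide +kernel
  have e1 : B.bit k x1 = 0 := hrad y2 x1 ((hdisp _).trans rfacts.1.1) pair_facts.2.2.2.1 rfacts.2.1
    pair_facts.2.2.2.2.2.1
  have e2 : B.bit k x2 = 0 := hrad y1 x2 ((hdisp _).trans rfacts.1.2) pair_facts.2.2.2.2.1
    (by rw [bf_comm]; exact pair_facts.2.2.2.2.2.1) rfacts.2.2
  -- the anisotropic class through a factorisation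
  have hx1q : qf x1 = 0 := pair_facts.2.2.2.1
  have ha1 : siegel q8 x1 w2 ∈ lev := siegel_mem_lev basis_mem.1 basis_mem.2.2.2.2.2.2.1 hx1q hxw
  have hw2x2 : w2 + x2 ∈ wList := wList_add basis_mem.2.2.2.2.2.2.1 basis_mem.2.1
  have ha2 : siegel q8 x1 (w2 + x2) ∈ lev := siegel_mem_lev basis_mem.1 hw2x2 hx1q hxu
  obtain ⟨k1, hk1, hk1a, u1, u1'⟩ := B.lev_lift ha1
  obtain ⟨k2, hk2', hk2a, u2, u2'⟩ := B.lev_lift ha2
  have hprod : k1 * k2 = k := by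
    refine B.lift_unique hk (mul_mem hk1 hk2') ?_ t1 t2
      ((show Commute B.τ k1 from u1).mul_right u2).eq ((show Commute B.τ' k1 from u1').mul_right u2').eq
    rw [hka, hact_mul (B.N_C hk1) (B.N_C hk2'), hk1a, hk2a, siegel_mul (by rw [q8_eq, hx1q])
      (by rw [polar_eq, hxw]) (by rw [polar_eq, hxu]), root, ← add_assoc, add_self, zero_add]
  have hone : k1 * k1 = 1 := B.lev_lift_sq (siegel_x1_sq hxw) hk1 hk1a u1 u1'
  have hf2 : ∀ m, bf m x1 = 0 → bf m (w2 + x2) = 0 → (hact D k2).1 m = m := fun m h1 h2 => by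
    rw [hk2a, siegel_sm hx1q hxu, sm_fix h1 h2]
  have hmove : ∀ (e a t : M8), e ∈ wList → a ∈ wList → qf e = 0 → bf e a = 0 → sm e a x1 = x1 →
      sm e a (w2 + x2) = w2 + x2 → sm e a w2 = t → B.bit k2 t = B.bit k2 w2 := by
    intro e a t he ha hq hea hx hu ht
    obtain ⟨c, hc, hca, v1, v1'⟩ := B.lev_lift (siegel_mem_lev he ha hq hea)
    have hcomm : c * k2 = k2 * c := by
      refine B.lift_unique (mul_mem hk2' hc) (mul_mem hc hk2') ?_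
        ((show Commute B.τ k2 from u2).mul_right v1).eq ((show Commute B.τ' k2 from u2').mul_right v1').eq
        ((show Commute B.τ c from v1).mul_right u2).eq ((show Commute B.τ' c from v1').mul_right u2').eq
      rw [hact_mul (B.N_C hk2') (B.N_C hc), hact_mul (B.N_C hc) (B.N_C hk2'), hca, hk2a]
      have h := siegel_conj (siegel q8 e a) (e := x1) (a := w2 + x2) (by rw [q8_eq, hx1q])
        (by rw [polar_eq, hxu])
      rw [siegel_sm hq hea, siegel_sm hq hea, hx, hu, mul_inv_eq_iff_eq_mul] at h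
      exact h.symm
    obtain ⟨q, hq', hqw⟩ := D.π_surj w2
    obtain ⟨hr, hrπ⟩ := π_conj (B.N_C hc) hq'
    rw [hca, hqw, siegel_sm hq hea, ht] at hrπ
    have hw2f : (hact D k2).1 (D.π q) = D.π q := by
      rw [hqw]; exact hf2 _ (by rw [bf_comm]; exact hxw) (by rw [bf_add_right, bf_self, zero_add]; exact hwx)
    have htf : (hact D k2).1 t = t := by
      refine hf2 t ?_ ?_
      · conv_lhs => rw [← hx, ← ht, ← siegel_sm hq hea, ← siegel_sm hq hea, bf_oGroup, bf_comm, hxw]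
      · conv_lhs => rw [← hu, ← ht, ← siegel_sm hq hea, ← siegel_sm hq hea, bf_oGroup, bf_add_right, bf_self,
          zero_add, hwx]
    rw [← hrπ] at htf
    rw [← hrπ, ← hqw]
    refine B.bit_eq hk2' hr htf _ ?_
    calc k2 * (c * q * c⁻¹) * k2⁻¹ = k2 * c * q * (k2 * c)⁻¹ := by group
      _ = c * (k2 * q * k2⁻¹) * c⁻¹ := by rw [← hcomm]; group
      _ = _ := by
        rw [B.bit_spec hk2' hq' hw2f]
        split_ifs
        · group
        · rw [show c * (q * z) * c⁻¹ = c * q * c⁻¹ * (c * z * c⁻¹) by group, (B.N_fix hc).1]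
  have m1 := hmove _ _ _ (wList_add basis_mem.2.2.2.2.1 basis_mem.2.2.1)
    (wList_add (wList_add basis_mem.2.1 basis_mem.2.2.2.2.1) basis_mem.2.2.2.2.2.1) q1 b1 c1x c1u c1w
  have m2 := hmove _ _ _ (wList_add basis_mem.2.2.2.2.1 basis_mem.2.2.2.2.2.1) basis_mem.2.2.2.2.2.2.2.1
    q2 b2 c2x c2u c2w
  have hw2p : bf w2 x1 = 0 ∧ bf w2 x2 = 0 := ⟨by rw [bf_comm]; exact hxw, hwx⟩
  have hw2u : bf w2 (w2 + x2) = 0 := by rw [bf_add_right, bf_self, zero_add, hwx]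
  have v2facts : bf v2 x1 = 0 ∧ bf v2 (w2 + x2) = 0 := by decide +kernel
  rw [B.bit_add hk2' (hf2 _ hw2p.1 hw2u) (hf2 _ v2facts.1 v2facts.2), m1, CharTwo.add_self_eq_zero] at m2
  have ew : B.bit k w2 = 1 := by
    obtain ⟨q, hq, hqw⟩ := D.π_surj w2
    rw [← hqw] at hw2p ⊢
    refine B.bit_eq hk hq (hkfix _ hw2p.1 hw2p.2) 1 ?_
    have h1 := conj_lift (B.N_C hk1) hone hq (n := y1 + x3) (by
      rw [disp_apply, hk1a, siegel_sm hx1q hxw, l1, hqw, add_comm (y1 + x3), add_assoc, add_self, add_zero])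
    rw [hqw, pair_facts.1, if_neg one_ne_zero] at h1
    have h2 := B.bit_spec hk2' hq (by rw [hqw]; exact hf2 _ (by rw [← hqw]; exact hw2p.1) hw2u)
    rw [hqw, ← m2, if_pos rfl, mul_one] at h2
    rw [if_neg one_ne_zero, ← hprod, show k1 * k2 * q * (k1 * k2)⁻¹ = k1 * (k2 * q * k2⁻¹) * k1⁻¹ by group,
      h2, h1]
  refine ⟨B.bit k x3, fun m hm hp => ?_⟩
  -- expansion
  have hfx : ∀ t ∈ [e0, x1, x2, x3, y3], bf t x1 = 0 ∧ bf t x2 = 0 := by decide +kernel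
  have f0' := hkfix e0 (hfx e0 (by simp)).1 (hfx e0 (by simp)).2
  have f1 := hkfix x1 (hfx x1 (by simp)).1 (hfx x1 (by simp)).2
  have f2 := hkfix x2 (hfx x2 (by simp)).1 (hfx x2 (by simp)).2
  have f3 := hkfix x3 (hfx x3 (by simp)).1 (hfx x3 (by simp)).2
  have f3' := hkfix y3 (hfx y3 (by simp)).1 (hfx y3 (by simp)).2
  have h0 : B.bit k 0 = 0 := by
    have h := B.bit_add hk (m := 0) (m' := 0) (map_zero _) (map_zero _)
    rw [add_zero] at h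
    exact left_eq_add.1 h
  have he : B.bit k e0 = 0 := by
    rw [← B.πs]
    refine B.bit_eq hk B.sQ (by rw [B.πs]; exact f0') 0 ?_
    rw [if_pos rfl, mul_one, (B.N_fix hk).2]
  have hsm : ∀ (t : ZMod 2) {n : M8}, B.bit k (t • n) = t * B.bit k n := fun t n => by
    rcases zmod2_cases t with e | e <;> rw [e]
    · rw [zero_smul, zero_mul, h0]
    · rw [one_smul, one_mul]
  have hsf : ∀ (t : ZMod 2) {n : M8}, (hact D k).1 n = n → (hact D k).1 (t • n) = t • n := fun t n h => by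
    rw [map_smul, h]
  have hy3 : B.bit k y3 = 1 + B.bit k x3 := by
    have h : w2 = x3 + y3 := by decide +kernel
    rw [h, B.bit_add hk f3 f3'] at ew
    rw [← ew]
    rcases zmod2_cases (B.bit k x3) with e | e <;> rcases zmod2_cases (B.bit k y3) with f | f <;>
      rw [e, f] <;> decide
  obtain ⟨hexp, hc1, hc2⟩ := perp12_expand _ hp
  have hmm : m = red m + bf m f0 • e0 := by rw [red, add_assoc, add_self, add_zero]
  have g1 := hsf (bf (red m) y1) f1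
  have g2 := hsf (bf (red m) y2) f2
  have g3 := hsf (bf (red m) y3) f3
  have g4 := hsf (bf (red m) x3) f3'
  have g12 := (map_add (hact D k).1 _ _).trans (congrArg₂ (· + ·) g1 g2)
  have g123 := (map_add (hact D k).1 _ _).trans (congrArg₂ (· + ·) g12 g3)
  have g1234 := (map_add (hact D k).1 _ _).trans (congrArg₂ (· + ·) g123 g4)
  conv_lhs => rw [hmm, hexp]
  rw [B.bit_add hk g1234 (hsf _ f0'), B.bit_add hk g123 g4, B.bit_add hk g12 g3, B.bit_add hk g1 g2,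
    hsm, hsm, hsm, hsm, hsm, he, e1, e2, hy3, mu, hc1, hc2]
  ring

end CfsgLib.Co1Invol
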