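import Cfsg.Agent.Co1Invol.Twist

/-!
Every involution of the centraliser is conjugate to a standard one.
-/

set_option autoImplicit false
set_option linter.style.haveILetI false

namespace CfsgLib.Co1Invol

open CfsgLib CfsgLib.Quad Subgroup

variable {G : Type*} [Group G] [Finite G] {z : G} {D : Dat z} (B : Base D)

/-- An element of the kernel shifts the involution by the central one. -/
def HasZ (D : Dat z) (x : G) : Prop := ∃ q ∈ D.Q, q * x * q⁻¹ = z * x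

omit [Finite G] in
theorem HasZ.conj {x : G} (h : HasZ D x) {c : G} (hc : c ∈ centralizer ({z} : Set G)) :
    HasZ D (c * x * c⁻¹) := by
  obtain ⟨q, hq, he⟩ := h
  have hcz := mem_centralizer_singleton_iff.1 hc
  refine ⟨c * q * c⁻¹, D.pre.conj_mem hcz hq, ?_⟩
  rw [show c * q * c⁻¹ * (c * x * c⁻¹) * (c * q * c⁻¹)⁻¹ = c * (q * x * q⁻¹) * c⁻¹ by group, he,
    ← mul_assoc, hcz]
  group

/-- Lying in a conjugate of the kernel whose centre is in the kernel. -/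
def Sing (D : Dat z) (x : G) : Prop :=
  ∃ k : G, k * z * k⁻¹ ∈ D.Q ∧ k * z * k⁻¹ ≠ z ∧ x ∈ conjQ D k

theorem Sing.conj {x : G} (h : Sing D x) {c : G} (hc : c ∈ centralizer ({z} : Set G)) :
    Sing D (c * x * c⁻¹) := by
  obtain ⟨k, hk, hkz, hxk⟩ := h
  have hcz := mem_centralizer_singleton_iff.1 hc
  have e : c * k * z * (c * k)⁻¹ = c * (k * z * k⁻¹) * c⁻¹ := by group
  refine ⟨c * k, e ▸ D.pre.conj_mem hcz hk, fun h' => hkz ?_, ?_⟩
  · rw [e] at h'
    calc k * z * k⁻¹ = c⁻¹ * (c * (k * z * k⁻¹) * c⁻¹) * c := by group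
      _ = c⁻¹ * (z * c) := by rw [h']; group
      _ = z := by rw [← hcz]; group
  · rw [mem_conjQ, show (c * k)⁻¹ * (c * x * c⁻¹) * (c * k) = k⁻¹ * x * k by group]
    exact (mem_conjQ D).1 hxk

include B in
theorem Base.isConj_of_sing {x : G} (h : Sing D x) (hx2 : x * x = 1) (hx1 : x ≠ 1) : IsConj z x := by
  obtain ⟨k, hk, hkz, hxk⟩ := h
  have hq := (mem_conjQ D).1 hxk
  have hq2 : k⁻¹ * x * k * (k⁻¹ * x * k) = 1 := by
    rw [show k⁻¹ * x * k * (k⁻¹ * x * k) = k⁻¹ * (x * x) * k by group, hx2]; group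
  refine IsConj.trans ?_ (isConj_iff.2 ⟨k, show k * (k⁻¹ * x * k) * k⁻¹ = x by group⟩)
  by_cases h0 : D.π (k⁻¹ * x * k) = 0
  · rcases (D.π_eq_zero _ hq).1 h0 with e | e
    · refine absurd ?_ hx1
      calc x = k * (k⁻¹ * x * k) * k⁻¹ := by group
        _ = 1 := by rw [e]; group
    · rw [e]
  · obtain ⟨c, -, hc⟩ := exists_conj_C D B.sQ hq (by rw [B.πs]; exact q_e0) ((D.sq_iff _ hq).1 hq2)
      (by rw [B.πs]; exact e0_ne) h0
    exact IsConj.trans (isConj_iff.2 ⟨B.g, B.gz⟩) (isConj_iff.2 ⟨c, hc⟩)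

theorem Base.sing_of_singular {b a : G} (hb : b ∈ B.P) (ha : a ∈ B.A) (hw : red (B.wv b) ≠ 0)
    (hq : qf (B.wv b) = 0) (hsq : b * a * (b * a) = 1)
    (hva : red (D.π a) = 0 ∨ red (D.π a) = red (B.wv b)) : Sing D (b * a) := by
  obtain ⟨h1, h2⟩ := (B.prod_sq hb ha).2.1 hsq
  obtain ⟨hadm, hu⟩ := B.act_P hb
  have hae := (B.mem_A.1 ha).2
  have hgz : B.g * z * B.g⁻¹ ∈ D.Q ∧ B.g * z * B.g⁻¹ ≠ z := ⟨B.gz.symm ▸ B.sQ, fun e => B.ne (B.gz.symm.trans e)⟩
  rcases hva with e | e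
  · have hV : B.InV a := ⟨ha.1, by
      rcases red_cases (D.π a) with e' | e' <;> rw [e] at e'
      exacts [Or.inl e', Or.inr (e'.trans (zero_add _))]⟩
    exact ⟨B.g, hgz.1, hgz.2, mul_mem hb.1 (B.inV_of (B.inV_cases hV)).2⟩
  · obtain ⟨a0, ha0, ha0π⟩ := D.π_surj f0
    have haz : a0 * z = z * a0 := (D.pre.gen.comm_z a0 ha0).eq
    have hk : a0 * B.g * z * (a0 * B.g)⁻¹ = a0 * B.s * a0⁻¹ := by rw [← B.gz]; group
    refine ⟨a0 * B.g, ?_, ?_, ?_⟩
    · rw [hk]; exact mul_mem (mul_mem ha0 B.sQ) (inv_mem ha0)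
    · rw [hk]
      intro e'
      refine B.ne ?_
      calc B.s = a0⁻¹ * (a0 * B.s * a0⁻¹) * a0 := by group
        _ = z := by rw [e', mul_assoc, ← haz]; group
    · have hconj : b⁻¹ * a0⁻¹ * b ∈ D.Q := by
        have := D.pre.conj_mem (show Commute b⁻¹ z from (show Commute b z from (B.P_fix hb).1).inv_left).eq
          (inv_mem ha0)
        rwa [inv_inv] at this
      obtain ⟨y, hy⟩ : ∃ y, y = a0 * (b⁻¹ * a0⁻¹ * b) * a := ⟨_, rfl⟩
      have hyQ : y ∈ D.Q := hy ▸ mul_mem (mul_mem ha0 hconj) ha.1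
      have hact : (D.act (⟨b, hb.2⟩⁻¹)).1 f0 = f0 + (B.wv b + bf (B.wv b) (B.wv b) • e0) + qf (B.wv b) • e0 := by
        have hinv : D.act ((⟨b, hb.2⟩ : centralizer ({z} : Set G))⁻¹) = D.act ⟨b, hb.2⟩ := by
          rw [map_inv, inv_eq_iff_mul_eq_one, ← map_mul, D.act_eq_one]
          exact (B.sq_P hb).1.1
        rw [hinv, bf_self, zero_smul, add_zero, hq, zero_smul, add_zero, B.wv_eq hb.2, add_comm, add_assoc,
          add_self, add_zero]
      rw [bf_self, zero_smul, add_zero, hq, zero_smul, add_zero] at hact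
      have hyV : B.InV y := by
        refine ⟨hyQ, ?_⟩
        have hπ : D.π y = B.wv b + D.π a := by
          rw [hy, D.π_mul _ (mul_mem ha0 hconj) _ ha.1, D.π_mul _ ha0 _ hconj,
            show D.π (b⁻¹ * a0⁻¹ * b) = (D.act (⟨b, hb.2⟩⁻¹)).1 (D.π a0⁻¹) by
              rw [← D.act_π _ _ (inv_mem ha0)]; simp [InvMemClass.coe_inv],
            π_inv D ha0, ha0π, hact, ← add_assoc, add_self, zero_add]
        have hr : red (D.π y) = 0 := by rw [hπ, red_add, e, add_self]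
        rcases red_cases (D.π y) with e' | e' <;> rw [hr] at e'
        exacts [Or.inl e', Or.inr (e'.trans (zero_add _))]
      have hVk : ∀ {v : G}, B.InV v → v ∈ conjQ D (a0 * B.g) := by
        intro v hv
        have hv' : a0⁻¹ * v * a0 ∈ D.Q := mul_mem (mul_mem (inv_mem ha0) hv.1) ha0
        have hinv : B.InV (a0⁻¹ * v * a0) := ⟨hv', by
          rw [D.π_mul _ (mul_mem (inv_mem ha0) hv.1) _ ha0, D.π_mul _ (inv_mem ha0) _ hv.1, π_inv D ha0,
            add_comm (D.π a0), add_assoc, add_self, add_zero]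
          exact hv.2⟩
        rw [mem_conjQ, show (a0 * B.g)⁻¹ * v * (a0 * B.g) = B.g⁻¹ * (a0⁻¹ * v * a0) * B.g by group]
        exact (mem_conjQ D).1 (B.inV_of (B.inV_cases hinv)).2
      rw [show b * a = a0 * b * a0⁻¹ * (a0 * (b⁻¹ * a0⁻¹ * b) * a) by group, ← hy]
      refine mul_mem ((mem_conjQ D).2 ?_) (hVk hyV)
      rw [show (a0 * B.g)⁻¹ * (a0 * b * a0⁻¹) * (a0 * B.g) = B.g⁻¹ * b * B.g by group]
      exact (mem_conjQ D).1 hb.1

include B in
theorem Base.not_hasZ_of_sing {x : G} (hx : x ∈ centralizer ({z} : Set G)) (hxQ : x ∉ D.Q)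
    (h : Sing D x) : ¬ HasZ D x := by
  intro h'
  obtain ⟨k, hk, hkz, hxk⟩ := h
  have hk2 : k * z * k⁻¹ * (k * z * k⁻¹) = 1 := by
    rw [show k * z * k⁻¹ * (k * z * k⁻¹) = k * (z * z) * k⁻¹ by group, D.pre.gen.sq]; group
  obtain ⟨c, hc, hcs⟩ := exists_conj_C D hk B.sQ ((D.sq_iff _ hk).1 hk2) (by rw [B.πs]; exact q_e0)
    (fun e => ((D.π_eq_zero _ hk).1 e).elim (fun e' => D.pre.gen.ne_one (conj_eq_one_iff.1 e')) hkz)
    (by rw [B.πs]; exact e0_ne)
  have hmem : c * x * c⁻¹ ∈ B.P := by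
    refine Subgroup.mem_inf.2 ⟨?_, mul_mem (mul_mem hc hx) (inv_mem hc)⟩
    rw [← conjQ_congr D (k := c * k) (k' := B.g) (by rw [B.gz, ← hcs]; group), mem_conjQ,
      show (c * k)⁻¹ * (c * x * c⁻¹) * (c * k) = k⁻¹ * x * k by group]
    exact (mem_conjQ D).1 hxk
  obtain ⟨q, hq, hqe⟩ := h'.conj hc
  obtain ⟨b, hb⟩ : ∃ b, b = c * x * c⁻¹ := ⟨_, rfl⟩
  rw [← hb] at hmem hqe
  have hw : red (B.wv b) ≠ 0 := by
    intro e
    refine hxQ ?_
    have h1 := (B.inV_of_wR hmem ((B.wR_P hmem.2).trans e)).1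
    rw [hb] at h1
    have h2 := D.pre.conj_mem (show Commute c⁻¹ z from
      (show Commute c z from mem_centralizer_singleton_iff.1 hc).inv_left).eq h1
    rwa [show c⁻¹ * (c * x * c⁻¹) * c⁻¹⁻¹ = x by group] at h2
  have hcomm : b * q * b⁻¹ * q⁻¹ = z := by
    have h1 : b * q = z * q * b := by
      calc b * q = z * z * (b * q) := by rw [D.pre.gen.sq, one_mul]
        _ = z * (z * b * q) := by group
        _ = z * (q * b * q⁻¹ * q) := by rw [hqe]
        _ = z * q * b := by group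
    rw [h1]; group
  have hqA : q ∈ B.A := by
    refine B.mem_A.2 ⟨hq, ?_⟩
    by_contra hne
    obtain ⟨-, hπ⟩ := π_commutator (D := D) hmem.2 hq
    rw [hcomm, π_z, hact_eq hmem.2, (B.act_P hmem).2, uMap, (zmod2_cases _).resolve_left hne, one_smul,
      one_smul] at hπ
    have h2 := congrArg red hπ
    simp only [red_add, red_zero, red_smul_e0, add_zero] at h2
    rw [add_comm (red (D.π q)), add_assoc, add_self, add_zero] at h2
    exact hw h2.symm
  have hcm := B.cm_eq hmem hqA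
  rw [cm, hcomm] at hcm
  split_ifs at hcm
  · exact D.pre.gen.ne_one hcm
  · exact B.s_ne (mul_eq_left.1 hcm.symm)

/-- A pair of radical elements with given classes. -/
structure Pr (w v : M8) where
  /-- The part in the conjugate kernel. -/
  b : G
  /-- The part in the kernel. -/
  a : G
  hb : b ∈ B.P
  ha : a ∈ B.A
  wb : red (B.wv b) = w
  πa : red (D.π a) = v

theorem Base.exists_pr {w v : M8} (hw : w ∈ wList) (hv : v ∈ wList) : Nonempty (Pr B w v) := by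
  obtain ⟨h, hr⟩ := adm_rep hw
  obtain ⟨b, hb, hbw⟩ := B.wv_surj h
  obtain ⟨a, ha, haπ⟩ := D.π_surj v
  exact ⟨⟨b, a, hb, B.mem_A.2 ⟨ha, by rw [haπ]; exact (wList_perp v hv).1⟩, by rw [hbw, hr],
    by rw [haπ, red_wList hv]⟩⟩

variable {B}

/-- The element of a pair. -/
def Pr.el {w v : M8} (S : Pr B w v) : G := S.b * S.a

omit [Finite G] in
theorem Pr.el_mem {w v : M8} (S : Pr B w v) : S.el ∈ centralizer ({z} : Set G) :=
  mul_mem S.hb.2 (mem_C D S.ha.1)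

variable (B)

theorem Base.pair_sq_iff {b a : G} (hb : b ∈ B.P) (ha : a ∈ B.A) : b * a * (b * a) = 1 ↔
    qf (red (B.wv b)) = bf (red (B.wv b)) (red (D.π a)) ∧
      qf (red (D.π a)) = bf (red (B.wv b)) (red (D.π a)) := by
  rw [(B.prod_sq hb ha).2, qf_red (B.act_P hb).1.1, qf_red (B.mem_A.1 ha).2,
    bf_red (B.act_P hb).1.1 (B.mem_A.1 ha).2, bf_comm (B.wv b)]

/-- Involutions of the product with classes in the same orbit are conjugate. -/
theorem Base.conj_pairs {b a b' a' : G} (hb : b ∈ B.P) (ha : a ∈ B.A) (hb' : b' ∈ B.P) (ha' : a' ∈ B.A)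
    {h : O8} (hh : h ∈ lev) (hw : h.1 (red (B.wv b)) = red (B.wv b'))
    (hv : h.1 (red (D.π a)) = red (D.π a')) (hw0 : red (B.wv b') ≠ 0) (hv0 : red (D.π a') ≠ 0)
    (hvw : red (D.π a') ≠ red (B.wv b')) :
    ∃ c ∈ B.N, c * (b * a) * c⁻¹ = b' * a' := by
  obtain ⟨n, hn, hna, -, -⟩ := B.lev_lift hh
  obtain ⟨b₂, hb₂, a₂, ha₂, hconj, hw₂, hv₂⟩ := B.conj_pair hn hb ha
  have hwW := red_mem _ (B.act_P hb').1.1
  have hvW := red_mem _ (B.mem_A.1 ha').2
  rw [hna, hw, red_wList hwW] at hw₂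
  rw [hna, hv, red_wList hvW] at hv₂
  have hε1 : B.InV (b₂⁻¹ * b') := by
    refine B.inV_of_wR (mul_mem (inv_mem hb₂) hb') ?_
    rw [B.wR_mul (B.P_R (inv_mem hb₂)) (B.P_N hb'), B.wR_inv (B.P_R hb₂), B.wR_P hb₂.2, B.wR_P hb'.2,
      hw₂, add_self]
  have hε2 : B.InV (a₂⁻¹ * a') := B.inV_of_red (mul_mem (inv_mem ha₂) ha') (by
    rw [D.π_mul _ (inv_mem ha₂.1) _ ha'.1, π_inv D ha₂.1, red_add, hv₂, add_self])
  have hV := B.meet (mul_mem hε1.1 hε2.1)
    (mul_mem (B.inV_of (B.inV_cases hε1)).2 (B.inV_of (B.inV_cases hε2)).2)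
  obtain ⟨v, hv'⟩ : ∃ v, v = b₂⁻¹ * b' * (a₂⁻¹ * a') := ⟨_, rfl⟩
  rw [← hv'] at hV
  have hba : b' * a' = v * (b₂ * a₂) := by
    have c1 := B.A_comm_V ha₂ hε1
    have c2 := B.A_comm_V ha₂ hV
    have c3 := B.P_comm_V hb₂ hV
    calc b' * a' = b₂ * (b₂⁻¹ * b' * a₂) * (a₂⁻¹ * a') := by group
      _ = b₂ * (a₂ * (b₂⁻¹ * b')) * (a₂⁻¹ * a') := by rw [c1]
      _ = b₂ * (a₂ * v) := by rw [hv']; group
      _ = (b₂ * v) * a₂ := by rw [c2]; group
      _ = v * (b₂ * a₂) := by rw [c3]; group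
  obtain ⟨i, j, hij⟩ : ∃ i j : ZMod 2, v = (if i = 0 then 1 else z * B.s) * (if j = 0 then 1 else z) := by
    rcases B.inV_cases hV with e | e | e | e
    · exact ⟨0, 0, by simp [e]⟩
    · exact ⟨0, 1, by simp [e]⟩
    · exact ⟨1, 1, by
        rw [if_neg one_ne_zero, if_neg one_ne_zero, e, mul_assoc, (D.pre.gen.comm_z _ B.sQ).eq, ← mul_assoc,
          D.pre.gen.sq, one_mul]⟩
    · exact ⟨1, 0, by simp [e]⟩
  obtain ⟨m, hmW, hm1, hm2⟩ := span_pair hwW hvW hw0 hv0 hvw i j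
  obtain ⟨k, hk, hkπ⟩ := D.π_surj m
  have hme := (wList_perp m hmW).1
  have hkA : k ∈ B.A := B.mem_A.2 ⟨hk, by rw [hkπ]; exact hme⟩
  have hk1 : bf (D.π k) (B.wv b₂) = i := by rw [hkπ, ← bf_red_right hme, hw₂, bf_comm, hm1]
  have hk2 : bf (D.π k) (D.π a₂) = j := by rw [hkπ, ← bf_red_right hme, hv₂, bf_comm, hm2]
  refine ⟨k * n, mul_mem (B.A_N hkA) hn, ?_⟩
  calc k * n * (b * a) * (k * n)⁻¹ = k * (n * (b * a) * n⁻¹) * k⁻¹ := by group
    _ = b' * a' := by rw [hconj, B.conj_k hb₂ ha₂ hkA, hk1, hk2, hba, hij]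

theorem Base.hasZ_pair {b a : G} (hb : b ∈ B.P) (ha : a ∈ B.A) (hw0 : red (B.wv b) ≠ 0)
    (hv0 : red (D.π a) ≠ 0) (hvw : red (D.π a) ≠ red (B.wv b)) : HasZ D (b * a) := by
  obtain ⟨m, hmW, hm1, hm2⟩ := span_pair (red_mem _ (B.act_P hb).1.1) (red_mem _ (B.mem_A.1 ha).2) hw0 hv0 hvw 0 1
  obtain ⟨k, hk, hkπ⟩ := D.π_surj m
  have hme := (wList_perp m hmW).1
  have hkA : k ∈ B.A := B.mem_A.2 ⟨hk, by rw [hkπ]; exact hme⟩
  refine ⟨k, hk, ?_⟩
  rw [B.conj_k hb ha hkA, hkπ, ← bf_red_right (n := B.wv b) hme, ← bf_red_right (n := D.π a) hme,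
    bf_comm m, bf_comm m, hm1, hm2, if_pos rfl, if_neg one_ne_zero, one_mul]

/-! ### Involutions with displacement of rank two -/

variable (St : Pr B w2 v2) (Su : Pr B x1 x2)

theorem Base.classify_pair {b a : G} (hb : b ∈ B.P) (ha : a ∈ B.A) (hne : red (B.wv b) ≠ 0)
    (hsq : b * a * (b * a) = 1) :
    Sing D (b * a) ∨ (∃ c ∈ centralizer ({z} : Set G), c * Su.el * c⁻¹ = b * a) ∨
      ∃ c ∈ centralizer ({z} : Set G), c * St.el * c⁻¹ = b * a := by
  obtain ⟨h1, h2⟩ := (B.pair_sq_iff hb ha).1 hsq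
  have hwW := red_mem _ (B.act_P hb).1.1
  have hvW := red_mem _ (B.mem_A.1 ha).2
  rcases zmod2_cases (qf (red (B.wv b))) with hq | hq
  · by_cases hva : red (D.π a) = 0 ∨ red (D.π a) = red (B.wv b)
    · exact Or.inl (B.sing_of_singular hb ha hne (by rw [← qf_red (B.act_P hb).1.1, hq]) hsq hva)
    push Not at hva
    obtain ⟨h, hh, e1, e2⟩ := singular_transitive hwW hvW hq (by rw [h2, ← h1, hq]) (by rw [← h1, hq]) hne
      hva.1 hva.2
    rw [← Su.wb] at e1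
    rw [← Su.πa] at e2
    obtain ⟨c, hc, he⟩ := B.conj_pairs Su.hb Su.ha hb ha hh e1 e2 hne hva.1 hva.2
    exact Or.inr (Or.inl ⟨c, hc.1, he⟩)
  · have hvq : qf (red (D.π a)) = 1 := by rw [h2, ← h1, hq]
    have hwv : bf (red (B.wv b)) (red (D.π a)) = 1 := by rw [← h1, hq]
    obtain ⟨h, hh, e1, e2⟩ := elliptic_transitive hwW hvW hq hvq hwv
    rw [← St.wb] at e1
    rw [← St.πa] at e2
    obtain ⟨c, hc, he⟩ := B.conj_pairs St.hb St.ha hb ha hh e1 e2 hne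
      (fun e => by rw [e, qf_zero] at hvq; exact zero_ne_one hvq)
      (fun e => by rw [e, bf_self] at hwv; exact zero_ne_one hwv)
    exact Or.inr (Or.inr ⟨c, hc.1, he⟩)

theorem Base.classify_two {x : G} (hx : x ∈ centralizer ({z} : Set G)) (hxQ : x ∉ D.Q) (hx2 : x * x = 1)
    (hr2 : Module.finrank (ZMod 2) (LinearMap.range (disp (hact D x))) = 2) :
    Sing D x ∨ (∃ c ∈ centralizer ({z} : Set G), c * Su.el * c⁻¹ = x) ∨
      ∃ c ∈ centralizer ({z} : Set G), c * St.el * c⁻¹ = x := by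
  obtain ⟨c, hc, b, hb, a, ha, he, hne⟩ := B.exists_product hx hxQ hx2 hr2
  have hsq : b * a * (b * a) = 1 := by
    rw [← he, show c * x * c⁻¹ * (c * x * c⁻¹) = c * (x * x) * c⁻¹ by group, hx2]; group
  have back : ∀ {y d : G}, d ∈ centralizer ({z} : Set G) → d * y * d⁻¹ = b * a →
      ∃ d' ∈ centralizer ({z} : Set G), d' * y * d'⁻¹ = x := fun {y d} hd hde =>
    ⟨c⁻¹ * d, mul_mem (inv_mem hc) hd, by
      calc c⁻¹ * d * y * (c⁻¹ * d)⁻¹ = c⁻¹ * (d * y * d⁻¹) * c := by group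
        _ = x := by rw [hde, ← he]; group⟩
  rcases B.classify_pair St Su hb ha hne hsq with h | ⟨d, hd, hde⟩ | ⟨d, hd, hde⟩
  · left
    have h' := h.conj (inv_mem hc)
    rwa [← he, show c⁻¹ * (c * x * c⁻¹) * c⁻¹⁻¹ = x by group] at h'
  · exact Or.inr (Or.inl (back hd hde))
  · exact Or.inr (Or.inr (back hd hde))

/-! ### Involutions with displacement of rank four -/

theorem disp_pair_root {b a k : G} (hb : b ∈ B.P) (ha : a ∈ B.A) (hk : k ∈ B.N) (hka : hact D k = root)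
    (n : M8) : disp (hact D (b * a * k)) n =
      (bf n x1) • x2 + (bf n x2) • x1 + bf (sm x1 x2 n + bf n e0 • f0) (B.wv b) • e0 + bf n e0 • B.wv b := by
  have hs : bf (sm x1 x2 n) e0 = bf n e0 := by
    rw [← root_apply, bf_image_e0 root_lev.2.1]
  rw [disp_apply, hact_mul (mul_mem hb.2 (mem_C D ha.1)) (B.N_C hk), hact_mul hb.2 (mem_C D ha.1),
    hact_Q ha.1, mul_one, hka, hact_eq hb.2]
  show (D.act ⟨b, hb.2⟩).1 (root.1 n) + n = _
  rw [(B.act_P hb).2, root_apply, uMap, hs]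
  have e : sm x1 x2 n + n = bf n x1 • x2 + bf n x2 • x1 := by
    rw [sm, pair_facts.2.2.2.2.1, zero_mul, add_zero]
    abel_nf
    simp [two_smul, add_self]
  rw [← e]
  abel

theorem Base.rank_le_three {b a k : G} (hb : b ∈ B.P) (ha : a ∈ B.A) (hk : k ∈ B.N) (hka : hact D k = root)
    (hp : red (B.wv b) ∈ perp12) (hbar : bar (red (B.wv b)) = 0) :
    Module.finrank (ZMod 2) (LinearMap.range (disp (hact D (b * a * k)))) ≤ 3 := by
  classical
  obtain ⟨-, hW⟩ := (perp12_bar _ hp).1 hbar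
  set W := B.wv b with hWd
  set c1 := bf (red W) y1
  set c2 := bf (red W) y2
  have hWe : W = c1 • x1 + c2 • x2 + bf W f0 • e0 := by
    conv_lhs => rw [show W = red W + bf W f0 • e0 by rw [red, add_assoc, add_self, add_zero]]
    rw [← hW]
  have hf : bf f0 x1 = 0 ∧ bf f0 x2 = 0 := by decide +kernel
  have hx := long_facts.1
  have hsx : ∀ n, bf (sm x1 x2 n) x1 = bf n x1 ∧ bf (sm x1 x2 n) x2 = bf n x2 := fun n => by
    constructor
    · have e : root.1 x1 = x1 := by rw [root_apply, hx x1 (bf_self _) pair_facts.2.2.2.2.2.1]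
      have h := bf_oGroup root n x1
      rwa [e, root_apply] at h
    · have e : root.1 x2 = x2 := by
        rw [root_apply, hx x2 (by rw [bf_comm]; exact pair_facts.2.2.2.2.2.1) (bf_self _)]
      have h := bf_oGroup root n x2
      rwa [e, root_apply] at h
  refine le_trans (Submodule.finrank_mono ?_)
    ((finrank_span_le_card (R := ZMod 2) ({x2 + c1 • e0, x1 + c2 • e0, W} : Set M8)).trans ?_)
  · rintro _ ⟨n, rfl⟩
    rw [disp_pair_root B hb ha hk hka]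
    have hc : bf (sm x1 x2 n + bf n e0 • f0) W = c1 * bf n x1 + c2 * bf n x2 := by
      conv_lhs => rw [hWe]
      simp only [bf_add_right, bf_smul_right, bf_add_left, bf_smul_left, hsx n, hf.1, hf.2, b_fe,
        show bf (sm x1 x2 n) e0 = bf n e0 by rw [← root_apply, bf_image_e0 root_lev.2.1]]
      linear_combination (bf W f0) * CharTwo.add_self_eq_zero (bf n e0)
    rw [← hWd, hc, show bf n x1 • x2 + bf n x2 • x1 + (c1 * bf n x1 + c2 * bf n x2) • e0 + bf n e0 • W =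
      bf n x1 • (x2 + c1 • e0) + bf n x2 • (x1 + c2 • e0) + bf n e0 • W by
        rw [smul_add, smul_add, add_smul, smul_smul, smul_smul, mul_comm c1, mul_comm c2]; abel]
    refine add_mem (add_mem (Submodule.smul_mem _ _ (Submodule.subset_span ?_))
      (Submodule.smul_mem _ _ (Submodule.subset_span ?_))) (Submodule.smul_mem _ _ (Submodule.subset_span ?_))
    all_goals simp
  · rw [Set.toFinset_insert, Set.toFinset_insert, Set.toFinset_singleton]
    exact Finset.card_le_three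

theorem Base.ts_of_singular {b a k : G} (hb : b ∈ B.P) (ha : a ∈ B.A) (hk : k ∈ B.N)
    (hka : hact D k = root) (hp : red (B.wv b) ∈ perp12) (hq : qf (red (B.wv b)) = 0) (n : M8) :
    qf (disp (hact D (b * a * k)) n) = 0 := by
  obtain ⟨-, p1, p2⟩ := perp12_facts _ hp
  obtain ⟨he, -⟩ := (B.act_P hb).1
  have hx : bf x1 e0 = 0 ∧ bf x2 e0 = 0 := ⟨(wList_perp _ basis_mem.1).1, (wList_perp _ basis_mem.2.1).1⟩
  rw [bf_red_left hx.1] at p1
  rw [bf_red_left hx.2] at p2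
  rw [qf_red he] at hq
  rw [disp_pair_root B hb ha hk hka]
  generalize bf n x1 = α
  generalize bf n x2 = β
  generalize bf (sm x1 x2 n + bf n e0 • f0) (B.wv b) = γ
  generalize bf n e0 = δ
  have hqs : ∀ (t : ZMod 2) (u : M8), qf u = 0 → qf (t • u) = 0 := fun t u hu => by
    rcases zmod2_cases t with e | e <;> rw [e] <;> simp [hu, qf_zero]
  simp only [qf_add, bf_add_left, bf_smul_left, bf_smul_right, hqs _ _ pair_facts.2.2.2.1,
    hqs _ _ pair_facts.2.2.2.2.1, hqs _ _ q_e0, hqs _ _ hq,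
    show bf x2 x1 = 0 by rw [bf_comm]; exact pair_facts.2.2.2.2.2.1, hx.1, hx.2, bf_comm x1 (B.wv b),
    bf_comm x2 (B.wv b), bf_comm e0 (B.wv b), p1, p2, he, mul_zero, add_zero]

theorem Base.not_mem_Q_root {b a k : G} (hb : b ∈ B.P) (ha : a ∈ B.A) (hk : k ∈ B.N)
    (hka : hact D k = root) : b * a * k ∉ D.Q := fun h => by
  have h1 : k ∈ B.R := by
    have := mul_mem (inv_mem (B.pair_mem hb ha)) (B.A_R (B.mem_A_of h (mul_mem (B.pair_mem hb ha).1 hk)))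
    rwa [inv_mul_cancel_left] at this
  have h2 := h1.2 y1 (wList_perp _ basis_mem.2.2.2.1).1
  rw [hka, root_apply] at h2
  revert h2
  decide +kernel

/-- The consequences of being an involution, in coordinates. -/
theorem Base.root_equations {b a k : G} (hb : b ∈ B.P) (ha : a ∈ B.A) (hk : k ∈ B.N)
    (hka : hact D k = root) (t1 : B.τ * k = k * B.τ) (t2 : B.τ' * k = k * B.τ')
    (hsq : b * a * k * (b * a * k) = 1) :
    red (B.wv b) ∈ perp12 ∧ red (D.π a) ∈ perp12 ∧ ∃ i : ZMod 2,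
      qf (red (B.wv b)) + bf (red (D.π a)) (red (B.wv b)) + mu i (red (B.wv b)) = 0 ∧
      qf (red (D.π a)) + bf (red (D.π a)) (red (B.wv b)) + mu i (red (D.π a)) = 0 ∧
      ∀ m, bf m e0 = 0 → red m ∈ perp12 → B.bit k m = mu i (red m) := by
  obtain ⟨i, hi⟩ := B.exists_twist hk hka t1 t2
  have hk2 : k * k = 1 := B.lev_lift_sq root_sq hk hka t1 t2
  have hkk : k * (b * a) * k⁻¹ = k * (b * a) * k := by rw [inv_eq_of_mul_eq_one_right hk2]
  have hone : b * a * (k * (b * a) * k⁻¹) = 1 := by rw [hkk, ← hsq]; group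
  obtain ⟨b', hb', a', ha', hconj, hw', hv'⟩ := B.conj_pair hk hb ha
  obtain ⟨a'', ha'', hm, hva⟩ := B.mul_pair hb ha hb' ha'
  rw [hconj, hm] at hone
  obtain ⟨u1, u2⟩ := B.pair_unique (mul_mem hb hb') ha'' (one_mem B.P) (one_mem B.A) (hone.trans (mul_one 1).symm)
  rw [← B.wR_P (mul_mem hb hb').2, ← B.wR_P (one_mem B.P).2, B.wR_Q (one_mem _),
    B.wR_mul (B.P_R hb) (B.P_N hb'), B.wR_P hb.2, B.wR_P hb'.2, hw', hka] at u1
  rw [π_one, red_zero, hva, hv', hka] at u2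
  have hwe := (B.act_P hb).1.1
  have hae := (B.mem_A.1 ha).2
  have hwW := red_mem _ hwe
  have hvW := red_mem _ hae
  rw [red_lev root_lev (wList_perp _ hwW).1, red_wList hwW] at u1
  rw [red_lev root_lev (wList_perp _ hvW).1, red_wList hvW] at u2
  have hwp : red (B.wv b) ∈ perp12 :=
    fixed_perp12 _ hwW (by rw [← root_apply]; exact (eq_of_add_eq_zero u1).symm)
  have hvp : red (D.π a) ∈ perp12 :=
    fixed_perp12 _ hvW (by rw [← root_apply]; exact (eq_of_add_eq_zero u2).symm)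
  refine ⟨hwp, hvp, i, ?_⟩
  -- the kernel part
  have hfix : ∀ {q : G}, bf (D.π q) e0 = 0 → red (D.π q) ∈ perp12 → (hact D k).1 (D.π q) = D.π q := by
    intro q he hp
    obtain ⟨-, p1, p2⟩ := perp12_facts _ hp
    rw [bf_red_left (wList_perp _ basis_mem.1).1] at p1
    rw [bf_red_left (wList_perp _ basis_mem.2.1).1] at p2
    rw [hka, root_apply, long_facts.1 _ p1 p2]
  have ha1 := B.bit_spec hk ha.1 (hfix hae hvp)
  rw [hi _ hae hvp] at ha1
  -- the conjugate part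
  obtain ⟨a₀, ha₀, ha₀π⟩ := D.π_surj (red (B.wv b))
  have ha₀A : a₀ ∈ B.A := B.mem_A.2 ⟨ha₀, by rw [ha₀π]; exact (wList_perp _ hwW).1⟩
  obtain ⟨b₀, hb₀⟩ : ∃ b₀, b₀ = B.τ' * a₀ * B.τ'⁻¹ * a₀⁻¹ := ⟨_, rfl⟩
  have hb₀P : b₀ ∈ B.P := hb₀ ▸ B.τ'_A ha₀A
  have hε : B.InV (b₀⁻¹ * b) := by
    refine B.inV_of_wR (mul_mem (inv_mem hb₀P) hb) ?_
    rw [B.wR_mul (B.P_R (inv_mem hb₀P)) (B.P_N hb), B.wR_inv (B.P_R hb₀P), hb₀, B.τ'_wR ha₀A, ha₀π,
      red_wList hwW, B.wR_P hb.2, add_self]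
  have ha₀1 := B.bit_spec hk ha₀ (hfix (by rw [ha₀π]; exact (wList_perp _ hwW).1)
    (by rw [ha₀π, red_wList hwW]; exact hwp))
  rw [hi _ (by rw [ha₀π]; exact (wList_perp _ hwW).1) (by rw [ha₀π, red_wList hwW]; exact hwp), ha₀π,
    red_wList hwW] at ha₀1
  have hb1 : k * b * k⁻¹ = b * (if mu i (red (B.wv b)) = 0 then 1 else B.s) := by
    obtain ⟨ε, hεd⟩ : ∃ ε, ε = b₀⁻¹ * b := ⟨_, rfl⟩
    rw [← hεd] at hε
    have hbε : b = b₀ * ε := by rw [hεd, mul_inv_cancel_left]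
    have hkε : k * ε * k⁻¹ = ε := B.fix_V (B.N_fix hk).1 (B.N_fix hk).2 hε
    have hkb₀ : k * b₀ * k⁻¹ = b₀ * (if mu i (red (B.wv b)) = 0 then 1 else B.s) := by
      have ht : B.τ'⁻¹ * k = k * B.τ'⁻¹ := ((show Commute B.τ' k from t2).inv_left).eq
      have e1 : k * b₀ * k⁻¹ = B.τ' * (k * a₀ * k⁻¹) * B.τ'⁻¹ * (k * a₀ * k⁻¹)⁻¹ := by
        have ht' : k⁻¹ * B.τ'⁻¹ = B.τ'⁻¹ * k⁻¹ := ((show Commute B.τ' k from t2).inv_left.inv_right).eq.symm
        calc k * b₀ * k⁻¹ = k * B.τ' * a₀ * (B.τ'⁻¹ * (a₀⁻¹ * k⁻¹)) := by rw [hb₀]; group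
          _ = B.τ' * k * a₀ * (B.τ'⁻¹ * (a₀⁻¹ * k⁻¹)) := by rw [t2]
          _ = B.τ' * k * a₀ * (B.τ'⁻¹ * k⁻¹) * (k * a₀⁻¹ * k⁻¹) := by group
          _ = B.τ' * k * a₀ * (k⁻¹ * B.τ'⁻¹) * (k * a₀⁻¹ * k⁻¹) := by rw [ht']
          _ = _ := by group
      rw [e1, ha₀1, hb₀]
      split_ifs
      · group
      · have hz : B.τ' * z * B.τ'⁻¹ * z⁻¹ = B.s := by rw [B.τ'_z, mul_inv_cancel_right]
        have hc : a₀ * B.s = B.s * a₀ := (B.A_fix ha₀A).2
        calc B.τ' * (a₀ * z) * B.τ'⁻¹ * (a₀ * z)⁻¹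
            = B.τ' * a₀ * B.τ'⁻¹ * (B.τ' * z * B.τ'⁻¹ * z⁻¹) * a₀⁻¹ := by group
          _ = B.τ' * a₀ * B.τ'⁻¹ * a₀⁻¹ * (a₀ * B.s * a₀⁻¹) := by rw [hz]; group
          _ = B.τ' * a₀ * B.τ'⁻¹ * a₀⁻¹ * B.s := by rw [hc, mul_inv_cancel_right]
    have hεs : ε * (if mu i (red (B.wv b)) = 0 then 1 else B.s) =
        (if mu i (red (B.wv b)) = 0 then 1 else B.s) * ε := by
      split_ifs
      · rw [one_mul, mul_one]
      · exact (B.A_fix (B.inV_A hε)).2
    calc k * b * k⁻¹ = k * b₀ * k⁻¹ * (k * ε * k⁻¹) := by rw [hbε]; group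
      _ = b₀ * ((if mu i (red (B.wv b)) = 0 then 1 else B.s) * ε) := by rw [hkb₀, hkε, mul_assoc]
      _ = _ := by rw [← hεs, ← mul_assoc, ← hbε]
  have V1 : B.InV (if mu i (red (B.wv b)) = 0 then 1 else B.s) := by
    split_ifs
    exacts [(B.inV_of (Or.inl rfl)).1, (B.inV_of (Or.inr (Or.inr (Or.inl rfl)))).1]
  have V2 : B.InV (if mu i (red (D.π a)) = 0 then 1 else z) := by
    split_ifs
    exacts [(B.inV_of (Or.inl rfl)).1, (B.inV_of (Or.inr (Or.inl rfl))).1]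
  obtain ⟨ε1, hε1⟩ : ∃ ε1, ε1 = if mu i (red (B.wv b)) = 0 then 1 else B.s := ⟨_, rfl⟩
  obtain ⟨ε2, hε2⟩ : ∃ ε2, ε2 = if mu i (red (D.π a)) = 0 then 1 else z := ⟨_, rfl⟩
  rw [← hε1] at V1 hb1
  rw [← hε2] at V2 ha1
  have hfin : b * a * (b * a) * (ε1 * ε2) = 1 := by
    have e : k * (b * a) * k⁻¹ = b * a * (ε1 * ε2) := by
      calc k * (b * a) * k⁻¹ = k * b * k⁻¹ * (k * a * k⁻¹) := by group
        _ = b * (ε1 * a) * ε2 := by rw [hb1, ha1]; group
        _ = b * a * (ε1 * ε2) := by rw [← B.A_comm_V ha V1]; group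
    have h : b * a * (k * (b * a) * k⁻¹) = 1 := by rw [hkk, ← hsq]; group
    rw [e] at h
    rw [← h]; group
  obtain ⟨hV1, hs1, hz1⟩ := B.sq_P hb
  obtain ⟨hV2, hs2, hz2⟩ := B.sq_A ha
  have hV0 := B.cm_mem hb ha
  have inVmul : ∀ {x y : G}, B.InV x → B.InV y → B.InV (x * y) := fun {x y} hx hy =>
    B.meet (mul_mem hx.1 hy.1) (mul_mem (B.inV_of (B.inV_cases hx)).2 (B.inV_of (B.inV_cases hy)).2)
  rw [(B.prod_sq hb ha).1] at hfin
  obtain ⟨a1, a2, a3, a4, a5, a6⟩ := B.bits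
  have hb12 := B.bits_add V1 V2
  have hσ1 : B.σ ε1 = mu i (red (B.wv b)) ∧ B.ζ ε1 = 0 := by
    rw [hε1]; split_ifs with h
    · exact ⟨a5.trans h.symm, a6⟩
    · exact ⟨a2.trans ((zmod2_cases _).resolve_left h).symm, a4⟩
  have hσ2 : B.σ ε2 = 0 ∧ B.ζ ε2 = mu i (red (D.π a)) := by
    rw [hε2]; split_ifs with h
    · exact ⟨a5, a6.trans h.symm⟩
    · exact ⟨a1, a3.trans ((zmod2_cases _).resolve_left h).symm⟩
  have hσ := congrArg B.σ hfin
  rw [(B.bits_add (inVmul (inVmul hV0 hV1) hV2) (inVmul V1 V2)).1, (B.bits_add (inVmul hV0 hV1) hV2).1,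
    (B.bits_add hV0 hV1).1, hb12.1, B.σ_cm hb ha, hs1, hs2, hσ1.1, hσ2.1, a5, add_zero, add_zero] at hσ
  have hζ := congrArg B.ζ hfin
  rw [(B.bits_add (inVmul (inVmul hV0 hV1) hV2) (inVmul V1 V2)).2, (B.bits_add (inVmul hV0 hV1) hV2).2,
    (B.bits_add hV0 hV1).2, hb12.2, B.ζ_cm_eq hb a ha, hz1, hz2, hσ1.2, hσ2.2, a6, add_zero, zero_add] at hζ
  refine ⟨?_, ?_, hi⟩
  · rw [qf_red hwe, bf_red hae hwe, add_comm (qf (B.wv b))]
    exact hσ
  · rw [qf_red hae, bf_red hae hwe, add_comm (qf (D.π a))]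
    exact hζ

/-- A twisted involution over the long root element is conjugate to one of rank two. -/
theorem Base.reduce_root {b a k : G} (hb : b ∈ B.P) (ha : a ∈ B.A) (hk : k ∈ B.N)
    (hka : hact D k = root) (t1 : B.τ * k = k * B.τ) (t2 : B.τ' * k = k * B.τ')
    (hsq : b * a * k * (b * a * k) = 1) :
    ∃ c : G, c * (b * a * k) * c⁻¹ ∈ centralizer ({z} : Set G) ∧ c * (b * a * k) * c⁻¹ ∉ D.Q ∧
      Module.finrank (ZMod 2) (LinearMap.range (disp (hact D (c * (b * a * k) * c⁻¹)))) = 2 ∧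
      ((∃ n, qf (disp (hact D (b * a * k)) n) = 1) → HasZ D (c * (b * a * k) * c⁻¹)) := by
  obtain ⟨hwp, hvp, i, h1, h2, hi⟩ := B.root_equations hb ha hk hka t1 t2 hsq
  obtain ⟨hcases, hq1⟩ := mu_facts i _ hwp _ hvp h1 h2
  have fin : ∀ {c b' a' : G}, b' ∈ B.P → a' ∈ B.A → c * (b * a * k) * c⁻¹ = b' * a' * k →
      red (B.wv b') ∈ perp12 → bar (red (B.wv b')) = 0 → red (D.π a') ∈ perp12 →
      (qf (red (B.wv b)) = 1 → bar (red (D.π a')) = (1, 1)) →
      ∃ c : G, c * (b * a * k) * c⁻¹ ∈ centralizer ({z} : Set G) ∧ c * (b * a * k) * c⁻¹ ∉ D.Q ∧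
        Module.finrank (ZMod 2) (LinearMap.range (disp (hact D (c * (b * a * k) * c⁻¹)))) = 2 ∧
        ((∃ n, qf (disp (hact D (b * a * k)) n) = 1) → HasZ D (c * (b * a * k) * c⁻¹)) := by
    intro c b' a' hb' ha' he hwp' hbar hvp' hz'
    have hC : b' * a' * k ∈ centralizer ({z} : Set G) :=
      mul_mem (mul_mem hb'.2 (mem_C D ha'.1)) (B.N_C hk)
    have hnQ := B.not_mem_Q_root hb' ha' hk hka
    refine ⟨c, he ▸ hC, he ▸ hnQ, ?_, fun ⟨n, hn⟩ => ?_⟩
    · rw [he]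
      have h3 := B.rank_le_three hb' ha' hk hka hwp' hbar
      have hx2 : b' * a' * k * (b' * a' * k) = 1 := by
        rw [← he, show c * (b * a * k) * c⁻¹ * (c * (b * a * k) * c⁻¹) =
          c * (b * a * k * (b * a * k)) * c⁻¹ by group, hsq]
        group
      rcases rank_cases (hact_sq hC hx2) (hact_mem _) (fun e => hnQ (mem_Q_of_hact hC e)) with h | ⟨h, -⟩
      · exact h
      · omega
    · have hq : qf (red (B.wv b)) = 1 := by
        refine (zmod2_cases _).resolve_left fun e => ?_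
        rw [B.ts_of_singular hb ha hk hka hwp e] at hn
        exact zero_ne_one hn
      rw [he]
      obtain ⟨q, hqQ, hqπ⟩ := D.π_surj w2
      have hw2W := basis_mem.2.2.2.2.2.2.1
      have hqA : q ∈ B.A := B.mem_A.2 ⟨hqQ, by rw [hqπ]; exact (wList_perp _ hw2W).1⟩
      have hwp2 : w2 ∈ perp12 := mem_perp12 hw2W (by rw [bf_comm]; exact long_facts.2.2.2.2.2.2.2.2.2.2.2.2.1)
        long_facts.2.2.2.2.2.2.2.2.2.2.2.2.2.2
      have hfix : (hact D k).1 (D.π q) = D.π q := by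
        obtain ⟨-, p1, p2⟩ := perp12_facts _ hwp2
        rw [hka, root_apply, hqπ, long_facts.1 _ p1 p2]
      have hkq := B.bit_spec hk hqQ hfix
      rw [hi _ (B.mem_A.1 hqA).2 (by rw [hqπ, red_wList hw2W]; exact hwp2), hqπ, red_wList hw2W,
        show mu i w2 = 1 from (by decide +kernel : ∀ i : ZMod 2, mu i w2 = 1) i, if_neg one_ne_zero] at hkq
      have hba : b' * a' * q * (b' * a')⁻¹ = q := by
        have e1 : a' * q = q * a' := (D.comm_iff _ ha'.1 _ hqQ).2 (by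
          rw [hqπ, ← bf_red_left (wList_perp _ hw2W).1]; exact (perp12_bar _ hvp').2 (hz' hq))
        have e2 : b' * q = q * b' := by
          have := B.cm_eq hb' hqA
          rw [hqπ, ← bf_red_right (wList_perp _ hw2W).1, bf_comm, ((perp12_bar _ hwp').1 hbar).1, if_pos rfl,
            cm, mul_inv_eq_one, mul_inv_eq_iff_eq_mul] at this
          exact this
        calc b' * a' * q * (b' * a')⁻¹ = b' * (a' * q) * a'⁻¹ * b'⁻¹ := by group
          _ = b' * q * b'⁻¹ := by rw [e1]; group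
          _ = q := by rw [e2, mul_inv_cancel_right]
      refine ⟨q, hqQ, ?_⟩
      obtain ⟨x, hxd⟩ : ∃ x, x = b' * a' * k := ⟨_, rfl⟩
      have hxq : x * q * x⁻¹ = q * z := by
        have hzc : b' * a' * z * (b' * a')⁻¹ = z := by
          rw [mem_centralizer_singleton_iff.1 (mul_mem hb'.2 (mem_C D ha'.1)), mul_inv_cancel_right]
        calc x * q * x⁻¹ = b' * a' * (k * q * k⁻¹) * (b' * a')⁻¹ := by rw [hxd]; group
          _ = b' * a' * q * (b' * a')⁻¹ * (b' * a' * z * (b' * a')⁻¹) := by rw [hkq]; group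
          _ = q * z := by rw [hba, hzc]
      rw [← hxd]
      have hxz := mem_centralizer_singleton_iff.1 (hxd ▸ hC : x ∈ centralizer ({z} : Set G))
      have hqz := (D.pre.gen.comm_z q hqQ).eq
      have hzz := D.pre.gen.sq
      have h3 : x * q = q * z * x := mul_inv_eq_iff_eq_mul.1 hxq
      have h4 : q * x = z * (x * q) := by
        rw [h3, hqz, ← mul_assoc, ← mul_assoc, hzz, one_mul]
      rw [h4]
      group
  have conjk : ∀ {c : G}, c * k = k * c → ∀ y, c * (y * k) * c⁻¹ = c * y * c⁻¹ * k := by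
    intro c hc y
    have hc' : k * c⁻¹ = c⁻¹ * k := ((show Commute c k from hc).inv_left).eq.symm
    calc c * (y * k) * c⁻¹ = c * y * (k * c⁻¹) := by group
      _ = c * y * c⁻¹ * k := by rw [hc']; group
  by_cases hw0 : bar (red (B.wv b)) = 0
  · refine fin (c := 1) hb ha (by group) hwp hw0 hvp fun hq => ?_
    rw [(hq1 hq).1] at hw0
    exact absurd hw0 (by decide)
  by_cases hv0 : bar (red (D.π a)) = 0
  · obtain ⟨a', ha', e1, hv'⟩ := B.τ_pair hb ha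
    obtain ⟨b', hb', e2, hw'⟩ := B.τ'_pair hb ha'
    rw [hv', ← add_assoc, add_comm (red (B.wv b)), add_assoc, add_self, add_zero] at hw'
    refine fin (c := B.τ' * B.τ) hb' ha' ?_ (hw' ▸ hvp) (hw' ▸ hv0)
      (hv' ▸ (perp12_add _ hvp _ hwp).1) fun hq => by
        rw [hv', (perp12_add _ hvp _ hwp).2, hv0, zero_add, (hq1 hq).1]
    rw [conjk ((show Commute B.τ' k from t2).mul_left t1).eq,
      show B.τ' * B.τ * (b * a) * (B.τ' * B.τ)⁻¹ = B.τ' * (B.τ * (b * a) * B.τ⁻¹) * B.τ'⁻¹ by group, e1, e2]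
  · have hwv : bar (red (B.wv b)) = bar (red (D.π a)) := by tauto
    obtain ⟨b', hb', e2, hw'⟩ := B.τ'_pair hb ha
    refine fin (c := B.τ') hb' ha (by rw [conjk t2, e2]) (hw' ▸ (perp12_add _ hwp _ hvp).1)
      (by rw [hw', (perp12_add _ hwp _ hvp).2, hwv, (by decide : ∀ p : ZMod 2 × ZMod 2, p + p = 0)]) hvp fun hq => by
        rw [← hwv, (hq1 hq).1]

end CfsgLib.Co1Invol
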