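import Cfsg.Agent.Quad.OmegaMem
import Cfsg.Agent.Quad.Siegel
import Cfsg.Agent.Quad.Concrete
import Cfsg.Agent.Quad.SimpleOmega
import Cfsg.Agent.Quad.Orders

/-!
Finite checks in the eight-dimensional orthogonal space of plus type over two elements, around a
singular point.
-/

set_option autoImplicit false
set_option maxRecDepth 100000
set_option synthInstance.maxSize 4096
set_option linter.style.haveILetI false

namespace CfsgLib.Co1Invol

open CfsgLib.Quad QuadraticMap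

/-- Coordinates. -/
abbrev I8 : Type := Fin 4 ⊕ Fin 4

/-- The space. -/
abbrev M8 : Type := I8 → ZMod 2

/-- The form. -/
abbrev q8 : QuadraticForm (ZMod 2) M8 := plusQ 4

/-- The orthogonal group. -/
abbrev O8 : Type := ↥(oGroup q8)

instance : Finite O8 := Finite.of_injective (fun g : O8 => (g.1 : M8 → M8))
  fun _ _ e => Subtype.ext (LinearEquiv.ext fun v => congrFun e v)

/-- A computable copy of the form. -/
def qf (v : M8) : ZMod 2 :=
  v (.inl 0) * v (.inr 0) + v (.inl 1) * v (.inr 1) + v (.inl 2) * v (.inr 2) + v (.inl 3) * v (.inr 3)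

/-- Its polar form. -/
def bf (u v : M8) : ZMod 2 :=
  u (.inl 0) * v (.inr 0) + u (.inr 0) * v (.inl 0) + u (.inl 1) * v (.inr 1) + u (.inr 1) * v (.inl 1) +
    u (.inl 2) * v (.inr 2) + u (.inr 2) * v (.inl 2) + u (.inl 3) * v (.inr 3) + u (.inr 3) * v (.inl 3)

theorem zmod2_cases : ∀ a : ZMod 2, a = 0 ∨ a = 1 := by decide

theorem q8_eq (v : M8) : q8 v = qf v := by
  rw [plusQ_coe]
  simp only [Cfsg.quadFormPlus, qf, Fin.sum_univ_four]

theorem qf_add (u v : M8) : qf (u + v) = qf u + qf v + bf u v := by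
  simp only [qf, bf, Pi.add_apply]; ring

theorem polar_eq (u v : M8) : polar q8 u v = bf u v := by
  rw [polar, q8_eq, q8_eq, q8_eq, qf_add]; ring

theorem bf_comm (u v : M8) : bf u v = bf v u := by simp only [bf]; ring

theorem bf_add_left (u v w : M8) : bf (u + v) w = bf u w + bf v w := by
  simp only [bf, Pi.add_apply]; ring

theorem bf_add_right (u v w : M8) : bf u (v + w) = bf u v + bf u w := by
  simp only [bf, Pi.add_apply]; ring

theorem bf_smul_left (c : ZMod 2) (u w : M8) : bf (c • u) w = c * bf u w := by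
  simp only [bf, Pi.smul_apply, smul_eq_mul]; ring

theorem bf_smul_right (c : ZMod 2) (u w : M8) : bf u (c • w) = c * bf u w := by
  simp only [bf, Pi.smul_apply, smul_eq_mul]; ring

theorem bf_zero_right (u : M8) : bf u 0 = 0 := by simp [bf]

theorem bf_zero_left (u : M8) : bf 0 u = 0 := by simp [bf]

theorem bf_self (u : M8) : bf u u = 0 := by
  rw [← polar_eq, polar_self, show (2 : ℕ) • q8 u = q8 u + q8 u from two_nsmul _]
  exact CharTwo.add_self_eq_zero _

theorem nondeg8 : (polarBilin q8).Nondegenerate :=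
  plusQ_nondeg 4

theorem hgen8 : (∃ t : ZMod 2, t ≠ 0 ∧ t ≠ 1) ∨ Module.finrank (ZMod 2) M8 ≠ 4 :=
  Or.inr (by simp)

theorem finrank8 : Module.finrank (ZMod 2) M8 = 8 := by simp

theorem add_self (u : M8) : u + u = 0 := funext fun _ => CharTwo.add_self_eq_zero _

theorem eq_zero_of_bf {u : M8} (h : ∀ v, bf u v = 0) : u = 0 :=
  nondeg8.1 u fun v => by rw [polarBilin_apply_apply, polar_eq, h]

theorem bf_oGroup (g : O8) (u v : M8) : bf (g.1 u) (g.1 v) = bf u v := by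
  rw [← polar_eq, ← polar_eq, polar_oGroup]

theorem qf_oGroup (g : O8) (u : M8) : qf (g.1 u) = qf u := by rw [← q8_eq, ← q8_eq, g.2]

theorem eq_of_add_eq_zero {u v : M8} (h : u + v = 0) : u = v := add_right_cancel (h.trans (add_self v).symm)

theorem oGroup_apply_inv (g : O8) (u : M8) : g.1 ((g⁻¹).1 u) = u := g.1.apply_symm_apply u

/-- The singular point. -/
def e0 : M8 := Sum.elim ![1, 0, 0, 0] 0

/-- A singular vector not orthogonal to it. -/
def f0 : M8 := Sum.elim 0 ![1, 0, 0, 0]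

/-- The vectors of the orthogonal complement of the hyperbolic pair. -/
def mkW (a b c d e f : ZMod 2) : M8 := Sum.elim ![0, a, b, c] ![0, d, e, f]

/-- Basis vector. -/
def x1 : M8 := mkW 1 0 0 0 0 0

/-- Basis vector. -/
def x2 : M8 := mkW 0 1 0 0 0 0

/-- Basis vector. -/
def x3 : M8 := mkW 0 0 1 0 0 0

/-- Basis vector. -/
def y1 : M8 := mkW 0 0 0 1 0 0

/-- Basis vector. -/
def y2 : M8 := mkW 0 0 0 0 1 0

/-- Basis vector. -/
def y3 : M8 := mkW 0 0 0 0 0 1

/-- An anisotropic vector. -/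
def w2 : M8 := mkW 0 0 1 0 0 1

/-- An anisotropic vector spanning an elliptic line with it. -/
def v2 : M8 := mkW 0 1 1 0 1 0

/-- A vector orthogonal to the elliptic line. -/
def k3 : M8 := mkW 0 1 0 0 1 0

/-- Its partner. -/
def k4 : M8 := mkW 0 1 1 0 0 1

theorem base_facts : qf e0 = 0 ∧ qf f0 = 0 ∧ bf e0 f0 = 1 ∧ e0 ≠ 0 := by decide +kernel

theorem q_e0 : qf e0 = 0 := base_facts.1

theorem q_f0 : qf f0 = 0 := base_facts.2.1

theorem b_ef : bf e0 f0 = 1 := base_facts.2.2.1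

theorem e0_ne : e0 ≠ 0 := base_facts.2.2.2

theorem qf_zero : qf (0 : M8) = 0 := by simp [qf]

theorem b_fe : bf f0 e0 = 1 := by rw [bf_comm, b_ef]

/-- Its elements. -/
def wList : List M8 := do
  let a ← [(0 : ZMod 2), 1]
  let b ← [(0 : ZMod 2), 1]
  let c ← [(0 : ZMod 2), 1]
  let d ← [(0 : ZMod 2), 1]
  let e ← [(0 : ZMod 2), 1]
  let f ← [(0 : ZMod 2), 1]
  return mkW a b c d e f

/-- Normal form modulo the singular point. -/
def red (m : M8) : M8 := m + bf m f0 • e0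

theorem red_mem : ∀ m : M8, bf m e0 = 0 → red m ∈ wList := by decide +kernel

theorem wList_perp : ∀ w ∈ wList, bf w e0 = 0 ∧ bf w f0 = 0 := by decide +kernel

theorem basis_mem : x1 ∈ wList ∧ x2 ∈ wList ∧ x3 ∈ wList ∧ y1 ∈ wList ∧ y2 ∈ wList ∧ y3 ∈ wList ∧
    w2 ∈ wList ∧ v2 ∈ wList ∧ k3 ∈ wList ∧ k4 ∈ wList ∧ (0 : M8) ∈ wList := by
  refine ⟨?_, ?_, ?_, ?_, ?_, ?_, ?_, ?_, ?_, ?_, ?_⟩ <;> decide +kernel

theorem red_wList {w : M8} (hw : w ∈ wList) : red w = w := by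
  rw [red, (wList_perp w hw).2, zero_smul, add_zero]

theorem red_cases (m : M8) : m = red m ∨ m = red m + e0 := by
  rcases zmod2_cases (bf m f0) with h | h <;> rw [red, h]
  · left; rw [zero_smul, add_zero]
  · right; rw [one_smul, add_assoc, add_self, add_zero]

theorem red_add (m n : M8) : red (m + n) = red m + red n := by
  simp only [red, bf_add_left, add_smul]; abel

theorem red_e0 : red e0 = 0 := by decide +kernel

theorem qf_red {m : M8} (h : bf m e0 = 0) : qf (red m) = qf m := by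
  rw [red, qf_add]
  rcases zmod2_cases (bf m f0) with c | c <;> rw [c]
  · rw [zero_smul, bf_zero_right, qf_zero, add_zero, add_zero]
  · rw [one_smul, h, q_e0, add_zero, add_zero]

theorem bf_red {m n : M8} (hm : bf m e0 = 0) (hn : bf n e0 = 0) : bf (red m) (red n) = bf m n := by
  have hee : bf e0 e0 = 0 := bf_self _
  simp only [red, bf_add_left, bf_add_right, bf_smul_left, bf_smul_right, hm, bf_comm e0 n, hn, hee]
  ring

theorem red_zero : red 0 = 0 := by decide +kernel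

theorem red_smul_e0 : ∀ t : ZMod 2, red (t • e0) = 0 := by decide +kernel

theorem wList_of_perp {m : M8} (he : bf m e0 = 0) (hf : bf m f0 = 0) : m ∈ wList := by
  have h := red_mem m he
  rwa [red, hf, zero_smul, add_zero] at h

theorem wList_add {u v : M8} (hu : u ∈ wList) (hv : v ∈ wList) : u + v ∈ wList :=
  wList_of_perp (by rw [bf_add_left, (wList_perp u hu).1, (wList_perp v hv).1, add_zero])
    (by rw [bf_add_left, (wList_perp u hu).2, (wList_perp v hv).2, add_zero])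

theorem bf_red_left {m n : M8} (hn : bf n e0 = 0) : bf (red m) n = bf m n := by
  rw [red, bf_add_left, bf_smul_left, bf_comm e0, hn, mul_zero, add_zero]

theorem bf_red_right {m n : M8} (hm : bf m e0 = 0) : bf m (red n) = bf m n := by
  rw [bf_comm, bf_red_left hm, bf_comm]

/-- The Siegel map, computably. -/
def sm (e a x : M8) : M8 := x + bf x e • a + (bf x a + qf a * bf x e) • e

theorem siegel_sm {e a : M8} (he : qf e = 0) (hea : bf e a = 0) (x : M8) :
    (siegel q8 e a).1 x = sm e a x := by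
  rw [siegel_apply (by rw [q8_eq, he]) (by rw [polar_eq, hea]), polar_eq, polar_eq, q8_eq, sm,
    sub_eq_add_neg]
  congr 1
  funext k
  exact CharTwo.neg_eq _

theorem sm_mem {e a : M8} (he : qf e = 0) (hea : bf e a = 0) :
    siegel q8 e a ∈ commutator (oGroup q8) :=
  siegelGroup_le_commutator nondeg8 (by simp) (siegel_mem_group (by rw [q8_eq, he]) (by rw [polar_eq, hea]))

theorem sm_e0 {e a : M8} (he : e ∈ wList) (ha : a ∈ wList) : sm e a e0 = e0 := by
  rw [sm, bf_comm e0 e, (wList_perp e he).1, bf_comm e0 a, (wList_perp a ha).1, zero_smul, mul_zero,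
    add_zero, add_zero, zero_smul, add_zero]

theorem sm_f0 {e a : M8} (he : e ∈ wList) (ha : a ∈ wList) : sm e a f0 = f0 := by
  rw [sm, bf_comm f0 e, (wList_perp e he).2, bf_comm f0 a, (wList_perp a ha).2, zero_smul, mul_zero,
    add_zero, add_zero, zero_smul, add_zero]

theorem sm_fix {e a w : M8} (h1 : bf w e = 0) (h2 : bf w a = 0) : sm e a w = w := by
  rw [sm, h1, h2, zero_smul, mul_zero, add_zero, add_zero, zero_smul, add_zero]

/-- The isometries fixing the hyperbolic pair. -/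
def lev : Subgroup O8 where
  carrier := {g | g ∈ commutator (oGroup q8) ∧ g.1 e0 = e0 ∧ g.1 f0 = f0}
  one_mem' := ⟨one_mem _, rfl, rfl⟩
  mul_mem' := by
    rintro a b ⟨a1, a2, a3⟩ ⟨b1, b2, b3⟩
    refine ⟨mul_mem a1 b1, ?_, ?_⟩
    · show a.1 (b.1 e0) = e0; rw [b2, a2]
    · show a.1 (b.1 f0) = f0; rw [b3, a3]
  inv_mem' := by
    rintro a ⟨a1, a2, a3⟩
    refine ⟨inv_mem a1, ?_, ?_⟩
    · conv_lhs => rw [← a2]
      exact a.1.symm_apply_apply e0
    · conv_lhs => rw [← a3]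
      exact a.1.symm_apply_apply f0

theorem lev_wList {h : O8} (hh : h ∈ lev) {w : M8} (hw : w ∈ wList) : h.1 w ∈ wList :=
  wList_of_perp (by conv_lhs => rw [← hh.2.1, bf_oGroup, (wList_perp w hw).1])
    (by conv_lhs => rw [← hh.2.2, bf_oGroup, (wList_perp w hw).2])

theorem siegel_mem_lev {e a : M8} (he : e ∈ wList) (ha : a ∈ wList) (hq : qf e = 0) (hea : bf e a = 0) :
    siegel q8 e a ∈ lev :=
  ⟨sm_mem hq hea, by rw [siegel_sm hq hea]; exact sm_e0 he ha, by rw [siegel_sm hq hea]; exact sm_f0 he ha⟩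

/-! ### Finite checks in the complement -/

theorem sing_moved' : ∀ m : M8, qf m = 0 → bf m e0 = 0 → m ≠ 0 → m ≠ e0 →
    ∃ e ∈ wList, qf e = 0 ∧ bf m e = 1 ∧ ∃ a ∈ wList, bf e a = 0 ∧ qf a = 1 := by decide +kernel

theorem sing_moved {m : M8} (h1 : qf m = 0) (h2 : bf m e0 = 0) (h3 : m ≠ 0) (h4 : m ≠ e0) :
    ∃ e ∈ wList, ∃ a ∈ wList, qf e = 0 ∧ bf e a = 0 ∧ bf m (sm e a m) = 1 := by
  obtain ⟨e, he, hqe, hme, a, ha, hea, hqa⟩ := sing_moved' m h1 h2 h3 h4
  refine ⟨e, he, a, ha, hqe, hea, ?_⟩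
  rw [sm, bf_add_right, bf_add_right, bf_smul_right, bf_smul_right, bf_self, hme, hqa]
  ring_nf
  rcases zmod2_cases (bf m a) with h | h <;> rw [h] <;> decide

theorem moved_point : ∀ w ∈ wList, ∀ v ∈ wList, v ≠ 0 → v ≠ w →
    ∃ e ∈ wList, qf e = 0 ∧ bf w e = 0 ∧ bf v e = 1 := by decide +kernel

theorem moved_dir : ∀ e ∈ wList, qf e = 0 → ∀ w ∈ wList, bf w e = 0 →
    ∃ a ∈ wList, bf e a = 0 ∧ bf w a = 0 ∧ a ≠ 0 ∧ a ≠ e := by decide +kernel

theorem functional_moved {w v : M8} (hw : w ∈ wList) (hv : v ∈ wList) (h0 : v ≠ 0) (hvw : v ≠ w) :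
    ∃ e ∈ wList, ∃ a ∈ wList, qf e = 0 ∧ bf e a = 0 ∧ sm e a w = w ∧ sm e a v ≠ v := by
  obtain ⟨e, he, hqe, hwe, hve⟩ := moved_point w hw v hv h0 hvw
  obtain ⟨a, ha, hea, hwa, ha0, hae⟩ := moved_dir e he hqe w hw hwe
  refine ⟨e, he, a, ha, hqe, hea, sm_fix hwe hwa, fun h => ?_⟩
  rw [sm, hve, one_smul, add_assoc, add_eq_left] at h
  rcases zmod2_cases (bf v a + qf a * 1) with h' | h' <;> rw [h'] at h
  · exact ha0 (by rwa [zero_smul, add_zero] at h)
  · exact hae (eq_of_add_eq_zero (by rwa [one_smul] at h))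

theorem ell_first : ∀ w ∈ wList, qf w = 1 →
    ∃ e ∈ wList, qf e = 0 ∧ ∃ a ∈ wList, bf e a = 0 ∧ sm e a w2 = w := by decide +kernel

theorem ell_second : ∀ v ∈ wList, qf v = 1 → bf w2 v = 1 →
    ∃ e ∈ wList, qf e = 0 ∧ bf w2 e = 0 ∧ ∃ a ∈ wList, bf e a = 0 ∧ bf w2 a = 0 ∧ sm e a v2 = v := by
  decide +kernel

theorem sing_first : ∀ w ∈ wList, qf w = 0 → w ≠ 0 →
    ∃ e ∈ wList, qf e = 0 ∧ ∃ a ∈ wList, bf e a = 0 ∧ sm e a x1 = w := by decide +kernel

theorem sing_second : ∀ v ∈ wList, qf v = 0 → bf x1 v = 0 → v ≠ 0 → v ≠ x1 →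
    ∃ e ∈ wList, qf e = 0 ∧ bf x1 e = 0 ∧ ∃ a ∈ wList, bf e a = 0 ∧ bf x1 a = 0 ∧ sm e a x2 = v := by
  decide +kernel

theorem pair_facts : qf w2 = 1 ∧ qf v2 = 1 ∧ bf w2 v2 = 1 ∧ qf x1 = 0 ∧ qf x2 = 0 ∧ bf x1 x2 = 0 ∧
    x1 ≠ 0 ∧ x2 ≠ 0 ∧ x2 ≠ x1 ∧ w2 ≠ 0 ∧ v2 ≠ 0 ∧ v2 ≠ w2 := by decide +kernel

/-- The fixed group of the hyperbolic pair is transitive on elliptic pairs. -/
theorem elliptic_transitive {w v : M8} (hw : w ∈ wList) (hv : v ∈ wList) (h1 : qf w = 1)
    (h2 : qf v = 1) (h3 : bf w v = 1) : ∃ h ∈ lev, h.1 w2 = w ∧ h.1 v2 = v := by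
  obtain ⟨e, he, hqe, a, ha, hea, hg⟩ := ell_first w hw h1
  set g := siegel q8 e a
  have hgl : g ∈ lev := siegel_mem_lev he ha hqe hea
  have hgw : g.1 w2 = w := by rw [siegel_sm hqe hea, hg]
  have hgv : g.1 ((g⁻¹).1 v) = v := oGroup_apply_inv g v
  have hb : bf w2 ((g⁻¹).1 v) = 1 := by rw [← bf_oGroup g, hgw, hgv, h3]
  obtain ⟨e', he', hqe', hwe', a', ha', hea', hwa', hg'⟩ := ell_second _ (lev_wList (inv_mem hgl) hv)
    (by rw [qf_oGroup, h2]) hb
  refine ⟨g * siegel q8 e' a', mul_mem hgl (siegel_mem_lev he' ha' hqe' hea'), ?_, ?_⟩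
  · show g.1 ((siegel q8 e' a').1 w2) = w
    rw [siegel_sm hqe' hea', sm_fix hwe' hwa', hgw]
  · show g.1 ((siegel q8 e' a').1 v2) = v
    rw [siegel_sm hqe' hea', hg', hgv]

/-- The fixed group of the hyperbolic pair is transitive on bases of totally singular lines. -/
theorem singular_transitive {w v : M8} (hw : w ∈ wList) (hv : v ∈ wList) (h1 : qf w = 0)
    (h2 : qf v = 0) (h3 : bf w v = 0) (hw0 : w ≠ 0) (hv0 : v ≠ 0) (hvw : v ≠ w) :
    ∃ h ∈ lev, h.1 x1 = w ∧ h.1 x2 = v := by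
  obtain ⟨e, he, hqe, a, ha, hea, hg⟩ := sing_first w hw h1 hw0
  set g := siegel q8 e a
  have hgl : g ∈ lev := siegel_mem_lev he ha hqe hea
  have hgw : g.1 x1 = w := by rw [siegel_sm hqe hea, hg]
  have hgv : g.1 ((g⁻¹).1 v) = v := oGroup_apply_inv g v
  have hb : bf x1 ((g⁻¹).1 v) = 0 := by rw [← bf_oGroup g, hgw, hgv, h3]
  obtain ⟨e', he', hqe', hwe', a', ha', hea', hwa', hg'⟩ := sing_second _ (lev_wList (inv_mem hgl) hv)
    (by rw [qf_oGroup, h2]) hb (fun e => hv0 (by rw [← hgv, e, map_zero]))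
    (fun e => hvw (by rw [← hgv, e, hgw]))
  refine ⟨g * siegel q8 e' a', mul_mem hgl (siegel_mem_lev he' ha' hqe' hea'), ?_, ?_⟩
  · show g.1 ((siegel q8 e' a').1 x1) = w
    rw [siegel_sm hqe' hea', sm_fix hwe' hwa', hgw]
  · show g.1 ((siegel q8 e' a').1 x2) = v
    rw [siegel_sm hqe' hea', hg', hgv]

theorem exists_dual : ∀ w ∈ wList, w ≠ 0 → ∃ v ∈ wList, bf w v = 1 := by decide +kernel

theorem span_pair' : ∀ w ∈ wList, ∀ v ∈ wList, w ≠ 0 → v ≠ 0 → v ≠ w →
    (∃ k ∈ wList, bf w k = 1 ∧ bf v k = 0) ∧ ∃ k ∈ wList, bf w k = 0 ∧ bf v k = 1 := by decide +kernel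

theorem span_pair {w v : M8} (hw : w ∈ wList) (hv : v ∈ wList) (hw0 : w ≠ 0) (hv0 : v ≠ 0) (hvw : v ≠ w)
    (i j : ZMod 2) : ∃ k ∈ wList, bf w k = i ∧ bf v k = j := by
  obtain ⟨⟨k, hk, k1, k2⟩, ⟨l, hl, l1, l2⟩⟩ := span_pair' w hw v hv hw0 hv0 hvw
  rcases zmod2_cases i with rfl | rfl <;> rcases zmod2_cases j with rfl | rfl
  · exact ⟨0, basis_mem.2.2.2.2.2.2.2.2.2.2, bf_zero_right _, bf_zero_right _⟩
  · exact ⟨l, hl, l1, l2⟩
  · exact ⟨k, hk, k1, k2⟩
  · exact ⟨k + l, wList_add hk hl, by rw [bf_add_right, k1, l1, add_zero],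
      by rw [bf_add_right, k2, l2, zero_add]⟩

/-! ### The radical of the point stabiliser -/

/-- An element of the radical. -/
def uMap (w m : M8) : M8 := m + bf (m + bf m e0 • f0) w • e0 + bf m e0 • w

/-- The admissible parameters. -/
def Adm (w : M8) : Prop := bf w e0 = 0 ∧ qf w = bf f0 w

instance (w : M8) : Decidable (Adm w) := by unfold Adm; infer_instance

theorem card_adm : Nat.card {w : M8 // Adm w} = 64 := by
  rw [Nat.card_eq_fintype_card, Fintype.card_subtype]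
  decide +kernel

theorem radical_eq {g : O8} (he : g.1 e0 = e0)
    (ht : ∀ m, bf m e0 = 0 → g.1 m + m = 0 ∨ g.1 m + m = e0) :
    Adm (g.1 f0 + f0) ∧ ∀ m, g.1 m = uMap (g.1 f0 + f0) m := by
  obtain ⟨w, hw⟩ : ∃ w, w = g.1 f0 + f0 := ⟨_, rfl⟩
  rw [← hw]
  have hgf : g.1 f0 = f0 + w := by rw [hw, add_comm, add_assoc, add_self, add_zero]
  have hwe : bf w e0 = 0 := by
    rw [hw, bf_add_left]
    conv_lhs => arg 1; rw [← he]
    rw [bf_oGroup]
    exact CharTwo.add_self_eq_zero _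
  refine ⟨⟨hwe, ?_⟩, fun m => ?_⟩
  · have h := qf_oGroup g f0
    rw [hgf, qf_add, base_facts.2.1, zero_add] at h
    exact CharTwo.add_eq_zero.1 h
  · set c := bf m e0
    set m' := m + c • f0 with hm'
    have hm'e : bf m' e0 = 0 := by
      rw [hm', bf_add_left, bf_smul_left, b_fe, mul_one]
      exact CharTwo.add_self_eq_zero _
    have hgm' : g.1 m' = m' + bf m' w • e0 := by
      obtain ⟨l, hl⟩ : ∃ l : ZMod 2, g.1 m' = m' + l • e0 := by
        rcases ht m' hm'e with h | h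
        · exact ⟨0, by rw [zero_smul, add_zero]; exact add_right_cancel (h.trans (add_self m').symm)⟩
        · refine ⟨1, ?_⟩
          rw [one_smul, ← h, add_comm, add_assoc, add_self, add_zero]
      have h := bf_oGroup g m' f0
      rw [hl, hgf, bf_add_left, bf_add_right, bf_smul_left, bf_add_right, b_ef, bf_comm e0 w, hwe,
        add_zero, mul_one] at h
      have : l = bf m' w := by
        rcases zmod2_cases l with a | a <;> rcases zmod2_cases (bf m' w) with b | b <;>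
          rw [a, b] at h ⊢ <;> revert h <;> generalize bf m' f0 = x <;> revert x <;> decide
      rw [hl, this]
    have hmm : m = m' + c • f0 := by rw [hm', add_assoc, add_self, add_zero]
    conv_lhs => rw [hmm, map_add, map_smul, hgm', hgf, smul_add]
    rw [uMap]
    show m' + bf m' w • e0 + (c • f0 + c • w) = m + bf m' w • e0 + c • w
    rw [hmm]
    abel

theorem uMap_f0 {w : M8} : uMap w f0 + f0 = w := by
  rw [uMap, b_fe, one_smul, add_self, bf_zero_left, zero_smul, add_zero, one_smul, add_comm,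
    ← add_assoc, add_self, zero_add]

/-- Totally singular displacement. -/
def TS (g : O8) : Prop := ∀ m, qf (g.1 m + m) = 0

theorem ts_conj (g h : O8) (hg : TS g) : TS (h * g * h⁻¹) := by
  intro m
  have e : (h * g * h⁻¹).1 m + m = h.1 (g.1 ((h⁻¹).1 m) + (h⁻¹).1 m) := by
    rw [map_add]
    congr 1
    show m = (h * h⁻¹).1 m
    rw [mul_inv_cancel]; rfl
  rw [e, qf_oGroup, hg]

theorem ts_uMap {g : O8} {w : M8} (hw : bf w e0 = 0) (hg : ∀ m, g.1 m = uMap w m) :
    TS g ↔ qf w = 0 := by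
  have key : ∀ m, g.1 m + m = bf (m + bf m e0 • f0) w • e0 + bf m e0 • w := fun m => by
    rw [hg, uMap]
    abel_nf
    simp [two_smul, add_self]
  constructor
  · intro h
    have := h f0
    rw [key, b_fe, one_smul, add_self, bf_zero_left, zero_smul, zero_add, one_smul] at this
    exact this
  · intro h m
    rw [key, qf_add]
    generalize bf (m + bf m e0 • f0) w = A
    generalize bf m e0 = B
    rcases zmod2_cases A with a | a <;> rcases zmod2_cases B with b | b <;>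
      simp [a, b, h, q_e0, bf_zero_left, bf_zero_right, bf_comm e0 w, hw, show qf 0 = 0 from by decide +kernel]

/-! ### Coordinates -/

theorem basis_expand : ∀ m : M8,
    m = bf m f0 • e0 + bf m e0 • f0 + bf m y1 • x1 + bf m x1 • y1 + bf m y2 • x2 + bf m x2 • y2 +
      bf m y3 • x3 + bf m x3 • y3 := by
  decide +kernel

/-- An additive function is given by a vector. -/
theorem exists_rep (F : M8 → ZMod 2) (hF : ∀ m n, F (m + n) = F m + F n) : ∃ u, ∀ m, F m = bf m u := by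
  have h0 : F 0 = 0 := by
    have h := hF 0 0
    rw [add_zero] at h
    exact left_eq_add.1 h
  have hs : ∀ (t : ZMod 2) (n : M8), F (t • n) = t * F n := fun t n => by
    rcases zmod2_cases t with e | e <;> rw [e]
    · rw [zero_smul, zero_mul, h0]
    · rw [one_smul, one_mul]
  refine ⟨F e0 • f0 + F f0 • e0 + F x1 • y1 + F y1 • x1 + F x2 • y2 + F y2 • x2 + F x3 • y3 + F y3 • x3,
    fun m => ?_⟩
  conv_lhs => rw [basis_expand m]
  simp only [hF, hs, bf_add_right, bf_smul_right]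
  ring

/-! ### The pointwise stabiliser of a five-dimensional space -/

/-- The vectors fixed by the stabiliser. -/
def kList : List M8 := [e0, x1, y1, k3, k4]

/-- The pointwise stabiliser. -/
def fixK : Set O8 := {g | ∀ n ∈ kList, g.1 n = n}

/-- The vectors orthogonal to the four-dimensional part. -/
def orthList : List M8 := do
  let a ← [(0 : ZMod 2), 1]
  let b ← [(0 : ZMod 2), 1]
  let c ← [(0 : ZMod 2), 1]
  let d ← [(0 : ZMod 2), 1]
  return a • e0 + b • f0 + c • w2 + d • v2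

theorem orth_mem : ∀ m : M8, bf m x1 = 0 → bf m y1 = 0 → bf m k3 = 0 → bf m k4 = 0 → m ∈ orthList := by
  decide +kernel

/-- The admissible triples. -/
def triples : List (M8 × M8 × M8) :=
  (orthList.filter fun x => qf x = 0 ∧ bf x e0 = 1).flatMap fun x =>
    (orthList.filter fun y => qf y = 1 ∧ bf y e0 = 0 ∧ bf x y = 0).flatMap fun y =>
      (orthList.filter fun y' => qf y' = 1 ∧ bf y' e0 = 0 ∧ bf x y' = 0 ∧ bf y y' = 1).map
        fun y' => (x, y, y')

theorem triples_length : triples.length = 24 := by decide +kernel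

theorem basis_expand_t : ∀ m : M8,
    m = bf m f0 • e0 + bf m e0 • f0 + bf m y1 • x1 + bf m x1 • y1 + bf m k4 • k3 + bf m k3 • k4 +
      bf m v2 • w2 + bf m w2 • v2 := by
  decide +kernel

theorem base_orth : bf f0 x1 = 0 ∧ bf f0 y1 = 0 ∧ bf f0 k3 = 0 ∧ bf f0 k4 = 0 ∧ bf f0 w2 = 0 ∧
    bf f0 v2 = 0 ∧ bf w2 x1 = 0 ∧ bf w2 y1 = 0 ∧ bf w2 k3 = 0 ∧ bf w2 k4 = 0 ∧ bf v2 x1 = 0 ∧
    bf v2 y1 = 0 ∧ bf v2 k3 = 0 ∧ bf v2 k4 = 0 ∧ bf w2 e0 = 0 ∧ bf v2 e0 = 0 := by decide +kernel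

theorem card_fixK_le : Nat.card fixK ≤ 24 := by
  classical
  have hmem : ∀ g : fixK, (g.1.1 f0, g.1.1 w2, g.1.1 v2) ∈ triples := by
    rintro ⟨g, hg⟩
    obtain ⟨o1, o2, o3, o4, o5, o6, o7, o8, o9, o10, o11, o12, o13, o14, o15, o16⟩ := base_orth
    have hb : ∀ n ∈ kList, ∀ u, bf (g.1 u) n = bf u n := fun n hn u => by
      conv_lhs => rw [← hg n hn, bf_oGroup]
    have he := hb e0 (by simp [kList])
    have h1 := hb x1 (by simp [kList])
    have h2 := hb y1 (by simp [kList])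
    have h3 := hb k3 (by simp [kList])
    have h4 := hb k4 (by simp [kList])
    simp only [triples, List.mem_flatMap, List.mem_filter, List.mem_map, decide_eq_true_eq, Prod.mk.injEq]
    refine ⟨_, ⟨orth_mem _ ?_ ?_ ?_ ?_, ?_, ?_⟩, _, ⟨orth_mem _ ?_ ?_ ?_ ?_, ?_, ?_, ?_⟩,
      _, ⟨orth_mem _ ?_ ?_ ?_ ?_, ?_, ?_, ?_, ?_⟩, rfl, rfl, rfl⟩
    all_goals simp only [qf_oGroup, bf_oGroup, he, h1, h2, h3, h4, o1, o2, o3, o4, o5, o6, o7, o8, o9,
      o10, o11, o12, o13, o14, o15, o16, q_f0, b_fe, pair_facts.1, pair_facts.2.1, pair_facts.2.2.1]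
  have hinj : Function.Injective fun g : fixK =>
      (⟨_, List.mem_toFinset.2 (hmem g)⟩ : {t // t ∈ triples.toFinset}) := by
    rintro ⟨g, hg⟩ ⟨h, hh⟩ e
    obtain ⟨e1, e2, e3⟩ : g.1 f0 = h.1 f0 ∧ g.1 w2 = h.1 w2 ∧ g.1 v2 = h.1 v2 := by
      simpa using e
    refine Subtype.ext (Subtype.ext (LinearEquiv.ext fun m => ?_))
    show g.1 m = h.1 m
    rw [basis_expand_t m]
    simp only [map_add, map_smul, hg e0 (by simp [kList]), hg x1 (by simp [kList]), hg y1 (by simp [kList]),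
      hg k3 (by simp [kList]), hg k4 (by simp [kList]), hh e0 (by simp [kList]), hh x1 (by simp [kList]),
      hh y1 (by simp [kList]), hh k3 (by simp [kList]), hh k4 (by simp [kList]), e1, e2, e3]
  refine le_trans (Nat.card_le_card_of_injective _ hinj) ?_
  rw [Nat.card_eq_fintype_card, Fintype.card_coe]
  exact le_trans (List.toFinset_card_le _) triples_length.le

/-! ### The standard long root element -/

theorem long_facts :
    (∀ m : M8, bf m x1 = 0 → bf m x2 = 0 → sm x1 x2 m = m) ∧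
    sm x1 w2 (y1 + x3) = y1 + x3 + w2 ∧
    qf (y2 + x3) = 0 ∧ bf (y2 + x3) (x2 + y2 + y3) = 0 ∧ sm (y2 + x3) (x2 + y2 + y3) x1 = x1 ∧
      sm (y2 + x3) (x2 + y2 + y3) (w2 + x2) = w2 + x2 ∧ sm (y2 + x3) (x2 + y2 + y3) w2 = v2 ∧
    qf (y2 + y3) = 0 ∧ bf (y2 + y3) v2 = 0 ∧ sm (y2 + y3) v2 x1 = x1 ∧
      sm (y2 + y3) v2 (w2 + x2) = w2 + x2 ∧ sm (y2 + y3) v2 w2 = w2 + v2 ∧
    bf x1 w2 = 0 ∧ bf x1 (w2 + x2) = 0 ∧ bf w2 x2 = 0 := by decide +kernel

/-- The centraliser of the standard long root element in the complement. -/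
def perp12 : List M8 := wList.filter fun m => bf m x1 = 0 ∧ bf m x2 = 0

/-- The image in the plane. -/
def bar (m : M8) : ZMod 2 × ZMod 2 := (m (.inl 3), m (.inr 3))

/-- The possible twist. -/
def mu (i : ZMod 2) (m : M8) : ZMod 2 := i * m (.inl 3) + (1 + i) * m (.inr 3)

theorem mu_facts : ∀ i : ZMod 2, ∀ w ∈ perp12, ∀ v ∈ perp12,
    qf w + bf v w + mu i w = 0 → qf v + bf v w + mu i v = 0 →
    (bar w = 0 ∨ bar v = 0 ∨ bar w = bar v) ∧ (qf w = 1 → bar w = (1, 1) ∧ (bar v = 0 ∨ bar v = (1, 1))) := by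
  decide +kernel

theorem perp12_bar : ∀ w ∈ perp12, (bar w = 0 → bf w w2 = 0 ∧ w = bf w y1 • x1 + bf w y2 • x2) ∧
    (bar w = (1, 1) → bf w w2 = 0) := by decide +kernel

theorem perp12_expand : ∀ w ∈ perp12, w = bf w y1 • x1 + bf w y2 • x2 + bf w y3 • x3 + bf w x3 • y3 ∧
    w (.inl 3) = bf w y3 ∧ w (.inr 3) = bf w x3 := by decide +kernel

theorem elliptic_small : ∀ d ∈ wList, ∀ d' ∈ wList, bf d w2 = 0 → bf d v2 = 0 → bf d' w2 = 0 → bf d' v2 = 0 →
    qf d = 0 → qf d' = 0 → bf d d' = 0 → d ≠ 0 → d' = 0 ∨ d' = d := by decide +kernel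

theorem elliptic_line : ∀ d ∈ wList, bf d x1 = 0 → bf d y1 = 0 → bf d k3 = 0 → bf d k4 = 0 → qf d = 0 →
    d = 0 := by decide +kernel

end CfsgLib.Co1Invol
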